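import Mathlib.FieldTheory.Finite.Basic
import Mathlib.RingTheory.LittleWedderburn
import Mathlib.GroupTheory.SpecificGroups.Cyclic
import Mathlib.Data.ZMod.Basic
import Mathlib.Tactic

/-!
# Clifford step of EH3: a family of involutory automorphisms of a finite field (helper291)

`card_le_sq` : `|D| ≤ |F|²`, `F` the set of common fixed elements.
-/

set_option autoImplicit false

namespace Cfsg.Agent.Omega.EH3.Clif

/-- a finite field of characteristic two has at most one automorphism of order two -/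
theorem aut_unique {D : Type*} [Field D] [Finite D] (h2 : ∀ x : D, x + x = 0) (σ τ : D ≃+* D)
    (hσ : ∀ x, σ (σ x) = x) (hτ : ∀ x, τ (τ x) = x) (hσ1 : ∃ x, σ x ≠ x) (hτ1 : ∃ x, τ x ≠ x) :
    ∀ x, σ x = τ x := by
  classical
  have : Fact (Nat.Prime 2) := ⟨Nat.prime_two⟩
  have hchar : CharP D 2 := by
    have h1 : (2 : D) = 0 := by rw [← one_add_one_eq_two]; exact h2 1
    exact CharTwo.of_one_ne_zero_of_two_eq_zero one_ne_zero h1
  letI : Algebra (ZMod 2) D := ZMod.algebra D 2
  have hcom : ∀ (f : D ≃+* D) (r : ZMod 2), f (algebraMap (ZMod 2) D r) = algebraMap (ZMod 2) D r := by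
    intro f r
    have h1 : (f : D →+* D).comp (algebraMap (ZMod 2) D) = algebraMap (ZMod 2) D := Subsingleton.elim _ _
    exact RingHom.congr_fun h1 r
  let a : D ≃ₐ[ZMod 2] D := AlgEquiv.ofRingEquiv (f := σ) (hcom σ)
  let b : D ≃ₐ[ZMod 2] D := AlgEquiv.ofRingEquiv (f := τ) (hcom τ)
  have ha : a * a = 1 := AlgEquiv.ext hσ
  have hb : b * b = 1 := AlgEquiv.ext hτ
  have ha1 : a ≠ 1 := by
    rintro h
    obtain ⟨x, hx⟩ := hσ1
    exact hx (AlgEquiv.congr_fun h x)
  have hb1 : b ≠ 1 := by
    rintro h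
    obtain ⟨x, hx⟩ := hτ1
    exact hx (AlgEquiv.congr_fun h x)
  have hcyc : IsCyclic (D ≃ₐ[ZMod 2] D) := inferInstance
  have : Fintype (D ≃ₐ[ZMod 2] D) := Fintype.ofFinite _
  have hle := IsCyclic.card_pow_eq_one_le (α := D ≃ₐ[ZMod 2] D) (n := 2) (by norm_num)
  by_contra hne
  have hab : a ≠ b := by
    rintro h
    apply hne
    intro x
    exact AlgEquiv.congr_fun h x
  have h3 : ({1, a, b} : Finset (D ≃ₐ[ZMod 2] D)) ⊆ Finset.univ.filter fun x => x ^ 2 = 1 := by
    intro x hx
    rw [Finset.mem_insert, Finset.mem_insert, Finset.mem_singleton] at hx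
    rw [Finset.mem_filter]
    refine ⟨Finset.mem_univ _, ?_⟩
    rcases hx with rfl | rfl | rfl
    · exact one_pow 2
    · rw [pow_two]; exact ha
    · rw [pow_two]; exact hb
  have h4 : ({1, a, b} : Finset (D ≃ₐ[ZMod 2] D)).card = 3 := by
    rw [Finset.card_insert_of_notMem, Finset.card_insert_of_notMem, Finset.card_singleton]
    · rwa [Finset.mem_singleton]
    · rw [Finset.mem_insert, Finset.mem_singleton]
      rintro (h | h)
      · exact ha1 h.symm
      · exact hb1 h.symm
  have h5 := Finset.card_le_card h3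
  rw [h4] at h5
  exact absurd (h5.trans hle) (by norm_num)

/-- **`|D| ≤ |F|²`.** -/
theorem card_le_sq {D : Type*} [DivisionRing D] [Finite D] (h2 : ∀ x : D, x + x = 0) {ι : Type*}
    (σ : ι → (D ≃+* D)) (hσ : ∀ i x, σ i (σ i x) = x) :
    Nat.card D ≤ Nat.card {x : D // ∀ i, σ i x = x} ^ 2 := by
  classical
  by_cases hall : ∀ i x, σ i x = x
  · have h1 : Nat.card D ≤ Nat.card {x : D // ∀ i, σ i x = x} :=
      Nat.card_le_card_of_injective (fun x : D => (⟨x, fun i => hall i x⟩ : {x : D // ∀ i, σ i x = x}))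
        fun x y h => congrArg Subtype.val h
    calc Nat.card D ≤ Nat.card {x : D // ∀ i, σ i x = x} := h1
      _ ≤ _ := Nat.le_self_pow (by norm_num) _
  · push Not at hall
    obtain ⟨i₀, x₀, hx₀⟩ := hall
    have key : ∀ i x, σ i x = x ∨ (∀ y, σ i y = σ i₀ y) := by
      intro i x
      by_cases h : ∃ y, σ i y ≠ y
      · right
        letI := littleWedderburn D
        exact aut_unique h2 (σ i) (σ i₀) (hσ i) (hσ i₀) h ⟨x₀, hx₀⟩
      · left
        push Not at h
        exact h x
    have hF : ∀ x, σ i₀ x = x → ∀ i, σ i x = x := by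
      intro x hx i
      rcases key i x with h | h
      · exact h
      · rw [h, hx]
    let tr : D →+ D := AddMonoidHom.id D + (σ i₀ : D →+ D)
    have htr : ∀ x, tr x = x + σ i₀ x := fun x => rfl
    have hrange : ∀ x, ∀ i, σ i (tr x) = tr x := by
      intro x
      apply hF
      rw [htr, map_add, hσ, add_comm]
    have hker : ∀ x, tr x = 0 → ∀ i, σ i x = x := by
      intro x hx
      apply hF
      rw [htr] at hx
      calc σ i₀ x = (x + x) + σ i₀ x := by rw [h2, zero_add]
        _ = x + (x + σ i₀ x) := by rw [add_assoc]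
        _ = x := by rw [hx, add_zero]
    let g : D → {x : D // ∀ i, σ i x = x} := fun x => ⟨tr x, hrange x⟩
    have hfib : ∀ y, Nat.card {x : D // g x = y} ≤ Nat.card {x : D // ∀ i, σ i x = x} := by
      intro y
      by_cases hex : ∃ x₁, g x₁ = y
      · obtain ⟨x₁, hx₁⟩ := hex
        refine Nat.card_le_card_of_injective
          (fun x : {x : D // g x = y} => (⟨x.1 - x₁, ?_⟩ : {x : D // ∀ i, σ i x = x})) ?_
        · apply hker
          have h8 : g x.1 = g x₁ := x.2.trans hx₁.symm
          have h9 : tr x.1 = tr x₁ := congrArg Subtype.val h8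
          rw [map_sub, h9, sub_self]
        · intro x x' h
          apply Subtype.ext
          exact sub_left_injective (congrArg Subtype.val h)
      · have : IsEmpty {x : D // g x = y} := ⟨fun b => hex ⟨b.1, b.2⟩⟩
        rw [Nat.card_of_isEmpty]
        exact Nat.zero_le _
    have h1 : Nat.card D = Nat.card (Σ y, {x : D // g x = y}) :=
      Nat.card_congr (Equiv.sigmaFiberEquiv g).symm
    have := Fintype.ofFinite {x : D // ∀ i, σ i x = x}
    rw [h1, Nat.card_sigma, pow_two]
    calc ∑ y, Nat.card {x : D // g x = y}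
        ≤ ∑ _y : {x : D // ∀ i, σ i x = x}, Nat.card {x : D // ∀ i, σ i x = x} :=
          Finset.sum_le_sum fun y _ => hfib y
      _ = _ := by
          rw [Finset.sum_const, Finset.card_univ, smul_eq_mul,
            Nat.card_eq_fintype_card (α := {x : D // ∀ i, σ i x = x})]

end Cfsg.Agent.Omega.EH3.Clif
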