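import Cfsg.Agent.Omega.EH3.Clif.Sys
import Cfsg.Agent.Omega.EH3.Basic

/-!
# Clifford step of EH3: the ring generated by a subgroup (helper291)

`S ρ N` : the subring of `End V` generated by `ρ(N)`.
* `rep ρ X` : the action of the subgroup `X`;
* `nor_rep` : normalising elements;
* `semisimple_down` : Clifford;
* `semisimple_of_irr`.
-/

set_option autoImplicit false

namespace Cfsg.Agent.Omega.EH3.Clif

open Module

variable {H V : Type*} [Group H] [AddCommGroup V] [Module (ZMod 2) V] (ρ : H →* (V ≃ₗ[ZMod 2] V))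

/-- the additive endomorphism of `h` -/
def rh (h : H) : AddMonoid.End V := ((ρ h : V →ₗ[ZMod 2] V) : V →+ V)

@[simp] theorem rh_apply (h : H) (v : V) : rh ρ h v = ρ h v := rfl

theorem rh_mul (g h : H) : rh ρ (g * h) = rh ρ g * rh ρ h := by
  ext v
  show ρ (g * h) v = ρ g (ρ h v)
  rw [map_mul]; rfl

theorem rh_one : rh ρ (1 : H) = 1 := by
  ext v
  show ρ 1 v = v
  rw [map_one]; rfl

/-- the ring generated by `N` -/
def S (N : Subgroup H) : Subring (AddMonoid.End V) := Subring.closure (rh ρ '' (N : Set H))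

theorem mem_S {N : Subgroup H} {n : H} (hn : n ∈ N) : rh ρ n ∈ S ρ N :=
  Subring.subset_closure ⟨n, hn, rfl⟩

theorem S_mono {N N' : Subgroup H} (h : N ≤ N') : S ρ N ≤ S ρ N' :=
  Subring.closure_mono (Set.image_mono h)

/-- the element of the ring -/
def el {N : Subgroup H} {n : H} (hn : n ∈ N) : S ρ N := ⟨rh ρ n, mem_S ρ hn⟩

@[simp] theorem el_smul {N : Subgroup H} {n : H} (hn : n ∈ N) (v : V) : el ρ hn • v = ρ n v := rfl

theorem S_smul {N : Subgroup H} (s : S ρ N) (v : V) : s • v = (s : AddMonoid.End V) v := rfl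

variable {ρ}

theorem inv_of_sub {N : Subgroup H} (W : Submodule (S ρ N) V) {n : H} (hn : n ∈ N) {v : V}
    (hv : v ∈ W) : ρ n v ∈ W := W.smul_mem (el ρ hn) hv

/-- an invariant subgroup as a submodule -/
def toSub {N : Subgroup H} (W : AddSubgroup V) (hW : ∀ n ∈ N, ∀ v ∈ W, ρ n v ∈ W) :
    Submodule (S ρ N) V where
  carrier := W
  add_mem' := fun hu hv => W.add_mem hu hv
  zero_mem' := W.zero_mem
  smul_mem' := by
    rintro ⟨s, hs⟩
    have key : ∀ v : V, v ∈ W → s v ∈ W := by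
      induction hs using Subring.closure_induction with
      | mem x hx =>
        obtain ⟨n, hn, rfl⟩ := hx
        intro v hv
        exact hW n hn v hv
      | zero => intro v _; exact W.zero_mem
      | one => intro v hv; exact hv
      | add x y _ _ hx hy => intro v hv; exact W.add_mem (hx v hv) (hy v hv)
      | neg x _ hx => intro v hv; exact W.neg_mem (hx v hv)
      | mul x y _ _ hx hy => intro v hv; exact hx _ (hy v hv)
    intro v hv
    exact key v hv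

@[simp] theorem mem_toSub {N : Subgroup H} (W : AddSubgroup V) (hW : ∀ n ∈ N, ∀ v ∈ W, ρ n v ∈ W)
    (v : V) : v ∈ toSub W hW ↔ v ∈ W := Iff.rfl

/-- as a vector space -/
def toZ {N : Subgroup H} (W : Submodule (S ρ N) V) : Submodule (ZMod 2) V where
  carrier := W
  add_mem' := fun hu hv => W.add_mem hu hv
  zero_mem' := W.zero_mem
  smul_mem' := by
    intro c v hv
    rcases zmod_two c with rfl | rfl
    · rw [zero_smul]; exact W.zero_mem
    · rw [one_smul]; exact hv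

@[simp] theorem mem_toZ {N : Subgroup H} (W : Submodule (S ρ N) V) (v : V) : v ∈ toZ W ↔ v ∈ W := Iff.rfl

/-- conjugation of ring elements -/
theorem conj_mem {N N' : Subgroup H} {g : H} (hg : ∀ n ∈ N, g⁻¹ * n * g ∈ N') {f : AddMonoid.End V}
    (hf : f ∈ S ρ N) : rh ρ g⁻¹ * f * rh ρ g ∈ S ρ N' := by
  have h1 : rh ρ g * rh ρ g⁻¹ = 1 := by rw [← rh_mul, mul_inv_cancel, rh_one]
  have h2 : rh ρ g⁻¹ * rh ρ g = 1 := by rw [← rh_mul, inv_mul_cancel, rh_one]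
  induction hf using Subring.closure_induction with
  | mem x hx =>
    obtain ⟨n, hn, rfl⟩ := hx
    rw [← rh_mul, ← rh_mul]
    exact mem_S ρ (hg n hn)
  | zero => rw [mul_zero, zero_mul]; exact Subring.zero_mem _
  | one => rw [mul_one, h2]; exact Subring.one_mem _
  | add x y _ _ hx hy => rw [mul_add, add_mul]; exact Subring.add_mem _ hx hy
  | neg x _ hx => rw [mul_neg, neg_mul]; exact Subring.neg_mem _ hx
  | mul x y _ _ hx hy =>
    have h3 : rh ρ g⁻¹ * (x * y) * rh ρ g = (rh ρ g⁻¹ * x * rh ρ g) * (rh ρ g⁻¹ * y * rh ρ g) := by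
      calc rh ρ g⁻¹ * (x * y) * rh ρ g = rh ρ g⁻¹ * x * 1 * y * rh ρ g := by rw [mul_one]; simp only [mul_assoc]
        _ = rh ρ g⁻¹ * x * (rh ρ g * rh ρ g⁻¹) * y * rh ρ g := by rw [h1]
        _ = _ := by simp only [mul_assoc]
    rw [h3]
    exact Subring.mul_mem _ hx hy

theorem conj_apply {g : H} (f : AddMonoid.End V) (v : V) :
    ρ g ((rh ρ g⁻¹ * f * rh ρ g) v) = f (ρ g v) := by
  show ρ g (ρ g⁻¹ (f (ρ g v))) = f (ρ g v)
  have : ρ g (ρ g⁻¹ (f (ρ g v))) = ρ (g * g⁻¹) (f (ρ g v)) := by rw [map_mul]; rfl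
  rw [this, mul_inv_cancel, map_one]; rfl

/-- commuting groups generate commuting rings -/
theorem S_comm {N₁ N₂ : Subgroup H} (hc : ∀ x ∈ N₁, ∀ y ∈ N₂, x * y = y * x) :
    ∀ f ∈ S ρ N₁, ∀ g ∈ S ρ N₂, f * g = g * f := by
  have h1 : ∀ n ∈ N₁, ∀ g ∈ S ρ N₂, rh ρ n * g = g * rh ρ n := by
    intro n hn g hg
    induction hg using Subring.closure_induction with
    | mem x hx =>
      obtain ⟨m, hm, rfl⟩ := hx
      rw [← rh_mul, ← rh_mul, hc n hn m hm]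
    | zero => rw [zero_mul, mul_zero]
    | one => rw [one_mul, mul_one]
    | add x y _ _ hx hy => rw [mul_add, add_mul, hx, hy]
    | neg x _ hx => rw [mul_neg, neg_mul, hx]
    | mul x y _ _ hx hy => rw [← mul_assoc, hx, mul_assoc, hy, mul_assoc]
  intro f hf g hg
  induction hf using Subring.closure_induction with
  | mem x hx =>
    obtain ⟨n, hn, rfl⟩ := hx
    exact h1 n hn g hg
  | zero => rw [zero_mul, mul_zero]
  | one => rw [one_mul, mul_one]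
  | add x y _ _ hx hy => rw [mul_add, add_mul, hx, hy]
  | neg x _ hx => rw [mul_neg, neg_mul, hx]
  | mul x y _ _ hx hy => rw [mul_assoc, hy, ← mul_assoc, hx, mul_assoc]

/-- the subring of `S ρ N` belonging to a subgroup -/
def sub (N M : Subgroup H) : Subring (S ρ N) := (S ρ M).comap (S ρ N).subtype

theorem mem_sub {N M : Subgroup H} {s : S ρ N} : s ∈ sub (ρ := ρ) N M ↔ (s : AddMonoid.End V) ∈ S ρ M := Iff.rfl

theorem sub_sup {N₁ N₂ : Subgroup H} :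
    sub (ρ := ρ) (N₁ ⊔ N₂) N₁ ⊔ sub (N₁ ⊔ N₂) N₂ = ⊤ := by
  rw [eq_top_iff]
  set T := sub (ρ := ρ) (N₁ ⊔ N₂) N₁ ⊔ sub (N₁ ⊔ N₂) N₂ with hT
  let G : Subgroup H :=
    { carrier := {n | (∃ s ∈ T, (s : AddMonoid.End V) = rh ρ n) ∧ ∃ s ∈ T, (s : AddMonoid.End V) = rh ρ n⁻¹}
      one_mem' := by
        constructor
        · exact ⟨1, T.one_mem, (rh_one ρ).symm⟩
        · exact ⟨1, T.one_mem, by rw [inv_one]; exact (rh_one ρ).symm⟩
      mul_mem' := by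
        rintro x y ⟨⟨s, hs, hsx⟩, ⟨s', hs', hsx'⟩⟩ ⟨⟨t, ht, hty⟩, ⟨t', ht', hty'⟩⟩
        constructor
        · exact ⟨s * t, T.mul_mem hs ht, by rw [rh_mul, ← hsx, ← hty]; rfl⟩
        · exact ⟨t' * s', T.mul_mem ht' hs', by rw [mul_inv_rev, rh_mul, ← hsx', ← hty']; rfl⟩
      inv_mem' := by
        rintro x ⟨h, h'⟩
        refine ⟨h', ?_⟩
        rwa [inv_inv] }
  have h1 : N₁ ⊔ N₂ ≤ G := by
    apply sup_le
    · intro n hn
      exact ⟨⟨el ρ (Subgroup.mem_sup_left hn), (le_sup_left : sub (ρ := ρ) (N₁ ⊔ N₂) N₁ ≤ T)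
          (mem_sub.2 (mem_S ρ hn)), rfl⟩,
        ⟨el ρ (Subgroup.mem_sup_left (N₁.inv_mem hn)), (le_sup_left : sub (ρ := ρ) (N₁ ⊔ N₂) N₁ ≤ T)
          (mem_sub.2 (mem_S ρ (N₁.inv_mem hn))), rfl⟩⟩
    · intro n hn
      exact ⟨⟨el ρ (Subgroup.mem_sup_right hn), (le_sup_right : sub (ρ := ρ) (N₁ ⊔ N₂) N₂ ≤ T)
          (mem_sub.2 (mem_S ρ hn)), rfl⟩,
        ⟨el ρ (Subgroup.mem_sup_right (N₂.inv_mem hn)), (le_sup_right : sub (ρ := ρ) (N₁ ⊔ N₂) N₂ ≤ T)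
          (mem_sub.2 (mem_S ρ (N₂.inv_mem hn))), rfl⟩⟩
  have h2 : S ρ (N₁ ⊔ N₂) ≤ T.map (S ρ (N₁ ⊔ N₂)).subtype := by
    apply Subring.closure_le.2
    rintro _ ⟨n, hn, rfl⟩
    obtain ⟨s, hs, hsn⟩ := (h1 hn).1
    exact ⟨s, hs, hsn⟩
  rintro ⟨s, hs⟩ -
  obtain ⟨t, ht, hts⟩ := h2 hs
  have : t = ⟨s, hs⟩ := Subtype.ext hts
  rw [← this]
  exact ht

/-! ### the action of a subgroup -/

variable (ρ) in
/-- the action of a subgroup -/
def rep (X : Subgroup H) : Act X V :=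
  Act.of (fun x => ((ρ (x : H) : V →ₗ[ZMod 2] V) : V →+ V))
    (fun v => by show ρ ((1 : X) : H) v = v; rw [Subgroup.coe_one, map_one]; rfl)
    (fun x y v => by
      show ρ ((x * y : X) : H) v = ρ x (ρ y v)
      rw [Subgroup.coe_mul, map_mul]; rfl)

@[simp] theorem rep_apply (X : Subgroup H) (x : X) (v : V) : rep ρ X x v = ρ (x : H) v := rfl

theorem rep_symm (X : Subgroup H) (x : X) (v : V) : (rep ρ X x).symm v = ρ (x : H)⁻¹ v := by
  rw [Act.symm_apply]; rfl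

theorem nor_rep {X N : Subgroup H} (x : X) (h : ∀ n ∈ N, (x : H)⁻¹ * n * x ∈ N)
    (h' : ∀ n ∈ N, (x : H) * n * (x : H)⁻¹ ∈ N) : Nor (S ρ N) (rep ρ X x) := by
  constructor
  · rintro ⟨r, hr⟩
    refine ⟨⟨_, conj_mem h hr⟩, ?_⟩
    intro v
    exact (conj_apply r v).symm
  · rintro ⟨r, hr⟩
    have h'' : ∀ n ∈ N, ((x : H)⁻¹)⁻¹ * n * (x : H)⁻¹ ∈ N := by
      intro n hn
      rw [inv_inv]; exact h' n hn
    refine ⟨⟨_, conj_mem h'' hr⟩, ?_⟩
    intro v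
    rw [rep_symm, rep_symm]
    exact (conj_apply (g := (x : H)⁻¹) r v).symm

/-- restriction to an invariant submodule, rings of subgroups -/
theorem nor_sub {X N M : Subgroup H} (hMN : M ≤ N) (U : Submodule (S ρ N) V)
    (hU : ∀ x : X, ∀ v ∈ U, rep ρ X x v ∈ U) (x : X) (h : ∀ n ∈ M, (x : H)⁻¹ * n * x ∈ M)
    (h' : ∀ n ∈ M, (x : H) * n * (x : H)⁻¹ ∈ M) :
    Nor (sub (ρ := ρ) N M) (res (rep ρ X) U hU x) := by
  constructor
  · rintro ⟨⟨r, hr⟩, hr'⟩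
    refine ⟨⟨⟨_, S_mono ρ hMN (conj_mem h hr')⟩, conj_mem h hr'⟩, ?_⟩
    intro v
    apply Subtype.ext
    exact (conj_apply r (v : V)).symm
  · rintro ⟨⟨r, hr⟩, hr'⟩
    have h'' : ∀ n ∈ M, ((x : H)⁻¹)⁻¹ * n * (x : H)⁻¹ ∈ M := by
      intro n hn
      rw [inv_inv]; exact h' n hn
    refine ⟨⟨⟨_, S_mono ρ hMN (conj_mem h'' hr')⟩, conj_mem h'' hr'⟩, ?_⟩
    intro v
    apply Subtype.ext
    have h3 : ∀ u : U, (((res (rep ρ X) U hU x).symm u : U) : V) = ρ (x : H)⁻¹ u := by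
      intro u
      rw [res_symm, rep_symm]
    show r ((((res (rep ρ X) U hU x).symm v : U) : V)) = _
    rw [h3, h3]
    exact (conj_apply (g := (x : H)⁻¹) r (v : V)).symm

/-- restriction to an invariant submodule, swapping elements -/
theorem swp_sub {X N M M' : Subgroup H} (hMN : M ≤ N) (hMN' : M' ≤ N) (U : Submodule (S ρ N) V)
    (hU : ∀ x : X, ∀ v ∈ U, rep ρ X x v ∈ U) (x : X) (h : ∀ n ∈ M, (x : H) * n * (x : H)⁻¹ ∈ M')
    (h' : ∀ n ∈ M', (x : H)⁻¹ * n * (x : H) ∈ M) :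
    Swp (sub (ρ := ρ) N M) (sub (ρ := ρ) N M') (res (rep ρ X) U hU x) := by
  have h'' : ∀ n ∈ M, ((x : H)⁻¹)⁻¹ * n * (x : H)⁻¹ ∈ M' := by
    intro n hn
    rw [inv_inv]; exact h n hn
  constructor
  · rintro ⟨⟨r, hr⟩, hr'⟩
    refine ⟨⟨⟨_, S_mono ρ hMN' (conj_mem h'' hr')⟩, conj_mem h'' hr'⟩, ?_⟩
    intro v
    apply Subtype.ext
    show ρ (x : H) (r v) = ρ (x : H)⁻¹⁻¹ (r (ρ (x : H)⁻¹ (ρ (x : H) v)))
    have h4 : ρ (x : H)⁻¹ (ρ (x : H) (v : V)) = v := by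
      have : ρ (x : H)⁻¹ (ρ (x : H) (v : V)) = ρ ((x : H)⁻¹ * x) v := by rw [map_mul]; rfl
      rw [this, inv_mul_cancel, map_one]; rfl
    rw [h4, inv_inv]
  · rintro ⟨⟨r, hr⟩, hr'⟩
    refine ⟨⟨⟨_, S_mono ρ hMN (conj_mem h' hr')⟩, conj_mem h' hr'⟩, ?_⟩
    intro v
    apply Subtype.ext
    exact conj_apply r (v : V)

/-! ### Clifford -/

theorem socle_inv {N M : Subgroup H} (hn : ∀ n ∈ N, ∀ m ∈ M, n * m * n⁻¹ ∈ M) {n : H} (hn1 : n ∈ N) {v : V}
    (hv : v ∈ sSup {m : Submodule (S ρ M) V | IsSimpleModule (S ρ M) m}) :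
    ρ n v ∈ sSup {m : Submodule (S ρ M) V | IsSimpleModule (S ρ M) m} := by
  have hn' : ∀ m ∈ M, n⁻¹ * m * n ∈ M := by
    intro m hm
    have := hn n⁻¹ (N.inv_mem hn1) m hm
    rwa [inv_inv] at this
  have hNor : Nor (S ρ M) (rep ρ N ⟨n, hn1⟩) := nor_rep ⟨n, hn1⟩ hn' (hn n hn1)
  have h1 : csIso (rep ρ N ⟨n, hn1⟩) hNor (sSup {m : Submodule (S ρ M) V | IsSimpleModule (S ρ M) m}) ≤
      sSup {m : Submodule (S ρ M) V | IsSimpleModule (S ρ M) m} := by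
    rw [OrderIso.map_sSup]
    apply iSup₂_le
    intro m hm
    exact le_sSup (cs_simple hNor hm)
  have h2 : rep ρ N ⟨n, hn1⟩ v ∈ cs (rep ρ N ⟨n, hn1⟩) hNor
      (sSup {m : Submodule (S ρ M) V | IsSimpleModule (S ρ M) m}) := (apply_mem_cs (hg := hNor)).2 hv
  exact h1 h2

theorem semisimple_down {N M : Subgroup H} [Finite V] (hMN : M ≤ N)
    (hn : ∀ n ∈ N, ∀ m ∈ M, n * m * n⁻¹ ∈ M) (hss : IsSemisimpleModule (S ρ N) V) :
    IsSemisimpleModule (S ρ M) V := by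
  apply IsSemisimpleModule.of_sSup_simples_eq_top
  generalize hW : sSup {m : Submodule (S ρ M) V | IsSimpleModule (S ρ M) m} = W
  have hinv : ∀ n ∈ N, ∀ v ∈ W.toAddSubgroup, ρ n v ∈ W.toAddSubgroup := by
    intro n hn1 v hv
    rw [← hW] at hv ⊢
    exact socle_inv hn hn1 hv
  obtain ⟨W₂, hW₂⟩ := exists_isCompl (toSub W.toAddSubgroup hinv)
  by_contra hne
  have hW₂ne : W₂ ≠ ⊥ := by
    intro hb
    apply hne
    rw [hb] at hW₂
    have h1 : toSub W.toAddSubgroup hinv = ⊤ := by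
      have h2 := hW₂.sup_eq_top
      rwa [sup_bot_eq] at h2
    rw [eq_top_iff]
    intro v _
    have h3 : v ∈ toSub W.toAddSubgroup hinv := by rw [h1]; exact Submodule.mem_top
    exact (mem_toSub _ _ _).1 h3
  obtain ⟨u, hu, hu0⟩ := Submodule.exists_mem_ne_zero_of_ne_bot hW₂ne
  have hinv₂ : ∀ n ∈ M, ∀ v ∈ W₂.toAddSubgroup, ρ n v ∈ W₂.toAddSubgroup :=
    fun n hn1 v hv => inv_of_sub W₂ (hMN hn1) hv
  have hW₃ne : toSub W₂.toAddSubgroup hinv₂ ≠ ⊥ := by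
    intro h
    apply hu0
    have h1 : u ∈ toSub W₂.toAddSubgroup hinv₂ := (mem_toSub _ _ _).2 hu
    rwa [h, Submodule.mem_bot] at h1
  obtain ⟨A, hA, hAle⟩ := (eq_bot_or_exists_atom_le (toSub W₂.toAddSubgroup hinv₂)).resolve_left hW₃ne
  obtain ⟨u', hu', hu0'⟩ := Submodule.exists_mem_ne_zero_of_ne_bot hA.1
  apply hu0'
  have h1 : u' ∈ W := by
    rw [← hW]
    exact (le_sSup (isSimpleModule_iff_isAtom.2 hA) : A ≤ _) hu'
  have h2 : u' ∈ W₂ := (mem_toSub _ _ _).1 (hAle hu')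
  exact (Submodule.disjoint_def.1 hW₂.disjoint) u' ((mem_toSub _ _ _).2 h1) h2

theorem simple_of_irr [Nontrivial V]
    (hirr : ∀ W : Submodule (ZMod 2) V, (∀ h, ∀ v ∈ W, ρ h v ∈ W) → W = ⊥ ∨ W = ⊤) :
    IsSimpleModule (S ρ (⊤ : Subgroup H)) V := by
  rw [isSimpleModule_iff]
  refine { exists_pair_ne := ⟨⊥, ⊤, bot_ne_top⟩, eq_bot_or_eq_top := ?_ }
  intro W
  rcases hirr (toZ W) (fun h v hv => inv_of_sub W (Subgroup.mem_top h) hv) with h | h
  · left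
    rw [eq_bot_iff]
    intro v hv
    have : v ∈ toZ W := hv
    rw [h, Submodule.mem_bot] at this
    rw [Submodule.mem_bot]; exact this
  · right
    rw [eq_top_iff]
    intro v _
    have : v ∈ toZ W := by rw [h]; exact Submodule.mem_top
    exact this

theorem semisimple_normal [Finite V] [Nontrivial V]
    (hirr : ∀ W : Submodule (ZMod 2) V, (∀ h, ∀ v ∈ W, ρ h v ∈ W) → W = ⊥ ∨ W = ⊤)
    {N : Subgroup H} (hN : N.Normal) : IsSemisimpleModule (S ρ N) V := by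
  have := simple_of_irr hirr
  exact semisimple_down (N := ⊤) le_top (fun n _ m hm => hN.conj_mem m hm n) inferInstance

end Cfsg.Agent.Omega.EH3.Clif
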