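import Cfsg.Agent.Omega.EH3.Clif.Ends

/-!
# Clifford step of EH3: the component is unique (helper291)

`component_unique` : a group `H` in the configuration `Cfg`, all of whose components have even order, has at most one
component.
-/

set_option autoImplicit false

namespace Cfsg.Agent.Omega.EH3.Clif

open Module Subgroup

variable {H V : Type*} [Group H] [AddCommGroup V] [Module (ZMod 2) V]
  {ρ : H →* (V ≃ₗ[ZMod 2] V)} {b : LinearMap.BilinForm (ZMod 2) V} {q : V → ZMod 2}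
  {a : V} {D : Submodule (ZMod 2) V} {X : Subgroup H} {w : ℕ}

theorem semisimple_factor (C : Cfg ρ b q a D X w) {N₁ N₂ : Subgroup H}
    (hcomm : ∀ x ∈ N₁, ∀ y ∈ N₂, x * y = y * x) (hN : (N₁ ⊔ N₂).Normal) :
    IsSemisimpleModule (S ρ N₁) V := by
  have := C.finite_V
  have : Nontrivial V := ⟨a, 0, C.a_ne⟩
  refine semisimple_down (N := N₁ ⊔ N₂) le_sup_left ?_ (semisimple_normal C.irr hN)
  have h1 : N₁ ⊔ N₂ ≤ normalizer (N₁ : Set H) := by
    apply sup_le le_normalizer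
    intro y hy
    rw [mem_normalizer_iff]
    intro x
    have key : ∀ x ∈ N₁, y * x * y⁻¹ = x := by
      intro x hx
      rw [← hcomm x hx y hy, mul_inv_cancel_right]
    constructor
    · intro hx
      rw [key x hx]; exact hx
    · intro hx
      have h2 := key _ hx
      have h3 : y * x * y⁻¹ = x := by
        have h4 : y * (y * x * y⁻¹) * y⁻¹ = y * x * y⁻¹ := h2
        have h5 : y * x * y⁻¹ = x := mul_left_cancel (mul_right_cancel h4)
        exact h5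
      rwa [h3] at hx
  intro n hn m hm
  exact (mem_normalizer_iff.1 (h1 hn) m).1 hm

/-- an element trivial on `c` for all of `N₁`, `N₁` being `X`-invariant -/
theorem cent_of_triv {C : Cfg ρ b q a D X w} {N : Subgroup H} {c U : Submodule (S ρ N) V} {B : Subgroup H}
    {e : V} {k : ℕ} (F : Frame C N c U B e k) {Q : H → Prop} {x : H} (hx : x ∈ X)
    (hQ : ∀ y ∈ X, ∀ n, Q n → Q (y⁻¹ * n * y)) (h : ∀ n, Q n → ∀ v ∈ c, ρ (cm n x) v = v) :
    ∀ n, Q n → x * n = n * x := by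
  intro n hn
  apply comm_of_cm
  apply C.ext
  intro v
  rw [C.ρ_one]
  refine F.ind (fun v => ρ (cm n x) v = v) (map_zero _) ?_ ?_ v
  · intro u v hu hv
    rw [map_add, hu, hv]
  · intro y hy v hv
    have h1 : y⁻¹ * cm n x * (y⁻¹)⁻¹ = cm (y⁻¹ * n * (y⁻¹)⁻¹) x :=
      conj_cm (C.X_comm (X.inv_mem hy) hx)
    rw [inv_inv] at h1
    have h2 : cm n x * y = y * cm (y⁻¹ * n * y) x := by
      rw [← h1]; group
    rw [← C.ρ_mul, h2, C.ρ_mul, h _ (hQ y hy n hn) v hv]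

theorem caseA (C : Cfg ρ b q a D X w) {N₁ N₂ : Subgroup H} (hs : Comp.Split N₁ N₂)
    (hX₁ : X ≤ normalizer (N₁ : Set H)) (hX₂ : X ≤ normalizer (N₂ : Set H)) : False := by
  have := C.finite_H
  obtain ⟨c, U, B, e, k, F⟩ := exists_frame C hs.norm
  have hX₁' : ∀ x ∈ X, ∀ n ∈ N₁, x * n * x⁻¹ ∈ N₁ := fun x hx n hn => (mem_normalizer_iff.1 (hX₁ hx) n).1 hn
  have hX₂' : ∀ x ∈ X, ∀ n ∈ N₂, x * n * x⁻¹ ∈ N₂ := fun x hx n hn => (mem_normalizer_iff.1 (hX₂ hx) n).1 hn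
  have hi : ∀ {M : Subgroup H}, (∀ x ∈ X, ∀ n ∈ M, x * n * x⁻¹ ∈ M) → ∀ x ∈ X, ∀ n ∈ M, x⁻¹ * n * x ∈ M := by
    intro M hM x hx n hn
    have := hM _ (X.inv_mem hx) n hn
    rwa [inv_inv] at this
  have hcomm' : ∀ x ∈ N₂, ∀ y ∈ N₁, x * y = y * x := fun x hx y hy => (hs.comm y hy x hx).symm
  have hnorm' : (N₂ ⊔ N₁).Normal := by rw [sup_comm]; exact hs.norm
  refine one (C := C) hs.comm F (fun x hx => hX₁' x (F.BX hx)) (fun x hx => hX₂' x (F.BX hx))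
    (Z₁ := X ⊓ centralizer (N₁ : Set H)) (Z₂ := X ⊓ centralizer (N₂ : Set H))
    (card_cent_le_of C (semisimple_factor C hs.comm hs.norm) hX₁ hs.perf₁ hs.ne₁)
    (card_cent_le_of C (semisimple_factor C hcomm' hnorm') hX₂ hs.perf₂ hs.ne₂) ?_ ?_
  · intro x hx h
    refine ⟨F.BX hx, mem_centralizer_iff.2 ?_⟩
    intro n hn
    exact (cent_of_triv F (Q := fun n => n ∈ N₁) (F.BX hx) (fun y hy n hn => hi hX₁' y hy n hn) h n hn).symm
  · intro x hx h
    refine ⟨F.BX hx, mem_centralizer_iff.2 ?_⟩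
    intro n hn
    exact (cent_of_triv F (Q := fun n => n ∈ N₂) (F.BX hx) (fun y hy n hn => hi hX₂' y hy n hn) h n hn).symm

theorem perf_sup {N₁ N₂ : Subgroup H} (h₁ : ⁅N₁, N₁⁆ = N₁) (h₂ : ⁅N₂, N₂⁆ = N₂) :
    ⁅N₁ ⊔ N₂, N₁ ⊔ N₂⁆ = N₁ ⊔ N₂ := by
  apply le_antisymm (commutator_le_self _)
  apply sup_le
  · calc N₁ = ⁅N₁, N₁⁆ := h₁.symm
      _ ≤ _ := commutator_mono le_sup_left le_sup_left
  · calc N₂ = ⁅N₂, N₂⁆ := h₂.symm
      _ ≤ _ := commutator_mono le_sup_right le_sup_right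

theorem mem_cent_sup {N₁ N₂ : Subgroup H} {x : H} (h₁ : ∀ n ∈ N₁, x * n = n * x)
    (h₂ : ∀ n ∈ N₂, x * n = n * x) : x ∈ centralizer ((N₁ ⊔ N₂ : Subgroup H) : Set H) := by
  have key : N₁ ⊔ N₂ ≤ centralizer {x} := by
    apply sup_le
    · intro n hn
      rw [mem_centralizer_iff]
      rintro _ rfl
      exact h₁ n hn
    · intro n hn
      rw [mem_centralizer_iff]
      rintro _ rfl
      exact h₂ n hn
  rw [mem_centralizer_iff]
  intro n hn
  exact ((mem_centralizer_iff.1 (key hn)) x rfl).symm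

theorem caseB (C : Cfg ρ b q a D X w) {N₁ N₂ A' : Subgroup H} (hs : Comp.Split N₁ N₂) (hA' : A' ≤ X)
    (hidx : A'.relIndex X = 2) (hAN : A' ≤ normalizer (N₁ : Set H))
    (hsw : ∀ x ∈ X, x ∉ A' → N₁.map (MulAut.conj x).toMonoidHom = N₂)
    (hJ : ∀ J ≤ N₁, N₁ ≤ normalizer (J : Set H) → A' ≤ normalizer (J : Set H) →
      J = N₁ ∨ J ≤ centralizer (N₁ : Set H)) (hev : Even (Nat.card N₁)) : False := by
  have := C.finite_H
  obtain ⟨α, hα, hαA, hcs⟩ := relIndex_eq_two_iff_exists_notMem_and.1 hidx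
  obtain ⟨c, U, B, e, k, F⟩ := exists_frame C hs.norm
  have hA₁ : ∀ x ∈ A', ∀ n ∈ N₁, x * n * x⁻¹ ∈ N₁ := fun x hx n hn => (mem_normalizer_iff.1 (hAN hx) n).1 hn
  have hsw₁ : ∀ x ∈ X, x ∉ A' → ∀ n ∈ N₁, x * n * x⁻¹ ∈ N₂ := by
    intro x hx hxA n hn
    rw [← hsw x hx hxA]
    exact ⟨n, hn, rfl⟩
  have hsw₂ : ∀ x ∈ X, x ∉ A' → ∀ n ∈ N₂, x⁻¹ * n * x ∈ N₁ := by
    intro x hx hxA n hn
    rw [← hsw x hx hxA] at hn
    obtain ⟨m, hm, rfl⟩ := hn
    have : x⁻¹ * (x * m * x⁻¹) * x = m := by group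
    show x⁻¹ * (x * m * x⁻¹) * x ∈ N₁
    rw [this]; exact hm
  have hsw₂' : ∀ x ∈ X, x ∉ A' → ∀ n ∈ N₂, x * n * x⁻¹ ∈ N₁ := by
    intro x hx hxA n hn
    have := hsw₂ x hx hxA n hn
    rw [C.X_inv hx] at this
    rw [C.X_inv hx]; exact this
  -- products of two elements outside `A'`
  have hprod : ∀ x ∈ X, x ∉ A' → ∀ y ∈ X, y ∉ A' → x * y ∈ A' := by
    intro x hx hxA y hy hyA
    have h1 : ∀ z ∈ X, z ∉ A' → α * z ∈ A' := by
      intro z hz hzA
      rcases hcs z hz with h | h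
      · rwa [C.X_comm hz hα] at h
      · exact absurd h hzA
    have h2 := A'.mul_mem (h1 x hx hxA) (h1 y hy hyA)
    have h3 : α * x * (α * y) = x * y := by
      calc α * x * (α * y) = (x * α) * (α * y) := by rw [C.X_comm hα hx]
        _ = x * (α * α) * y := by group
        _ = x * y := by rw [C.X_sq α hα, mul_one]
    rwa [h3] at h2
  have hA₂ : ∀ x ∈ A', ∀ n ∈ N₂, x * n * x⁻¹ ∈ N₂ := by
    intro x hx n hn
    have h1 : α * x ∉ A' := by
      intro h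
      apply hαA
      have := A'.mul_mem h (A'.inv_mem hx)
      rwa [mul_inv_cancel_right] at this
    have h2 := hsw₁ (α * x) (X.mul_mem hα (hA' hx)) h1 (α * n * α⁻¹) (hsw₂' α hα hαA n hn)
    have h3 : α * x * (α * n * α⁻¹) * (α * x)⁻¹ = x * n * x⁻¹ := by
      have h4 : α * x = x * α := C.X_comm hα (hA' hx)
      calc α * x * (α * n * α⁻¹) * (α * x)⁻¹ = (x * α) * (α * n * α⁻¹) * (x * α)⁻¹ := by rw [h4]
        _ = x * (α * α) * n * (α * α)⁻¹ * x⁻¹ := by group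
        _ = x * n * x⁻¹ := by rw [C.X_sq α hα]; group
    rwa [h3] at h2
  have hcent := C.card_cent_le_of_perfect hs.norm (perf_sup hs.perf₁ hs.perf₂) (by
    intro h
    apply hs.ne₁
    rw [eq_bot_iff, ← h]
    exact le_sup_left)
  by_cases hBA : ∃ b₀ ∈ B, b₀ ∉ A'
  · -- the factors are swapped in `B`
    obtain ⟨b₀, hb₀, hb₀A⟩ := hBA
    have hb₀X := F.BX hb₀
    have hidx' : A'.relIndex B = 2 := by
      rw [relIndex_eq_two_iff_exists_notMem_and]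
      refine ⟨b₀, hb₀, hb₀A, ?_⟩
      intro x hx
      by_cases hxA : x ∈ A'
      · exact Or.inr hxA
      · exact Or.inl (hprod x (F.BX hx) hxA b₀ hb₀X hb₀A)
    refine two (C := C) hs.comm F hs.norm hidx' hA₁ hb₀ hb₀A (hsw₁ b₀ hb₀X hb₀A) (hsw₂ b₀ hb₀X hb₀A)
      (Z := X ⊓ centralizer ((N₁ ⊔ N₂ : Subgroup H) : Set H)) hcent ?_
    intro x hxB hxA h
    have hxX := F.BX hxB
    -- also for `N₂`
    have h' : ∀ n ∈ N₂, ∀ v ∈ c, ρ (cm n x) v = v := by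
      intro n hn v hv
      have h1 := hsw₂ b₀ hb₀X hb₀A n hn
      have h2 : b₀⁻¹ * cm n x * (b₀⁻¹)⁻¹ = cm (b₀⁻¹ * n * (b₀⁻¹)⁻¹) x :=
        conj_cm (C.X_comm (X.inv_mem hb₀X) hxX)
      rw [inv_inv] at h2
      have h3 : cm n x = b₀ * cm (b₀⁻¹ * n * b₀) x * b₀⁻¹ := by rw [← h2]; group
      have h4 : ρ b₀⁻¹ v ∈ c := (F.memB _ (X.inv_mem hb₀X)).1 (B.inv_mem hb₀) v hv
      rw [h3, C.ρ_mul, C.ρ_mul, h _ h1 _ h4, C.ρ_apply_inv]
    have hall := cent_of_triv F (Q := fun n => n ∈ N₁ ∨ n ∈ N₂) hxX (by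
      rintro y hy n (hn | hn)
      · by_cases hyA : y ∈ A'
        · left
          have := hA₁ y⁻¹ (A'.inv_mem hyA) n hn
          rwa [inv_inv] at this
        · right
          have := hsw₁ y hy hyA n hn
          rw [C.X_inv hy] at this ⊢
          exact this
      · by_cases hyA : y ∈ A'
        · right
          have := hA₂ y⁻¹ (A'.inv_mem hyA) n hn
          rwa [inv_inv] at this
        · left
          exact hsw₂ y hy hyA n hn) (by
      rintro n (hn | hn) v hv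
      · exact h n hn v hv
      · exact h' n hn v hv)
    exact ⟨hxX, mem_cent_sup (fun n hn => hall n (Or.inl hn)) (fun n hn => hall n (Or.inr hn))⟩
  · -- `B = A'`
    push Not at hBA
    have hcardA : Nat.card A' * 2 = 2 ^ (w - 1) := by
      rw [← C.card_X, ← hidx]
      have h1 : Nat.card (A'.subgroupOf X) = Nat.card A' := Nat.card_congr (subgroupOfEquivOfLe hA').toEquiv
      rw [← h1]
      exact (A'.subgroupOf X).card_mul_index
    have hw := C.six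
    have hBc := F.card_B
    have hk1 : k = 1 := by
      have h1 := F.k_le
      have h2 : Nat.card B ≤ Nat.card A' :=
        Nat.card_le_card_of_injective (Subgroup.inclusion hBA) (Subgroup.inclusion_injective hBA)
      interval_cases k
      · exfalso
        rw [Nat.sub_zero] at hBc
        rw [hBc] at h2
        have h3 : 0 < Nat.card A' := Nat.card_pos
        omega
      · rfl
    have hBeq : B = A' := by
      apply eq_of_le_of_card_ge hBA
      rw [hBc, hk1]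
      have h1 : w - 1 = (w - 1 - 1) + 1 := by omega
      rw [h1, pow_succ] at hcardA
      exact (Nat.eq_of_mul_eq_mul_right (by norm_num) hcardA).le
    have hαB : α ∉ B := by rw [hBeq]; exact hαA
    have hcc : ∀ x ∈ A', ∀ v ∈ c, ρ x v ∈ c := fun x hx => (F.memB x (hA' hx)).1 (by rw [hBeq]; exact hx)
    have hcN : ∀ n ∈ N₁ ⊔ N₂, ∀ v ∈ c, ρ n v ∈ c := fun n hn v hv => inv_of_sub c hn hv
    let V₁ : Submodule (ZMod 2) V := toZ c
    let V₂ : Submodule (ZMod 2) V := (toZ c).map (ρ α : V →ₗ[ZMod 2] V)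
    have hmem₂ : ∀ v, v ∈ V₂ ↔ ∃ u ∈ c, ρ α u = v := fun v => Iff.rfl
    have hcompl : IsCompl V₁ V₂ := by
      constructor
      · rw [Submodule.disjoint_def]
        rintro v hv hv'
        obtain ⟨u, hu, rfl⟩ := (hmem₂ _).1 hv'
        rw [F.dis hk1 α hα hαB u hu hv, map_zero]
      · rw [codisjoint_iff, eq_top_iff]
        intro v _
        obtain ⟨v₁, hv₁, v₂, hv₂, rfl⟩ := F.dec hk1 α hα hαB v
        exact Submodule.add_mem_sup (S := V₁) (T := V₂) hv₁ ⟨v₂, hv₂, rfl⟩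
    have hAV₁ : ∀ x ∈ A', ∀ v ∈ V₁, ρ x v ∈ V₁ := hcc
    have hAV₂ : ∀ x ∈ A', ∀ v ∈ V₂, ρ x v ∈ V₂ := by
      intro x hx v hv
      obtain ⟨u, hu, rfl⟩ := (hmem₂ _).1 hv
      refine (hmem₂ _).2 ⟨ρ x u, hcc x hx u hu, ?_⟩
      rw [← C.ρ_mul, ← C.ρ_mul, C.X_comm hα (hA' hx)]
    have hXV₁ : ∀ x ∈ X, x ∉ A' → ∀ v ∈ V₁, ρ x v ∈ V₂ := by
      intro x hx hxA v hv
      refine (hmem₂ _).2 ⟨ρ (α * x) v, hcc _ (hprod α hα hαA x hx hxA) v hv, ?_⟩
      rw [← C.ρ_mul, ← mul_assoc, C.X_sq α hα, one_mul]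
    have hXV₂ : ∀ x ∈ X, x ∉ A' → ∀ v ∈ V₂, ρ x v ∈ V₁ := by
      intro x hx hxA v hv
      obtain ⟨u, hu, rfl⟩ := (hmem₂ _).1 hv
      rw [← C.ρ_mul]
      exact hcc _ (hprod x hx hxA α hα hαA) u hu
    have hNV₁ : ∀ n ∈ N₁, ∀ v ∈ V₁, ρ n v ∈ V₁ := fun n hn => hcN n (mem_sup_left hn)
    have hNV₂ : ∀ n ∈ N₁, ∀ v ∈ V₂, ρ n v ∈ V₂ := by
      intro n hn v hv
      obtain ⟨u, hu, rfl⟩ := (hmem₂ _).1 hv
      have h1 : α⁻¹ * n * α ∈ N₂ := by
        have := hsw₁ α hα hαA n hn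
        rw [C.X_inv hα] at this ⊢
        exact this
      refine (hmem₂ _).2 ⟨ρ (α⁻¹ * n * α) u, hcN _ (mem_sup_right h1) u hu, ?_⟩
      rw [← C.ρ_mul, ← C.ρ_mul]
      congr 2
      group
    by_cases ht₁ : ∀ n ∈ N₁, ∀ v ∈ V₁, ρ n v = v
    · exact gamma_false C V₂ V₁ hcompl.symm A' N₁ N₂ hA' hidx hAV₂ hXV₂ hs.comm hAN hsw hNV₂ ht₁
        hs.perf₁ hs.ne₁ hev
    by_cases ht₂ : ∀ n ∈ N₁, ∀ v ∈ V₂, ρ n v = v
    · exact gamma_false C V₁ V₂ hcompl A' N₁ N₂ hA' hidx hAV₁ hXV₁ hs.comm hAN hsw hNV₁ ht₂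
        hs.perf₁ hs.ne₁ hev
    -- the kernels are central
    have hker : ∀ T : Submodule (ZMod 2) V, (∀ n ∈ N₁, ∀ v ∈ T, ρ n v ∈ T) → (∀ x ∈ A', ∀ v ∈ T, ρ x v ∈ T) →
        (¬ ∀ n ∈ N₁, ∀ v ∈ T, ρ n v = v) → ∀ x ∈ A', (∀ n ∈ N₁, ∀ v ∈ T, ρ (cm n x) v = v) →
        x ∈ centralizer (N₁ : Set H) := by
      intro T hTN hTA hT x hx hxT
      let J : Subgroup H :=
        { carrier := {n | n ∈ N₁ ∧ ∀ v ∈ T, ρ n v = v}
          one_mem' := ⟨N₁.one_mem, fun v _ => C.ρ_one v⟩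
          mul_mem' := by
            rintro m n ⟨hm, hm'⟩ ⟨hn, hn'⟩
            refine ⟨N₁.mul_mem hm hn, fun v hv => ?_⟩
            rw [C.ρ_mul, hn' v hv, hm' v hv]
          inv_mem' := by
            rintro m ⟨hm, hm'⟩
            exact ⟨N₁.inv_mem hm, fun v hv => C.fix_inv (hm' v hv)⟩ }
      have hJN : ∀ g : H, (∀ v ∈ T, ρ g v ∈ T) → (∀ v ∈ T, ρ g⁻¹ v ∈ T) → (∀ n ∈ N₁, g * n * g⁻¹ ∈ N₁) →
          (∀ n ∈ N₁, g⁻¹ * n * g ∈ N₁) → g ∈ normalizer (J : Set H) := by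
        intro g hg hg' hgN hgN'
        rw [mem_normalizer_iff]
        intro n
        constructor
        · rintro ⟨hn, hn'⟩
          refine ⟨hgN n hn, fun v hv => ?_⟩
          rw [C.ρ_mul, C.ρ_mul, hn' _ (hg' v hv), C.ρ_apply_inv]
        · rintro ⟨hn, hn'⟩
          have h1 : g⁻¹ * (g * n * g⁻¹) * g = n := by group
          have h2 := hgN' _ hn
          rw [h1] at h2
          refine ⟨h2, fun v hv => ?_⟩
          have h3 := hn' (ρ g v) (hg v hv)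
          rw [C.ρ_mul, C.ρ_mul, C.ρ_inv_apply] at h3
          exact C.ρ_inj g h3
      rcases hJ J (fun n hn => hn.1) (fun g hg => hJN g (hTN g hg) (hTN g⁻¹ (N₁.inv_mem hg))
          (fun n hn => N₁.mul_mem (N₁.mul_mem hg hn) (N₁.inv_mem hg))
          (fun n hn => N₁.mul_mem (N₁.mul_mem (N₁.inv_mem hg) hn) hg))
        (fun g hg => hJN g (hTA g hg) (hTA g⁻¹ (A'.inv_mem hg)) (hA₁ g hg) (fun n hn => by
          have := hA₁ g⁻¹ (A'.inv_mem hg) n hn
          rwa [inv_inv] at this)) with h | h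
      · exfalso
        apply hT
        intro n hn v hv
        have h1 : n ∈ J := by rw [h]; exact hn
        exact h1.2 v hv
      · apply cent_of_central hs.perf₁ (hA₁ x hx)
        intro n hn
        exact h ⟨cm_mem hn (hA₁ x hx), hxT n hn⟩
    have hcen : ∀ x ∈ A', x ∈ centralizer (N₁ : Set H) →
        x ∈ X ⊓ centralizer ((N₁ ⊔ N₂ : Subgroup H) : Set H) := by
      intro x hx hxc
      have h1 : ∀ n ∈ N₁, x * n = n * x := fun n hn => (mem_centralizer_iff.1 hxc n hn).symm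
      refine ⟨hA' hx, mem_cent_sup h1 ?_⟩
      intro n hn
      have h2 := h1 _ (hsw₂ α hα hαA n hn)
      have h3 : α * x = x * α := C.X_comm hα (hA' hx)
      have h3' : α * x * α⁻¹ = x := by rw [h3, mul_inv_cancel_right]
      calc x * n = (α * x * α⁻¹) * n := by rw [h3']
        _ = α * (x * (α⁻¹ * n * α)) * α⁻¹ := by group
        _ = α * ((α⁻¹ * n * α) * x) * α⁻¹ := by rw [h2]
        _ = n * (α * x * α⁻¹) := by group
        _ = n * x := by rw [h3']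
    refine one (C := C) hs.comm F (fun x hx => hA₁ x (hBA x hx)) (fun x hx => hA₂ x (hBA x hx))
      (Z₁ := X ⊓ centralizer ((N₁ ⊔ N₂ : Subgroup H) : Set H))
      (Z₂ := X ⊓ centralizer ((N₁ ⊔ N₂ : Subgroup H) : Set H)) hcent hcent ?_ ?_
    · intro x hx h
      exact hcen x (hBA x hx) (hker V₁ hNV₁ hAV₁ ht₁ x (hBA x hx) h)
    · intro x hx h
      refine hcen x (hBA x hx) (hker V₂ hNV₂ hAV₂ ht₂ x (hBA x hx) ?_)
      intro n hn v hv
      obtain ⟨u, hu, rfl⟩ := (hmem₂ _).1 hv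
      have h1 : α⁻¹ * n * α ∈ N₂ := by
        have := hsw₁ α hα hαA n hn
        rw [C.X_inv hα] at this ⊢
        exact this
      have h2 : α⁻¹ * cm n x * (α⁻¹)⁻¹ = cm (α⁻¹ * n * (α⁻¹)⁻¹) x :=
        conj_cm (C.X_comm (X.inv_mem hα) (F.BX hx))
      rw [inv_inv] at h2
      have h3 : cm n x * α = α * cm (α⁻¹ * n * α) x := by rw [← h2]; group
      rw [← C.ρ_mul, h3, C.ρ_mul, h _ h1 u hu]

/-- **The component is unique.** -/
theorem component_unique (C : Cfg ρ b q a D X w)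
    (hev : ∀ K : Subgroup H, Cfsg.IsComponent K → Even (Nat.card K)) {K K' : Subgroup H}
    (hK : Cfsg.IsComponent K) (hK' : Cfsg.IsComponent K') : K = K' := by
  have := C.finite_H
  by_contra hne
  rcases Comp.two_components X (fun x hx => C.X_sq x hx) hK hK' hne with
    ⟨N₁, N₂, hs, hX₁, hX₂, -⟩ | ⟨N₁, N₂, A', hs, hA', hidx, hAN, hsw, hJ, hKN⟩
  · exact caseA C hs hX₁ hX₂
  · refine caseB C hs hA' hidx hAN hsw hJ ?_
    exact (hev K hK).trans_dvd (Subgroup.card_dvd_of_le hKN)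

end Cfsg.Agent.Omega.EH3.Clif
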