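import Cfsg.Agent.Omega.EH3.Cfg
import Mathlib.LinearAlgebra.Dual.Lemmas
import Mathlib.FieldTheory.Finite.Basic

/-!
# Clifford step of EH3: counting lemma (helper291)

A commutative `2`-group `B` acting `E`-linearly on `W` (`E` a finite field of characteristic two) with fixed space
`E e` satisfies `|B| |E| ≤ |ker| |W|`.
-/

set_option autoImplicit false

namespace Cfsg.Agent.Omega.EH3.Clif

section general

variable {E : Type*} [Field E] {W : Type*} [AddCommGroup W] [Module E W] {B : Type*} [Group B]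

/-- a `2`-group has a nonzero fixed vector in every nonzero invariant subspace -/
theorem exists_fixed [Finite W] (hW : ∀ v : W, v + v = 0) (hB : IsPGroup 2 B)
    (ρ : B →* Module.End E W) (W' : Submodule E W) (hinv : ∀ b, ∀ v ∈ W', ρ b v ∈ W') (hne : W' ≠ ⊥) :
    ∃ v ∈ W', v ≠ 0 ∧ ∀ b, ρ b v = v := by
  classical
  let _ : MulAction B W' :=
    { smul := fun b v => ⟨ρ b v, hinv b v v.2⟩
      one_smul := fun v => by
        apply Subtype.ext
        show ρ 1 (v : W) = v
        rw [map_one]; rfl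
      mul_smul := fun b c v => by
        apply Subtype.ext
        show ρ (b * c) (v : W) = ρ b (ρ c v)
        rw [map_mul]; rfl }
  have : Fact (Nat.Prime 2) := ⟨Nat.prime_two⟩
  obtain ⟨u, hu, hu0⟩ := Submodule.exists_mem_ne_zero_of_ne_bot hne
  have hdvd : 2 ∣ Nat.card W' := by
    have h1 : addOrderOf (⟨u, hu⟩ : W') = 2 := by
      apply addOrderOf_eq_prime
      · apply Subtype.ext
        show (2 : ℕ) • u = 0
        rw [two_nsmul]; exact hW u
      · intro h
        exact hu0 (congrArg Subtype.val h)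
    rw [← h1]
    exact addOrderOf_dvd_natCard _
  have h0 : (0 : W') ∈ MulAction.fixedPoints B W' := by
    intro b
    apply Subtype.ext
    show ρ b (0 : W) = 0
    rw [map_zero]
  obtain ⟨v, hv, hv0⟩ := hB.exists_fixed_point_of_prime_dvd_card_of_fixed_point W' hdvd h0
  refine ⟨v, v.2, ?_, fun b => congrArg Subtype.val (hv b)⟩
  intro h
  exact hv0 (Subtype.ext h.symm)

/-- the number of functionals with `ψ e = 1` -/
theorem card_dual_one [Finite W] [Finite E] {e : W} (he : e ≠ 0) :
    Nat.card {ψ : Module.Dual E W // ψ e = 1} * Nat.card E = Nat.card W := by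
  classical
  have : Module.Finite E W := Module.Finite.of_finite
  have hd : Nat.card (Module.Dual E W) = Nat.card W := by
    rw [Module.natCard_eq_pow_finrank (K := E) (V := Module.Dual E W),
      Module.natCard_eq_pow_finrank (K := E) (V := W), Subspace.dual_finrank_eq]
  have : Finite (Module.Dual E W) := Nat.finite_of_card_ne_zero (by rw [hd]; exact Nat.card_pos.ne')
  obtain ⟨φ, hφ⟩ : ∃ φ : Module.Dual E W, φ e = 1 := by
    by_contra hcon
    push Not at hcon
    apply he
    rw [← Module.forall_dual_apply_eq_zero_iff (R := E)]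
    intro φ
    by_contra h
    apply hcon ((φ e)⁻¹ • φ)
    rw [LinearMap.smul_apply, smul_eq_mul, inv_mul_cancel₀ h]
  rw [← hd, ← Nat.card_prod]
  apply Nat.card_congr
  refine
    { toFun := fun p => p.1.1 + (p.2 - 1) • φ
      invFun := fun ψ => (⟨ψ + (1 - ψ e) • φ, ?_⟩, ψ e)
      left_inv := ?_
      right_inv := ?_ }
  · rw [LinearMap.add_apply, LinearMap.smul_apply, hφ, smul_eq_mul, mul_one]; ring
  · rintro ⟨⟨ψ, hψ⟩, t⟩
    have h1 : (ψ + (t - 1) • φ) e = t := by
      rw [LinearMap.add_apply, LinearMap.smul_apply, hφ, hψ, smul_eq_mul]; ring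
    refine Prod.ext (Subtype.ext ?_) h1
    show ψ + (t - 1) • φ + (1 - (ψ + (t - 1) • φ) e) • φ = ψ
    rw [h1, add_assoc, ← add_smul]
    have : t - 1 + (1 - t) = 0 := by ring
    rw [this, zero_smul, add_zero]
  · intro ψ
    show ψ + (1 - ψ e) • φ + (ψ e - 1) • φ = ψ
    rw [add_assoc, ← add_smul]
    have : 1 - ψ e + (ψ e - 1) = 0 := by ring
    rw [this, zero_smul, add_zero]

/-- **The counting lemma.** -/
theorem count [Finite W] [Finite E] [Finite B] (hW : ∀ v : W, v + v = 0) (hB : IsPGroup 2 B)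
    (hc : ∀ x y : B, x * y = y * x) (ρ : B →* Module.End E W) {e : W} (he : e ≠ 0)
    (hfix : ∀ v : W, (∀ b, ρ b v = v) → ∃ t : E, v = t • e) (hfe : ∀ b, ρ b e = e) :
    Nat.card B * Nat.card E ≤ Nat.card {b : B // ρ b = 1} * Nat.card W := by
  classical
  have : Module.Finite E W := Module.Finite.of_finite
  obtain ⟨φ, hφ⟩ : ∃ φ : Module.Dual E W, φ e = 1 := by
    by_contra hcon
    push Not at hcon
    apply he
    rw [← Module.forall_dual_apply_eq_zero_iff (R := E)]
    intro φ
    by_contra h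
    apply hcon ((φ e)⁻¹ • φ)
    rw [LinearMap.smul_apply, smul_eq_mul, inv_mul_cancel₀ h]
  have key : ∀ c b' : B, φ ∘ₗ ρ (c * b') = φ ∘ₗ ρ b' → ρ c = 1 := by
    intro c b' h
    by_contra hne
    have h1 : ∀ v : W, φ (ρ c v - v) = 0 := by
      intro v
      have h2 := LinearMap.congr_fun h (ρ b'⁻¹ v)
      have h3 : ρ (c * b') (ρ b'⁻¹ v) = ρ c v := by
        have : ρ (c * b') (ρ b'⁻¹ v) = ρ (c * b' * b'⁻¹) v := by rw [map_mul ρ (c * b')]; rfl
        rw [this, mul_inv_cancel_right]
      have h4 : ρ b' (ρ b'⁻¹ v) = v := by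
        have : ρ b' (ρ b'⁻¹ v) = ρ (b' * b'⁻¹) v := by rw [map_mul ρ b']; rfl
        rw [this, mul_inv_cancel, map_one]; rfl
      rw [LinearMap.comp_apply, LinearMap.comp_apply, h3, h4] at h2
      rw [map_sub, h2, sub_self]
    let W' : Submodule E W := LinearMap.range (ρ c - 1)
    have hinv : ∀ b, ∀ v ∈ W', ρ b v ∈ W' := by
      rintro b _ ⟨u, rfl⟩
      refine ⟨ρ b u, ?_⟩
      have : ρ c (ρ b u) = ρ b (ρ c u) := by
        have h5 : ρ (c * b) u = ρ (b * c) u := by rw [hc]
        rw [map_mul, map_mul] at h5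
        exact h5
      rw [LinearMap.sub_apply, LinearMap.sub_apply, map_sub, this]; rfl
    have hW' : W' ≠ ⊥ := by
      intro h5
      apply hne
      ext v
      have h6 : (ρ c - 1) v ∈ W' := ⟨v, rfl⟩
      rw [h5, Submodule.mem_bot] at h6
      exact sub_eq_zero.1 h6
    obtain ⟨v, ⟨u, rfl⟩, hv0, hv⟩ := exists_fixed hW hB ρ W' hinv hW'
    obtain ⟨t, ht⟩ := hfix _ hv
    have h7 : φ ((ρ c - 1) u) = 0 := h1 u
    rw [ht, map_smul, hφ, smul_eq_mul, mul_one] at h7
    apply hv0
    rw [ht, h7, zero_smul]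
  -- the map `B → {ψ e = 1}`
  let F : B → {ψ : Module.Dual E W // ψ e = 1} := fun b => ⟨φ ∘ₗ ρ b, by
    rw [LinearMap.comp_apply, hfe, hφ]⟩
  have hfib : ∀ ψ, Nat.card {b : B // F b = ψ} ≤ Nat.card {b : B // ρ b = 1} := by
    intro ψ
    by_cases hex : ∃ b₀, F b₀ = ψ
    · obtain ⟨b₀, hb₀⟩ := hex
      refine Nat.card_le_card_of_injective
        (fun b : {b : B // F b = ψ} => (⟨b.1 * b₀⁻¹, ?_⟩ : {b : B // ρ b = 1})) ?_
      · apply key _ b₀
        have h8 : F b.1 = F b₀ := b.2.trans hb₀.symm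
        have h9 := congrArg Subtype.val h8
        rw [inv_mul_cancel_right]
        exact h9
      · intro b b' h
        apply Subtype.ext
        have h8 := congrArg Subtype.val h
        exact mul_right_cancel h8
    · have : IsEmpty {b : B // F b = ψ} := ⟨fun b => hex ⟨b.1, b.2⟩⟩
      rw [Nat.card_of_isEmpty]
      exact Nat.zero_le _
  have hdfin : Finite {ψ : Module.Dual E W // ψ e = 1} := by
    apply Nat.finite_of_card_ne_zero
    intro h0
    have := card_dual_one (E := E) he
    rw [h0, zero_mul] at this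
    exact Nat.card_pos.ne this
  have hcard : Nat.card B ≤ Nat.card {ψ : Module.Dual E W // ψ e = 1} * Nat.card {b : B // ρ b = 1} := by
    have h1 : Nat.card B = Nat.card (Σ ψ, {b : B // F b = ψ}) :=
      Nat.card_congr (Equiv.sigmaFiberEquiv F).symm
    have := Fintype.ofFinite {ψ : Module.Dual E W // ψ e = 1}
    rw [h1, Nat.card_sigma]
    calc ∑ ψ, Nat.card {b : B // F b = ψ} ≤ ∑ _ψ : {ψ : Module.Dual E W // ψ e = 1}, Nat.card {b : B // ρ b = 1} :=
          Finset.sum_le_sum fun ψ _ => hfib ψ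
      _ = _ := by
          rw [Finset.sum_const, Finset.card_univ, smul_eq_mul, Nat.card_eq_fintype_card (α := {ψ : Module.Dual E W // ψ e = 1})]
  calc Nat.card B * Nat.card E
      ≤ Nat.card {ψ : Module.Dual E W // ψ e = 1} * Nat.card {b : B // ρ b = 1} * Nat.card E :=
        Nat.mul_le_mul_right _ hcard
    _ = Nat.card {b : B // ρ b = 1} * (Nat.card {ψ : Module.Dual E W // ψ e = 1} * Nat.card E) := by ring
    _ = _ := by rw [card_dual_one he]

end general

end Cfsg.Agent.Omega.EH3.Clif
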