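import Cfsg.Agent.Omega.EH3.Clif.Iso
import Cfsg.Agent.Omega.EH3.Clif.Fld
import Cfsg.Agent.Omega.EH3.Clif.Count

/-!
# Clifford step of EH3: a `2`-group acting on a module (helper291)

* `exists_fix` : an invariant subgroup `≠ 0` contains a fixed vector `≠ 0`;
* `exists_inv_simple` : an isotypic submodule has an invariant simple submodule (ODD);
* `end_le_four` : `|End_R(V)| ≤ 4` if `V` is simple and the fixed vectors are `0, e`;
* `count'` : the counting lemma.
-/

set_option autoImplicit false

namespace Cfsg.Agent.Omega.EH3.Clif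

open Module

variable {V : Type*} [AddCommGroup V] {R : Type*} [Ring R] [Module R V] {B : Type*} [Group B]

/-- an action by additive automorphisms -/
structure Act (B V : Type*) [Group B] [AddCommGroup V] where
  /-- the automorphisms -/
  f : B → (V ≃+ V)
  one : ∀ v, f 1 v = v
  mul : ∀ b c v, f (b * c) v = f b (f c v)

instance : CoeFun (Act B V) (fun _ => B → (V ≃+ V)) := ⟨Act.f⟩

/-- an action from additive maps -/
def Act.of (f : B → (V →+ V)) (h1 : ∀ v, f 1 v = v) (hm : ∀ b c v, f (b * c) v = f b (f c v)) : Act B V where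
  f b :=
    { toFun := f b
      invFun := f b⁻¹
      left_inv := fun v => by rw [← hm, inv_mul_cancel, h1]
      right_inv := fun v => by rw [← hm, mul_inv_cancel, h1]
      map_add' := map_add (f b) }
  one := h1
  mul := hm

@[simp] theorem Act.of_apply (f : B → (V →+ V)) (h1 : ∀ v, f 1 v = v)
    (hm : ∀ b c v, f (b * c) v = f b (f c v)) (b : B) (v : V) : Act.of f h1 hm b v = f b v := rfl

theorem Act.inv_apply (β : Act B V) (b : B) (v : V) : β b⁻¹ (β b v) = v := by
  rw [← β.mul, inv_mul_cancel, β.one]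

theorem Act.apply_inv (β : Act B V) (b : B) (v : V) : β b (β b⁻¹ v) = v := by
  rw [← β.mul, mul_inv_cancel, β.one]

theorem Act.symm_apply (β : Act B V) (b : B) (v : V) : (β b).symm v = β b⁻¹ v := by
  rw [AddEquiv.symm_apply_eq, β.apply_inv]

/-- restriction of an action to an invariant submodule -/
def res (β : Act B V) (M : Submodule R V) (h : ∀ b, ∀ v ∈ M, β b v ∈ M) : Act B M :=
  Act.of (fun b =>
    { toFun := fun v => ⟨β b v, h b v v.2⟩
      map_zero' := Subtype.ext (map_zero (β b))
      map_add' := fun _ _ => Subtype.ext (map_add (β b) _ _) })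
    (fun v => Subtype.ext (β.one v)) (fun b c v => Subtype.ext (β.mul b c v))

@[simp] theorem res_apply (β : Act B V) (M : Submodule R V) (h : ∀ b, ∀ v ∈ M, β b v ∈ M)
    (b : B) (v : M) : (res β M h b v : V) = β b v := rfl

theorem res_symm (β : Act B V) (M : Submodule R V) (h : ∀ b, ∀ v ∈ M, β b v ∈ M)
    (b : B) (v : M) : ((res β M h b).symm v : V) = (β b).symm (v : V) := by
  rw [Act.symm_apply, Act.symm_apply, res_apply]

theorem res_nor (β : Act B V) (M : Submodule R V) (h : ∀ b, ∀ v ∈ M, β b v ∈ M)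
    (b : B) (hN : Nor R (β b)) : Nor R (res β M h b) := by
  constructor
  · intro r
    obtain ⟨r', hr'⟩ := hN.1 r
    exact ⟨r', fun v => Subtype.ext (hr' v)⟩
  · intro r
    obtain ⟨r', hr'⟩ := hN.2 r
    refine ⟨r', fun v => Subtype.ext ?_⟩
    rw [Submodule.coe_smul, res_symm, res_symm, Submodule.coe_smul]
    exact hr' v

/-- pulling back an action -/
def Act.comp {B' : Type*} [Group B'] (β : Act B V) (g : B' →* B) : Act B' V where
  f b := β (g b)
  one v := by rw [map_one, β.one]
  mul b c v := by rw [map_mul, β.mul]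

@[simp] theorem Act.comp_apply {B' : Type*} [Group B'] (β : Act B V) (g : B' →* B) (b : B') (v : V) :
    β.comp g b v = β (g b) v := rfl

/-- an invariant subgroup `≠ 0` contains a fixed vector `≠ 0` -/
theorem exists_fix [Finite V] (h2 : ∀ v : V, v + v = 0) (hB : IsPGroup 2 B)
    (β : Act B V) (W : AddSubgroup V) (hinv : ∀ b, ∀ v ∈ W, β b v ∈ W)
    (hne : ∃ v ∈ W, v ≠ 0) : ∃ v ∈ W, v ≠ 0 ∧ ∀ b, β b v = v := by
  classical
  let _ : MulAction B W :=
    { smul := fun b v => ⟨β b v, hinv b v v.2⟩
      one_smul := fun v => Subtype.ext (β.one v)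
      mul_smul := fun b c v => Subtype.ext (β.mul b c v) }
  have : Fact (Nat.Prime 2) := ⟨Nat.prime_two⟩
  obtain ⟨u, hu, hu0⟩ := hne
  have hdvd : 2 ∣ Nat.card W := by
    have h1 : addOrderOf (⟨u, hu⟩ : W) = 2 := by
      apply addOrderOf_eq_prime
      · apply Subtype.ext
        show (2 : ℕ) • u = 0
        rw [two_nsmul]; exact h2 u
      · intro h
        exact hu0 (congrArg Subtype.val h)
    rw [← h1]
    exact addOrderOf_dvd_natCard _
  have h0 : (0 : W) ∈ MulAction.fixedPoints B W := by
    intro b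
    apply Subtype.ext
    show β b (0 : V) = 0
    rw [map_zero]
  obtain ⟨v, hv, hv0⟩ := hB.exists_fixed_point_of_prime_dvd_card_of_fixed_point W hdvd h0
  refine ⟨v, v.2, ?_, fun b => congrArg Subtype.val (hv b)⟩
  intro h
  exact hv0 (Subtype.ext h.symm)

/-- **ODD**: an isotypic submodule has an invariant simple submodule. -/
theorem exists_inv_simple [Finite V] (h2 : ∀ v : V, v + v = 0) (hB : IsPGroup 2 B)
    (β : Act B V) (hN : ∀ b, Nor R (β b)) {V₁ M₀ : Submodule R V}
    (hV₁ : ∀ b, ∀ v ∈ V₁, β b v ∈ V₁) (hM₀ : IsSimpleModule R M₀) (hle : M₀ ≤ V₁)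
    (hiso : ∀ M : Sim V₁, Nonempty (M₀ ≃ₗ[R] M.1)) :
    ∃ M : Submodule R V, IsSimpleModule R M ∧ M ≤ V₁ ∧ ∀ b, ∀ v ∈ M, β b v ∈ M := by
  classical
  let _ : MulAction B (Sim V₁) :=
    { smul := fun b M => ⟨cs (β b) (hN b) M.1, cs_simple _ M.2.1, by
        intro v hv
        have h1 := hV₁ b _ (M.2.2 hv)
        have h2 : (β b) ((β b).symm v) = v := AddEquiv.apply_symm_apply _ _
        rwa [h2] at h1⟩
      one_smul := fun M => by
        apply Subtype.ext
        show cs (β 1) (hN 1) M.1 = M.1
        ext v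
        rw [mem_cs, β.symm_apply, inv_one, β.one]
      mul_smul := fun b c M => by
        apply Subtype.ext
        show cs (β (b * c)) (hN (b * c)) M.1 = cs (β b) (hN b) (cs (β c) (hN c) M.1)
        ext v
        rw [mem_cs, mem_cs, mem_cs, β.symm_apply, β.symm_apply, β.symm_apply, mul_inv_rev, β.mul] }
  have : Fact (Nat.Prime 2) := ⟨Nat.prime_two⟩
  have hodd := (odd_sim h2 hM₀ hle hiso).1
  obtain ⟨M, hM⟩ := hB.nonempty_fixed_point_of_prime_not_dvd_card (Sim V₁) (by
    rw [← even_iff_two_dvd, Nat.not_even_iff_odd]; exact hodd)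
  refine ⟨M.1, M.2.1, M.2.2, ?_⟩
  intro b v hv
  have h1 : cs (β b) (hN b) M.1 = M.1 := congrArg Subtype.val (hM b)
  rw [← h1]
  exact apply_mem_cs.2 hv

/-- conjugation on the endomorphism ring -/
def conjEnd (g : V ≃+ V) (hg : Nor R g) : Module.End R V ≃+* Module.End R V where
  toFun f :=
    { toFun := fun v => g (f (g.symm v))
      map_add' := by intro u v; rw [map_add, map_add, map_add]
      map_smul' := by
        intro r v
        obtain ⟨r', hr'⟩ := hg.1 r
        have h1 : g.symm (r • v) = r' • g.symm v := by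
          rw [g.symm_apply_eq, ← hr', g.apply_symm_apply]
        rw [h1, map_smul, RingHom.id_apply, hr'] }
  invFun f :=
    { toFun := fun v => g.symm (f (g v))
      map_add' := by intro u v; rw [map_add, map_add, map_add]
      map_smul' := by
        intro r v
        obtain ⟨r', hr'⟩ := hg.2 r
        have h1 : g (r • v) = r' • g v := by
          rw [← g.eq_symm_apply, ← hr', g.symm_apply_apply]
        rw [h1, map_smul, RingHom.id_apply, hr'] }
  left_inv := by
    intro f
    ext v
    show g.symm (g (f (g.symm (g v)))) = f v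
    rw [g.symm_apply_apply, g.symm_apply_apply]
  right_inv := by
    intro f
    ext v
    show g (g.symm (f (g (g.symm v)))) = f v
    rw [g.apply_symm_apply, g.apply_symm_apply]
  map_mul' := by
    intro f f'
    ext v
    show g (f (f' (g.symm v))) = g (f (g.symm (g (f' (g.symm v)))))
    rw [g.symm_apply_apply]
  map_add' := by
    intro f f'
    ext v
    show g (f (g.symm v) + f' (g.symm v)) = g (f (g.symm v)) + g (f' (g.symm v))
    rw [map_add]

theorem conjEnd_apply (g : V ≃+ V) (hg : Nor R g) (f : Module.End R V) (v : V) :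
    conjEnd g hg f v = g (f (g.symm v)) := rfl

instance finite_end [Finite V] : Finite (Module.End R V) :=
  Finite.of_injective (fun f => (f : V → V)) DFunLike.coe_injective

/-- **`|End_R(V)| ≤ 4`** -/
theorem end_le_four [Finite V] (h2 : ∀ v : V, v + v = 0) (hB : ∀ b : B, b * b = 1)
    (β : Act B V) (hN : ∀ b, Nor R (β b)) (hs : IsSimpleModule R V) {e : V} (he : e ≠ 0)
    (hfe : ∀ b, β b e = e) (hfix : ∀ v, (∀ b, β b v = v) → v = 0 ∨ v = e) :
    Nat.card (Module.End R V) ≤ 4 := by
  classical
  have key := card_le_sq (D := Module.End R V) (fun x => by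
    ext v
    exact h2 (x v)) (fun b : B => conjEnd (β b) (hN b)) (by
      intro b x
      ext v
      show β b (β b (x ((β b).symm ((β b).symm v)))) = x v
      rw [β.symm_apply, β.symm_apply, ← β.mul, hB, ← β.mul, ← mul_inv_rev, hB, inv_one, β.one, β.one])
  have h3 : Nat.card {x : Module.End R V // ∀ b, (conjEnd (β b) (hN b)) x = x} ≤ 2 := by
    have hinj : Function.Injective
        (fun x : {x : Module.End R V // ∀ b, (conjEnd (β b) (hN b)) x = x} =>
          (⟨x.1 e, by
            apply hfix
            intro b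
            have h4 := LinearMap.congr_fun (x.2 b) e
            rw [conjEnd_apply, β.symm_apply, hfe] at h4
            exact h4⟩ : {v : V // v = 0 ∨ v = e})) := by
      intro x y hxy
      have h4 : x.1 e = y.1 e := congrArg Subtype.val hxy
      apply Subtype.ext
      have h5 : (x.1 - y.1) e = 0 := by rw [LinearMap.sub_apply, h4, sub_self]
      rcases (x.1 - y.1).injective_or_eq_zero with h6 | h6
      · exact absurd (h6 (h5.trans (map_zero _).symm)) he
      · exact sub_eq_zero.1 h6
    refine (Nat.card_le_card_of_injective _ hinj).trans ?_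
    have h4 : Nat.card {v : V // v = 0 ∨ v = e} ≤ Nat.card Bool := by
      refine Nat.card_le_card_of_injective (fun v => decide (v.1 = 0)) ?_
      rintro ⟨v, hv⟩ ⟨u, hu⟩ h
      apply Subtype.ext
      show v = u
      have h' : decide (v = 0) = decide (u = 0) := h
      rcases hv with rfl | rfl
      · rw [decide_eq_true rfl] at h'
        exact (of_decide_eq_true h'.symm).symm
      · rcases hu with rfl | rfl
        · rw [decide_eq_true rfl] at h'
          exact of_decide_eq_true h'
        · rfl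
    rwa [Nat.card_eq_fintype_card (α := Bool), Fintype.card_bool] at h4
  calc Nat.card (Module.End R V) ≤ _ := key
    _ ≤ 2 ^ 2 := Nat.pow_le_pow_left h3 2
    _ = 4 := by norm_num

/-- **The counting lemma**, second form. -/
theorem count' [Finite V] [Finite B] (h2 : ∀ v : V, v + v = 0) (β : Act B V) {e : V} (he : e ≠ 0) (hfe : ∀ b, β b e = e)
    (hsub : ∀ c, (∃ v, β c v ≠ v) → ∃ u, β c u + u = e) :
    Nat.card B * 2 ≤ Nat.card {b : B // ∀ v, β b v = v} * Nat.card V := by
  classical
  let _ : Module (ZMod 2) V := AddCommGroup.zmodModule (n := 2) (by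
    intro v; rw [two_nsmul]; exact h2 v)
  have : Module.Finite (ZMod 2) V := Module.Finite.of_finite
  obtain ⟨φ, hφ⟩ : ∃ φ : Module.Dual (ZMod 2) V, φ e = 1 := by
    by_contra hcon
    push Not at hcon
    apply he
    rw [← Module.forall_dual_apply_eq_zero_iff (R := ZMod 2)]
    intro φ
    rcases zmod_two (φ e) with h | h
    · exact h
    · exact absurd h (hcon φ)
  let L : B → (V →ₗ[ZMod 2] V) := fun b => ((β b : V ≃+ V) : V →+ V).toZModLinearMap 2
  have hL : ∀ b v, L b v = β b v := fun _ _ => rfl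
  have key : ∀ c b' : B, φ ∘ₗ L (c * b') = φ ∘ₗ L b' → ∀ v, β c v = v := by
    intro c b' h
    by_contra hne
    push Not at hne
    obtain ⟨u, hu⟩ := hsub c hne
    have h4 := LinearMap.congr_fun h (β b'⁻¹ u)
    rw [LinearMap.comp_apply, LinearMap.comp_apply, hL, hL, β.mul, β.apply_inv] at h4
    have h5 : φ (β c u + u) = 0 := by
      rw [map_add, h4, CharTwo.add_self_eq_zero]
    rw [hu, hφ] at h5
    exact one_ne_zero h5
  let F : B → {ψ : Module.Dual (ZMod 2) V // ψ e = 1} := fun b => ⟨φ ∘ₗ L b, by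
    rw [LinearMap.comp_apply, hL, hfe, hφ]⟩
  have hfib : ∀ ψ, Nat.card {b : B // F b = ψ} ≤ Nat.card {b : B // ∀ v, β b v = v} := by
    intro ψ
    by_cases hex : ∃ b₀, F b₀ = ψ
    · obtain ⟨b₀, hb₀⟩ := hex
      refine Nat.card_le_card_of_injective
        (fun b : {b : B // F b = ψ} => (⟨b.1 * b₀⁻¹, ?_⟩ : {b : B // ∀ v, β b v = v})) ?_
      · apply key _ b₀
        have h8 : F b.1 = F b₀ := b.2.trans hb₀.symm
        have h9 := congrArg Subtype.val h8
        rw [inv_mul_cancel_right]
        exact h9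
      · intro b b' h
        apply Subtype.ext
        have h8 := congrArg Subtype.val h
        exact mul_right_cancel h8
    · have : IsEmpty {b : B // F b = ψ} := ⟨fun b => hex ⟨b.1, b.2⟩⟩
      rw [Nat.card_of_isEmpty]
      exact Nat.zero_le _
  have hdfin : Finite {ψ : Module.Dual (ZMod 2) V // ψ e = 1} := by
    apply Nat.finite_of_card_ne_zero
    intro h0
    have := card_dual_one (E := ZMod 2) he
    rw [h0, zero_mul] at this
    exact Nat.card_pos.ne this
  have hcard : Nat.card B ≤ Nat.card {ψ : Module.Dual (ZMod 2) V // ψ e = 1} *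
      Nat.card {b : B // ∀ v, β b v = v} := by
    have h1 : Nat.card B = Nat.card (Σ ψ, {b : B // F b = ψ}) :=
      Nat.card_congr (Equiv.sigmaFiberEquiv F).symm
    have := Fintype.ofFinite {ψ : Module.Dual (ZMod 2) V // ψ e = 1}
    rw [h1, Nat.card_sigma]
    calc ∑ ψ, Nat.card {b : B // F b = ψ}
        ≤ ∑ _ψ : {ψ : Module.Dual (ZMod 2) V // ψ e = 1}, Nat.card {b : B // ∀ v, β b v = v} :=
          Finset.sum_le_sum fun ψ _ => hfib ψ
      _ = _ := by
          rw [Finset.sum_const, Finset.card_univ, smul_eq_mul,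
            Nat.card_eq_fintype_card (α := {ψ : Module.Dual (ZMod 2) V // ψ e = 1})]
  have h10 := card_dual_one (E := ZMod 2) he
  rw [Nat.card_zmod] at h10
  calc Nat.card B * 2
      ≤ Nat.card {ψ : Module.Dual (ZMod 2) V // ψ e = 1} * Nat.card {b : B // ∀ v, β b v = v} * 2 :=
        Nat.mul_le_mul_right _ hcard
    _ = Nat.card {b : B // ∀ v, β b v = v} *
        (Nat.card {ψ : Module.Dual (ZMod 2) V // ψ e = 1} * 2) := by ring
    _ = _ := by rw [h10]

/-- counting lemma when the fixed vectors are `0, e` -/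
theorem count_one [Finite V] [Finite B] (h2 : ∀ v : V, v + v = 0) (hB : IsPGroup 2 B)
    (hc : ∀ x y : B, x * y = y * x) (β : Act B V) {e : V} (he : e ≠ 0) (hfe : ∀ b, β b e = e)
    (hfix : ∀ v, (∀ b, β b v = v) → v = 0 ∨ v = e) :
    Nat.card B * 2 ≤ Nat.card {b : B // ∀ v, β b v = v} * Nat.card V := by
  apply count' h2 β he hfe
  rintro c ⟨v, hv⟩
  let W : AddSubgroup V :=
    { carrier := {w | ∃ u, β c u + u = w}
      zero_mem' := ⟨0, by rw [map_zero, add_zero]⟩
      add_mem' := by
        rintro _ _ ⟨u, rfl⟩ ⟨u', rfl⟩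
        exact ⟨u + u', by rw [map_add]; abel⟩
      neg_mem' := by
        rintro _ ⟨u, rfl⟩
        exact ⟨-u, by rw [map_neg]; abel⟩ }
  obtain ⟨w, ⟨u, hu⟩, hw0, hw⟩ := exists_fix h2 hB β W (by
    rintro b _ ⟨u, rfl⟩
    refine ⟨β b u, ?_⟩
    rw [map_add, ← β.mul, ← β.mul, hc]) ⟨_, ⟨v, rfl⟩, by
      intro h
      apply hv
      have : β c v + v = v + v := by rw [h, h2]
      exact add_right_cancel this⟩
  rcases hfix w hw with h | h
  · exact absurd h hw0
  · exact ⟨u, hu.trans h⟩

end Cfsg.Agent.Omega.EH3.Clif
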