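import Cfsg.Agent.Omega.EH3.Cons

/-!
# EH3, Clifford step: (C4) of #12897 (helper291; typed by helper947)

`c4`: `L` normalised by `X`, `U` an irreducible `L`-submodule containing `a`, `X`-invariant, `F_4 = {0, 1, ζ, ζ + 1}` the
commuting algebra of `U`, not centralised by `X`; if some `L`-homomorphism does not map `U` to `U`, then `|U| ≤ 16`.
-/

set_option autoImplicit false

namespace Cfsg.Agent.Omega.EH3.Clif

/-- commuting involutions fix a nonzero vector modulo `S` -/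
theorem exists_fixed_mod {M : Type*} [AddCommGroup M] [Module (ZMod 2) M] [Finite M] (h2 : ∀ v : M, v + v = 0)
    {ι : Type*} (φ : ι → M →ₗ[ZMod 2] M) (hsq : ∀ i v, φ i (φ i v) = v)
    (hcomm : ∀ i j v, φ i (φ j v) = φ j (φ i v)) {S T : Submodule (ZMod 2) M} (hST : S < T)
    (hS : ∀ i, ∀ v ∈ S, φ i v ∈ S) (hT : ∀ i, ∀ v ∈ T, φ i v ∈ T) :
    ∃ f ∈ T, f ∉ S ∧ ∀ i, φ i f + f ∈ S := by
  obtain ⟨W, hW⟩ := Set.Finite.exists_minimal
    (s := {W : Submodule (ZMod 2) M | S < W ∧ W ≤ T ∧ ∀ i, ∀ v ∈ W, φ i v ∈ W})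
    (by
      have : Finite (Submodule (ZMod 2) M) :=
        Finite.of_injective (fun W => (W : Set M)) SetLike.coe_injective
      exact Set.toFinite _) ⟨T, hST, le_rfl, hT⟩
  obtain ⟨h1, hWT, hWi⟩ := hW.prop
  have key : ∀ i, ∀ v ∈ W, φ i v + v ∈ S := by
    intro i
    set W' : Submodule (ZMod 2) M := S ⊔ W.map (φ i + LinearMap.id) with hW'
    have hmem : ∀ u, u ∈ W' ↔ ∃ s ∈ S, ∃ v ∈ W, s + (φ i v + v) = u := by
      intro u
      rw [hW', Submodule.mem_sup]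
      constructor
      · rintro ⟨s, hs, z, ⟨v, hv, rfl⟩, rfl⟩
        exact ⟨s, hs, v, hv, rfl⟩
      · rintro ⟨s, hs, v, hv, rfl⟩
        exact ⟨s, hs, φ i v + v, ⟨v, hv, rfl⟩, rfl⟩
    have hle : W' ≤ W := by
      intro u hu
      obtain ⟨s, hs, v, hv, rfl⟩ := (hmem u).1 hu
      exact W.add_mem (h1.le hs) (W.add_mem (hWi i v hv) hv)
    have hinv : ∀ j, ∀ v ∈ W', φ j v ∈ W' := by
      intro j u hu
      obtain ⟨s, hs, v, hv, rfl⟩ := (hmem u).1 hu
      refine (hmem _).2 ⟨φ j s, hS j s hs, φ j v, hWi j v hv, ?_⟩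
      rw [map_add, map_add, hcomm i j v]
    have hSW : S ≤ W' := le_sup_left
    have hWS : W' = S := by
      by_contra hne
      have h3 : S < W' := lt_of_le_of_ne hSW (Ne.symm hne)
      have h4 : W ≤ W' := hW.le_of_le ⟨h3, hle.trans hWT, hinv⟩ hle
      apply h1.not_ge
      intro u hu
      obtain ⟨s, hs, v, hv, rfl⟩ := (hmem u).1 (h4 hu)
      obtain ⟨s', hs', v', hv', rfl⟩ := (hmem v).1 (h4 hv)
      refine S.add_mem hs ?_
      have e : φ i (s' + (φ i v' + v')) + (s' + (φ i v' + v')) =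
          φ i s' + s' + ((v' + v') + (φ i v' + φ i v')) := by
        rw [map_add, map_add, hsq]; abel
      rw [e, h2, h2, add_zero, add_zero]
      exact S.add_mem (hS i s' hs') hs'
    intro v hv
    rw [← hWS]
    exact (hmem _).2 ⟨0, S.zero_mem, v, hv, zero_add _⟩
  obtain ⟨f, hf, hfS⟩ := Set.exists_of_ssubset (s := (S : Set M)) (t := (W : Set M)) h1
  exact ⟨f, hWT hf, hfS, fun i => key i f hf⟩

section c4

variable {H V : Type*} [Group H] [AddCommGroup V] [Module (ZMod 2) V]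
  {ρ : H →* (V ≃ₗ[ZMod 2] V)} {b : LinearMap.BilinForm (ZMod 2) V} {q : V → ZMod 2}
  {a : V} {D : Submodule (ZMod 2) V} {X : Subgroup H} {w : ℕ}

set_option linter.unusedVariables false in
/-- **(C4)** (`hζL`, `hcen` are not used) -/
theorem c4 (C : Cfg ρ b q a D X w) (L : Subgroup H) (hXL : X ≤ Subgroup.normalizer (L : Set H))
    (U : Submodule (ZMod 2) V) (haU : a ∈ U) (hUL : ∀ n ∈ L, ∀ v ∈ U, ρ n v ∈ U)
    (hUX : ∀ x ∈ X, ∀ v ∈ U, ρ x v ∈ U)
    (hmin : ∀ W : Submodule (ZMod 2) V, W ≤ U → (∀ n ∈ L, ∀ v ∈ W, ρ n v ∈ W) → W = ⊥ ∨ W = U)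
    (ζ : V →ₗ[ZMod 2] V) (hζ : ∀ v, ζ (ζ v) + ζ v + v = 0) (hζL : ∀ n ∈ L, ∀ v, ζ (ρ n v) = ρ n (ζ v))
    (hζU : ∀ v ∈ U, ζ v ∈ U)
    (hζX : ∀ x ∈ X, (∀ v, ρ x (ζ v) = ζ (ρ x v)) ∨ (∀ v, ρ x (ζ v) = ζ (ρ x v) + ρ x v))
    (hζb : (∀ u v, b (ζ u) v = b u (ζ v)) ∨ (∀ u v, b (ζ u) v = b u (ζ v + v)))
    (hend : ∀ f : V →ₗ[ZMod 2] V, (∀ n ∈ L, ∀ u ∈ U, f (ρ n u) = ρ n (f u)) → (∀ u ∈ U, f u ∈ U) →
      ∃ i j : ZMod 2, ∀ u ∈ U, f u = i • u + j • ζ u)
    (hcen : ∀ f : V →ₗ[ZMod 2] V, (∀ n ∈ L, ∀ u ∈ U, f (ρ n u) = ρ n (f u)) → ∀ u ∈ U, f (ζ u) = ζ (f u))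
    (f₀ : V →ₗ[ZMod 2] V) (hf₀ : ∀ n ∈ L, ∀ u ∈ U, f₀ (ρ n u) = ρ n (f₀ u)) (hf₀' : ∃ u ∈ U, f₀ u ∉ U) :
    Nat.card U ≤ 16 := by
  classical
  have hVf := C.finite_V
  have hζζ : ∀ v, ζ (ζ v) = ζ v + v := fun v => C.add_eq_zero.1 (by rw [← add_assoc]; exact hζ v)
  set F : Submodule (ZMod 2) V := Submodule.span (ZMod 2) {a, ζ a} with hF
  have hFmem : ∀ v, v ∈ F ↔ ∃ i j : ZMod 2, i • a + j • ζ a = v := fun v => Submodule.mem_span_pair
  have haF : a ∈ F := Submodule.subset_span (by simp)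
  have hζaF : ζ a ∈ F := Submodule.subset_span (by simp)
  have hFζ : ∀ v ∈ F, ζ v ∈ F := by
    intro v hv
    obtain ⟨i, j, rfl⟩ := (hFmem v).1 hv
    rw [map_add, map_smul, map_smul, hζζ]
    exact F.add_mem (F.smul_mem _ hζaF) (F.smul_mem _ (F.add_mem hζaF haF))
  have hFU : F ≤ U := by
    intro v hv
    obtain ⟨i, j, rfl⟩ := (hFmem v).1 hv
    exact U.add_mem (U.smul_mem _ haU) (U.smul_mem _ (hζU a haU))
  have hζa0 : ζ a ≠ 0 := by
    intro h
    have h1 := hζζ a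
    rw [h, map_zero, zero_add] at h1
    exact C.a_ne h1.symm
  have hζaa : ζ a ≠ a := by
    intro h
    have h1 := hζζ a
    rw [h, h, C.add_self] at h1
    exact C.a_ne h1
  -- an element of `X` not commuting with `ζ`
  obtain ⟨x₁, hx₁, hx₁ζ⟩ : ∃ x ∈ X, ∀ v, ρ x (ζ v) = ζ (ρ x v) + ρ x v := by
    by_contra hcon
    push Not at hcon
    have h1 : ∀ x ∈ X, ρ x (ζ a) = ζ a := by
      intro x hx
      rcases hζX x hx with h | h
      · rw [h, C.X_a hx]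
      · exfalso
        obtain ⟨v, hv⟩ := hcon x hx
        exact hv (h v)
    rcases C.fix_X h1 with h | h
    · exact hζa0 h
    · exact hζaa h
  have hX₀ : ∀ x ∈ X, (∀ v, ρ x (ζ v) = ζ (ρ x v)) ∨ (∀ v, ρ (x * x₁) (ζ v) = ζ (ρ (x * x₁) v)) := by
    intro x hx
    rcases hζX x hx with h | h
    · exact Or.inl h
    · right
      intro v
      rw [C.ρ_mul, C.ρ_mul, hx₁ζ, map_add, h, C.add_add_self]
  -- `C_V(X₀) ≤ F`
  have hfix : ∀ v, (∀ x ∈ X, (∀ v, ρ x (ζ v) = ζ (ρ x v)) → ρ x v = v) → v ∈ F := by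
    intro v hv
    have h1 : ∀ u, (∀ x ∈ X, (∀ v, ρ x (ζ v) = ζ (ρ x v)) → ρ x u = u) → ρ x₁ u = u → u = 0 ∨ u = a := by
      intro u hu hu1
      apply C.fix_X
      intro x hx
      rcases hX₀ x hx with h | h
      · exact hu x hx h
      · have h2 := hu (x * x₁) (X.mul_mem hx hx₁) h
        rw [C.ρ_mul, hu1] at h2
        exact h2
    have h2 := h1 (ρ x₁ v + v) (fun x hx hxc => by
      rw [map_add, ← C.ρ_mul, C.X_comm hx hx₁, C.ρ_mul, hv x hx hxc]) (C.X_fix_delta hx₁ v)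
    rcases h2 with h2 | h2
    · rcases h1 v hv (C.add_eq_zero.1 h2) with h | h
      · rw [h]; exact F.zero_mem
      · rw [h]; exact haF
    · have h3 : ρ x₁ v = v + a := by
        rw [← h2, add_comm (ρ x₁ v) v, ← add_assoc, C.add_self, zero_add]
      have h4 := h1 (v + ζ a) (fun x hx hxc => by rw [map_add, hv x hx hxc, hxc, C.X_a hx]) (by
        rw [map_add, h3, hx₁ζ, C.X_a hx₁]
        have : v + a + (ζ a + a) = v + ζ a + (a + a) := by abel
        rw [this, C.add_self, add_zero])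
      have h5 : v = (v + ζ a) + ζ a := (C.add_add_self v (ζ a)).symm
      rw [h5]
      refine F.add_mem ?_ hζaF
      rcases h4 with h | h
      · rw [h]; exact F.zero_mem
      · rw [h]; exact haF
  -- (1)
  have hperp : ∀ v, b a v = 0 → b (ζ a) v = 0 → ∀ x ∈ X, (∀ v, ρ x (ζ v) = ζ (ρ x v)) → ρ x v + v ∈ F := by
    intro v hv1 hv2 x hx hxc
    have hv3 : b a (ζ v) = 0 := by
      rcases hζb with h | h
      · rw [← h]; exact hv2
      · have h1 := h a v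
        rw [hv2, map_add, hv1, add_zero] at h1
        exact h1.symm
    apply hfix
    intro y hy hyc
    have hd := C.X_perp x hx v hv1
    have hζd : ζ (ρ x v + v) ∈ D := by
      rw [map_add, ← hxc]; exact C.X_perp x hx (ζ v) hv3
    rcases C.X_D y hy _ hd with h | h
    · exact h
    · exfalso
      have h1 := hyc (ρ x v + v)
      rw [h, map_add ζ (ρ x v + v) a] at h1
      rcases C.X_D y hy _ hζd with h2 | h2
      · rw [h2] at h1
        exact hζa0 (left_eq_add.1 h1)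
      · rw [h2] at h1
        exact hζaa (add_left_cancel h1).symm
  -- (2)
  let T : Submodule (ZMod 2) (V →ₗ[ZMod 2] V) := {
    carrier := {f | ∀ n ∈ L, ∀ u ∈ U, f (ρ n u) = ρ n (f u)}
    zero_mem' := fun n _ u _ => by rw [LinearMap.zero_apply, LinearMap.zero_apply, map_zero]
    add_mem' := fun {f g} hf hg n hn u hu => by
      rw [LinearMap.add_apply, LinearMap.add_apply, hf n hn u hu, hg n hn u hu, map_add]
    smul_mem' := fun c f hf n hn u hu => by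
      rw [LinearMap.smul_apply, LinearMap.smul_apply, hf n hn u hu, map_smul] }
  have hTmem : ∀ f : V →ₗ[ZMod 2] V, f ∈ T ↔ ∀ n ∈ L, ∀ u ∈ U, f (ρ n u) = ρ n (f u) := fun _ => Iff.rfl
  let S : Submodule (ZMod 2) (V →ₗ[ZMod 2] V) := {
    carrier := {f | f ∈ T ∧ ∀ u ∈ U, f u ∈ U}
    zero_mem' := ⟨T.zero_mem, fun u _ => by rw [LinearMap.zero_apply]; exact U.zero_mem⟩
    add_mem' := fun {f g} hf hg => ⟨T.add_mem hf.1 hg.1, fun u hu => U.add_mem (hf.2 u hu) (hg.2 u hu)⟩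
    smul_mem' := fun c f hf => ⟨T.smul_mem c hf.1, fun u hu => U.smul_mem c (hf.2 u hu)⟩ }
  have hSmem : ∀ f : V →ₗ[ZMod 2] V, f ∈ S ↔ f ∈ T ∧ ∀ u ∈ U, f u ∈ U := fun _ => Iff.rfl
  let φ : {x : H // x ∈ X ∧ ∀ v, ρ x (ζ v) = ζ (ρ x v)} → (V →ₗ[ZMod 2] V) →ₗ[ZMod 2] (V →ₗ[ZMod 2] V) := fun x => {
    toFun := fun f => (ρ x.1).toLinearMap ∘ₗ f ∘ₗ (ρ x.1).toLinearMap
    map_add' := fun f g => by
      ext v
      show ρ x.1 ((f + g) (ρ x.1 v)) = ρ x.1 (f (ρ x.1 v)) + ρ x.1 (g (ρ x.1 v))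
      rw [LinearMap.add_apply, map_add]
    map_smul' := fun c f => by
      ext v
      show ρ x.1 ((c • f) (ρ x.1 v)) = c • ρ x.1 (f (ρ x.1 v))
      rw [LinearMap.smul_apply, map_smul] }
  have hφ : ∀ x f v, φ x f v = ρ x.1 (f (ρ x.1 v)) := fun _ _ _ => rfl
  have hsq' : ∀ x ∈ X, ∀ v, ρ x (ρ x v) = v := fun x hx v => by rw [← C.ρ_mul, C.X_sq x hx, C.ρ_one]
  have hfinM : Finite (V →ₗ[ZMod 2] V) :=
    Finite.of_injective (fun f => (f : V → V)) DFunLike.coe_injective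
  have hφT : ∀ x, ∀ f ∈ T, φ x f ∈ T := by
    rintro x f hf n hn u hu
    have h1 : x.1 * n * x.1⁻¹ ∈ L := (Subgroup.mem_normalizer_iff.1 (hXL x.2.1) n).1 hn
    rw [hφ, hφ]
    have e1 : ρ x.1 (ρ n u) = ρ (x.1 * n * x.1⁻¹) (ρ x.1 u) := by
      rw [← C.ρ_mul, ← C.ρ_mul]; congr 2; group
    have e2 : ρ x.1 (ρ (x.1 * n * x.1⁻¹) (f (ρ x.1 u))) = ρ n (ρ x.1 (f (ρ x.1 u))) := by
      rw [← C.ρ_mul, ← C.ρ_mul, C.X_inv x.2.1]
      have : x.1 * (x.1 * n * x.1) = (x.1 * x.1) * (n * x.1) := by group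
      rw [this, C.X_sq _ x.2.1, one_mul]
    rw [e1, hf _ h1 _ (hUX _ x.2.1 u hu), e2]
  obtain ⟨f, hfT, hfS, hfφ⟩ := exists_fixed_mod (M := V →ₗ[ZMod 2] V)
    (fun f => by ext v; exact C.add_self _) φ
    (fun x f => by
      ext v
      rw [hφ, hφ, hsq' _ x.2.1, hsq' _ x.2.1])
    (fun x y f => by
      ext v
      rw [hφ, hφ, hφ, hφ, ← C.ρ_mul, ← C.ρ_mul y.1 x.1, ← C.ρ_mul, ← C.ρ_mul, C.X_comm x.2.1 y.2.1])
    (S := S) (T := T) (by
      refine lt_of_le_of_ne (fun f hf => hf.1) ?_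
      intro h
      obtain ⟨u, hu, hu'⟩ := hf₀'
      have h1 : f₀ ∈ S := by rw [h]; exact hf₀
      exact hu' (h1.2 u hu))
    (fun x f hf => ⟨hφT x f hf.1, fun u hu => hUX _ x.2.1 _ (hf.2 _ (hUX _ x.2.1 u hu))⟩) hφT
  have hfx : ∀ x ∈ X, (∀ v, ρ x (ζ v) = ζ (ρ x v)) → ∃ i j : ZMod 2, ∀ u ∈ U,
      ρ x (f (ρ x u)) + f u = i • u + j • ζ u := by
    intro x hx hxc
    have h1 := hfφ ⟨x, hx, hxc⟩
    obtain ⟨i, j, h2⟩ := hend _ h1.1 h1.2
    exact ⟨i, j, fun u hu => h2 u hu⟩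
  -- `f(U) ∩ U = 0`
  have hfU : ∀ u ∈ U, f u ∈ U → u = 0 := by
    have h1 := hmin (U ⊓ U.comap f) inf_le_left (by
      rintro n hn v ⟨hv, hv'⟩
      refine ⟨hUL n hn v hv, ?_⟩
      show f (ρ n v) ∈ U
      rw [hfT n hn v hv]
      exact hUL n hn _ hv')
    rcases h1 with h1 | h1
    · intro u hu hu'
      have h2 : u ∈ U ⊓ U.comap f := ⟨hu, hu'⟩
      rw [h1, Submodule.mem_bot] at h2
      exact h2
    · exfalso
      apply hfS
      refine ⟨hfT, fun u hu => ?_⟩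
      rw [← h1] at hu
      exact hu.2
  -- some `x ∈ X₀` does not fix `f`
  obtain ⟨x, hx, hxc, u₀, hu₀, hxu⟩ : ∃ x ∈ X, (∀ v, ρ x (ζ v) = ζ (ρ x v)) ∧
      ∃ u ∈ U, ρ x (f (ρ x u)) + f u ≠ 0 := by
    by_contra hcon
    push Not at hcon
    have h1 : f a ∈ F := by
      apply hfix
      intro x hx hxc
      have h2 := hcon x hx hxc a haU
      rw [C.X_a hx] at h2
      exact C.add_eq_zero.1 h2
    exact C.a_ne (hfU a haU (hFU h1))
  obtain ⟨i, j, hij⟩ := hfx x hx hxc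
  -- (3)
  have h3 : ∀ u ∈ U, b a (f u) = 0 → b (ζ a) (f u) = 0 → u ∈ F := by
    intro u hu h1 h2
    have h4 := hperp (f u) h1 h2 x hx hxc
    have hu' := hUX x hx u hu
    have h5 := hij (ρ x u) hu'
    rw [hsq' x hx] at h5
    have h6 : ρ x (f u) + f u = f (ρ x u + u) + (i • ρ x u + j • ζ (ρ x u)) := by
      rw [← h5, map_add]
      have : f (ρ x u) + f u + (ρ x (f u) + f (ρ x u)) = ρ x (f u) + f u + (f (ρ x u) + f (ρ x u)) := by abel
      rw [this, C.add_self, add_zero]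
    rw [h6] at h4
    have h7 : i • ρ x u + j • ζ (ρ x u) ∈ U := U.add_mem (U.smul_mem _ hu') (U.smul_mem _ (hζU _ hu'))
    have h8 : f (ρ x u + u) ∈ U := by
      have := U.sub_mem (hFU h4) h7
      rwa [add_sub_cancel_right] at this
    have h9 := hfU _ (U.add_mem hu' hu) h8
    have h10 : ρ x u = u := C.add_eq_zero.1 h9
    rw [h9, map_zero, zero_add, h10] at h4
    rcases zmod_two j with hj | hj
    · rcases zmod_two i with hi | hi
      · exfalso
        apply hxu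
        rw [hij u₀ hu₀, hi, hj, zero_smul, zero_smul, add_zero]
      · rw [hi, hj, zero_smul, one_smul, add_zero] at h4
        exact h4
    · rcases zmod_two i with hi | hi
      · rw [hi, hj, zero_smul, one_smul, zero_add] at h4
        have h11 := F.add_mem (hFζ _ h4) h4
        rw [hζζ, add_comm (ζ u) u, C.add_add_self] at h11
        exact h11
      · rw [hi, hj, one_smul, one_smul] at h4
        have h11 := hFζ _ h4
        rw [map_add, hζζ, ← add_assoc, C.add_self, zero_add] at h11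
        exact h11
  -- counting
  have hfd : Module.Finite (ZMod 2) V := Module.Finite.of_finite
  let g : U →ₗ[ZMod 2] (ZMod 2 × ZMod 2) :=
    LinearMap.prod ((b a) ∘ₗ f ∘ₗ U.subtype) ((b (ζ a)) ∘ₗ f ∘ₗ U.subtype)
  have h4 : (LinearMap.ker g).map U.subtype ≤ F := by
    rintro _ ⟨⟨u, hu⟩, hu', rfl⟩
    have h5 : g ⟨u, hu⟩ = 0 := hu'
    exact h3 u hu (congrArg Prod.fst h5) (congrArg Prod.snd h5)
  have h5 : Module.finrank (ZMod 2) (LinearMap.ker g) ≤ 2 := by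
    have h6 : Module.finrank (ZMod 2) ((LinearMap.ker g).map U.subtype) =
        Module.finrank (ZMod 2) (LinearMap.ker g) :=
      LinearEquiv.finrank_eq (Submodule.equivMapOfInjective U.subtype U.subtype_injective _).symm
    rw [← h6]
    refine (Submodule.finrank_mono h4).trans ?_
    refine (finrank_span_le_card _).trans ?_
    exact (Finset.card_le_card (by simp)).trans (Finset.card_le_two (a := a) (b := ζ a))
  have h6 := LinearMap.finrank_range_add_finrank_ker g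
  have h7 : Module.finrank (ZMod 2) (LinearMap.range g) ≤ 2 := by
    refine (Submodule.finrank_le _).trans ?_
    rw [Module.finrank_prod, Module.finrank_self]
  rw [Module.natCard_eq_pow_finrank (K := ZMod 2) (V := U), Nat.card_zmod]
  calc 2 ^ Module.finrank (ZMod 2) U ≤ 2 ^ 4 := Nat.pow_le_pow_right (by norm_num) (by omega)
    _ = 16 := by norm_num

end c4

end Cfsg.Agent.Omega.EH3.Clif
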