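import Cfsg.Agent.Omega.EH3.NFive

/-!
# Clifford step of EH3, piece (L) (helper947 for helper291)

`card_cent_le_of_semisimple` : in the configuration `Cfg` let `N₁ ≠ 1` be a perfect subgroup of `H` normalised by `X`
such that every minimal `N₁`-invariant, `X`-invariant subspace `U ∋ a` has an `N₁`-homomorphism `φ : U → V` whose
image is not orthogonal to `U`.  Then `|C_X(N₁)| ≤ 2`.
-/

set_option autoImplicit false

namespace Cfsg.Agent.Omega.EH3.Clif

open Subgroup Module Cfsg.Agent.Omega.W5.NearTI Cfsg.Agent.Omega.W5.Parity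

theorem CentOne.card_le_two {H : Type*} [Group H] [Finite H] {Y : Subgroup H}
    (key : ∀ f ∈ Y, ∀ g ∈ Y, f ≠ 1 → g ≠ 1 → f = g) : Nat.card Y ≤ 2 := by
  classical
  have hinj : Function.Injective fun f : Y => (decide (f = 1) : Bool) := by
    intro f g hfg
    by_cases hf : f = 1
    · by_cases hg : g = 1
      · rw [hf, hg]
      · simp [hf, hg] at hfg
    · by_cases hg : g = 1
      · simp [hf, hg] at hfg
      · exact Subtype.ext (key f f.2 g g.2 (fun h => hf (Subtype.ext h)) fun h => hg (Subtype.ext h))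
  have h3 := Nat.card_le_card_of_injective _ hinj
  simpa using h3

theorem CentOne.eq_bot_of_perfect_two {H : Type*} [Group H] [Finite H] {N : Subgroup H} (hN : ⁅N, N⁆ = N)
    (h2 : IsPGroup 2 N) : N = ⊥ := by
  have : Fact (Nat.Prime 2) := ⟨Nat.prime_two⟩
  by_contra hne
  have : Nontrivial N := (Subgroup.nontrivial_iff_ne_bot N).2 hne
  have : Group.IsNilpotent N := h2.isNilpotent
  have h3 : commutator N = ⊤ := by
    apply Subgroup.map_injective N.subtype_injective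
    rw [Subgroup.map_subtype_commutator, hN, ← MonoidHom.range_eq_map, Subgroup.range_subtype]
  exact (Group.IsSolvable.commutator_lt_top_of_nontrivial N).ne h3

variable {H V : Type*} [Group H] [AddCommGroup V] [Module (ZMod 2) V]
  {ρ : H →* (V ≃ₗ[ZMod 2] V)} {b : LinearMap.BilinForm (ZMod 2) V} {q : V → ZMod 2}
  {a : V} {D : Submodule (ZMod 2) V} {X : Subgroup H} {w : ℕ}

/-- **(L)** -/
theorem card_cent_le_of_semisimple (C : Cfg ρ b q a D X w) {N₁ : Subgroup H}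
    (hX : X ≤ normalizer (N₁ : Set H)) (hperf : ⁅N₁, N₁⁆ = N₁) (hne : N₁ ≠ ⊥)
    (hiso : ∀ U : Submodule (ZMod 2) V, a ∈ U → (∀ n ∈ N₁, ∀ v ∈ U, ρ n v ∈ U) →
      (∀ x ∈ X, ∀ v ∈ U, ρ x v ∈ U) →
      (∀ W : Submodule (ZMod 2) V, W ≤ U → (∀ n ∈ N₁, ∀ v ∈ W, ρ n v ∈ W) → W = ⊥ ∨ W = U) →
      ∃ φ : V →ₗ[ZMod 2] V, (∀ n ∈ N₁, ∀ u ∈ U, φ (ρ n u) = ρ n (φ u)) ∧
        ∃ u ∈ U, ∃ u' ∈ U, b (φ u) u' ≠ 0) :
    Nat.card ↥(X ⊓ centralizer (N₁ : Set H)) ≤ 2 := by
  classical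
  have := C.finite_H
  have := C.finite_V
  apply CentOne.card_le_two
  rintro f ⟨hf, hfc⟩ g ⟨hg, hgc⟩ hf1 hg1
  by_contra hfg
  have hXN : ∀ x ∈ X, ∀ n ∈ N₁, x * n * x⁻¹ ∈ N₁ := fun x hx n hn => (mem_normalizer_iff.1 (hX hx) n).1 hn
  have S := C.norX hXN hf hg hf1 hg1 hfg (fun n hn => mem_centralizer_iff.1 hfc n hn)
    (fun n hn => mem_centralizer_iff.1 hgc n hn)
  have hNp : ⁅N₁.map ρ, N₁.map ρ⁆ = N₁.map ρ := by rw [← map_commutator, hperf]
  -- the space `W₀` spanned by the orbit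
  set W₀ := U (N₁.map ρ) a with hW₀
  have haW : a ∈ W₀ := self_mem a
  have hNW : ∀ n ∈ N₁, ∀ v ∈ W₀, ρ n v ∈ W₀ := fun n hn v hv =>
    U_inv (N := N₁.map ρ) (n := ρ n) ⟨n, hn, rfl⟩ hv
  have hXW : ∀ x ∈ X, ∀ v ∈ W₀, ρ x v ∈ W₀ := by
    intro x hx v hv
    rcases (mem_U S.cl).1 hv with rfl | ⟨_, ⟨n, hn, rfl⟩, rfl⟩
    · rw [map_zero]; exact W₀.zero_mem
    · have e : ρ x (ρ n a) = ρ (x * n * x⁻¹) a := by
        rw [C.ρ_mul, C.ρ_mul, C.X_a (X.inv_mem hx)]
      rw [e]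
      exact hNW _ (hXN x hx n hn) a haW
  have hmin : ∀ W : Submodule (ZMod 2) V, W ≤ W₀ → (∀ n ∈ N₁, ∀ v ∈ W, ρ n v ∈ W) → W = ⊥ ∨ W = W₀ := by
    intro W hW hinv
    by_cases h0 : W = ⊥
    · exact Or.inl h0
    · right
      obtain ⟨v, hv, hv0⟩ := Submodule.exists_mem_ne_zero_of_ne_bot h0
      rcases (mem_U S.cl).1 (hW hv) with h | ⟨_, ⟨n, hn, rfl⟩, rfl⟩
      · exact absurd h hv0
      · have haW' : a ∈ W := by
          have := hinv _ (N₁.inv_mem hn) _ hv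
          rwa [C.ρ_inv_apply] at this
        apply le_antisymm hW
        apply Submodule.span_le.2
        rintro _ ⟨_, ⟨m, hm, rfl⟩, rfl⟩
        exact hinv m hm a haW'
  obtain ⟨φ, hφ, u, hu, u', hu', hb⟩ := hiso W₀ haW hNW hXW hmin
  rcases Nat.lt_or_ge (finrank (ZMod 2) W₀) 3 with h3 | h3
  · -- `N₁` fixes `a`
    have hfix : ∀ n ∈ N₁, ρ n a = a := fun n hn =>
      fix_of_perfect hNp C.a_ne (Nat.le_of_lt_succ h3) ⟨n, hn, rfl⟩
    have hW1 : ∀ v ∈ W₀, v = 0 ∨ v = a := by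
      intro v hv
      rcases (mem_U S.cl).1 hv with rfl | ⟨_, ⟨n, hn, rfl⟩, rfl⟩
      · exact Or.inl rfl
      · exact Or.inr (hfix n hn)
    have hua : u = a := by
      rcases hW1 u hu with rfl | h
      · exact absurd (by rw [map_zero, map_zero, LinearMap.zero_apply]) hb
      · exact h
    have hua' : u' = a := by
      rcases hW1 u' hu' with rfl | h
      · exact absurd (by rw [map_zero]) hb
      · exact h
    subst hua
    rw [hua'] at hb
    have hc : b u (φ u) = 1 := by rw [C.b_comm]; exact zmod_two_ne hb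
    have hfc' : ∀ n ∈ N₁, ρ n (φ u) = φ u := by
      intro n hn
      rw [← hφ n hn u hu, hfix n hn]
    apply hne
    apply CentOne.eq_bot_of_perfect_two hperf
    have hcent : N₁ ≤ centralizer (X : Set H) := by
      intro n hn
      rw [mem_centralizer_iff]
      intro x hx
      have h1 : x * n * x⁻¹ * n⁻¹ ∈ X := by
        have h2 := C.X_norm n (hfix n hn) x⁻¹ (X.inv_mem hx)
        have e : x * n * x⁻¹ * n⁻¹ = x * (n * x⁻¹ * n⁻¹) := by group
        rw [e]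
        exact X.mul_mem hx h2
      have h2 : x * n * x⁻¹ * n⁻¹ ∈ N₁ := N₁.mul_mem (hXN x hx n hn) (N₁.inv_mem hn)
      have h3 := C.opp h1 hc (hfc' _ h2)
      calc x * n = (x * n * x⁻¹ * n⁻¹) * (n * x) := by group
        _ = n * x := by rw [h3, one_mul]
    exact C.isPGroup_cent.to_le hcent
  · -- `N₁` induces all transvections
    have hS : ∀ {c : V}, c ∈ W₀ → c ≠ 0 → ∀ ψ : V →ₗ[ZMod 2] ZMod 2, ψ c = 0 →
        ∃ n ∈ N₁, ∀ x ∈ W₀, ρ n x = x + ψ x • c := by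
      intro c hc hc0 ψ hψ
      obtain ⟨_, ⟨n, hn, rfl⟩, h⟩ := S.exists_transv_three h3 hc hc0 ψ hψ
      exact ⟨n, hn, h⟩
    have key : ∀ c ∈ W₀, c ≠ 0 → ∀ y ∈ W₀, y ≠ 0 → y ≠ c → b (φ c) y = 0 := by
      intro c hc hc0 y hy hy0 hyc
      obtain ⟨x, hx, hx'⟩ := NorX.exists_out (e := a) (N := N₁.map ρ) h3 c y
      obtain ⟨ψ, h1, h2⟩ := Submodule.exists_le_ker_of_notMem hx'
      have h4 : ψ c = 0 := h2 (Submodule.subset_span (Set.mem_insert _ _))
      have h5 : ψ y = 0 := h2 (Submodule.subset_span (Set.mem_insert_of_mem _ rfl))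
      obtain ⟨n, hn, hn'⟩ := hS hc hc0 ψ h4
      have h6 := C.b_inv n (φ x) y
      rw [← hφ n hn x hx, hn' x hx, hn' y hy, h5, zmod_two_ne h1, zero_smul, add_zero, one_smul,
        map_add, map_add, LinearMap.add_apply] at h6
      exact add_eq_left.1 h6
    have hzero : ∀ c ∈ W₀, ∀ y ∈ W₀, b (φ c) y = 0 := by
      intro c hc y hy
      by_cases hc0 : c = 0
      · rw [hc0, map_zero, map_zero, LinearMap.zero_apply]
      by_cases hy0 : y = 0
      · rw [hy0, map_zero]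
      by_cases hyc : y = c
      · subst hyc
        obtain ⟨z, hz, hz'⟩ := NorX.exists_out (e := a) (N := N₁.map ρ) h3 y y
        have hz0 : z ≠ 0 := fun h => hz' (h ▸ Submodule.zero_mem _)
        have hzy : z ≠ y := fun h => hz' (h ▸ Submodule.subset_span (Set.mem_insert _ _))
        have h4 := key y hc hc0 z hz hz0 hzy
        have h5 := key y hc hc0 (z + y) (W₀.add_mem hz hy) (fun h => hzy (C.add_eq_zero.1 h))
          (fun h => hz0 (add_eq_right.1 h))
        rw [map_add, h4, zero_add] at h5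
        exact h5
      · exact key c hc hc0 y hy hy0 hyc
    exact hb (hzero u hu u' hu')

end Cfsg.Agent.Omega.EH3.Clif
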