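import Cfsg.Agent.S1270

/-!
# EH3, Clifford step: splitting a group with two components

`Split N₁ N₂`: two commuting perfect nontrivial subgroups with normal product.

* `two_components`: if `H` has two different components and `X` is a subgroup of exponent 2, then either
  `X` normalises both members of some `Split`, or some subgroup `A'` of index 2 in `X` normalises
  `N₁`, the elements of `X - A'` interchange `N₁` and `N₂`, and a subgroup of `N₁` normalised by `N₁` and
  `A'` is `N₁` or centralises `N₁`.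
* `exists_normalizing`, `four_le_card`: an abelian Sylow 2-subgroup `T` of a perfect group `N₁` of even order
  has order at least 4 and is not centralised by its normaliser.
-/

set_option autoImplicit false

namespace Cfsg.Agent.Omega.EH3.Clif.Comp

open Subgroup Cfsg Cfsg.Agent.Lib.ComponentSolvable
open Cfsg.Agent.S1270 (component_comm_of_normalizes component_comm_of_ne component_conj)
open scoped commutatorElement

variable {H : Type*} [Group H]

/-- Two commuting perfect nontrivial subgroups with normal product. -/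
structure Split (N₁ N₂ : Subgroup H) : Prop where
  comm : ∀ x ∈ N₁, ∀ y ∈ N₂, x * y = y * x
  norm : (N₁ ⊔ N₂).Normal
  perf₁ : ⁅N₁, N₁⁆ = N₁
  perf₂ : ⁅N₂, N₂⁆ = N₂
  ne₁ : N₁ ≠ ⊥
  ne₂ : N₂ ≠ ⊥

/-! ### Conjugation of subgroups -/

theorem conj_conj (K : Subgroup H) (a b : H) :
    (K.map (MulAut.conj a).toMonoidHom).map (MulAut.conj b).toMonoidHom =
      K.map (MulAut.conj (b * a)).toMonoidHom := by
  rw [Subgroup.map_map]
  congr 1
  ext x
  simp [mul_assoc]

theorem conj_one (K : Subgroup H) : K.map (MulAut.conj (1 : H)).toMonoidHom = K := by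
  ext x
  simp [Subgroup.mem_map]

theorem mem_normalizer_of_conj {K : Subgroup H} {a : H}
    (h : K.map (MulAut.conj a).toMonoidHom = K) : a ∈ normalizer (K : Set H) := by
  rw [mem_normalizer_iff]
  intro x
  constructor
  · intro hx
    rw [← h]
    exact ⟨x, hx, rfl⟩
  · intro hx
    rw [← h] at hx
    obtain ⟨y, hy, hxy⟩ := hx
    have : y = x := (MulAut.conj a).injective hxy
    exact this ▸ hy

theorem conj_eq_of_mem {K : Subgroup H} {a : H} (h : a ∈ normalizer (K : Set H)) :
    K.map (MulAut.conj a).toMonoidHom = K := by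
  ext x
  constructor
  · rintro ⟨y, hy, rfl⟩
    exact (mem_normalizer_iff.mp h y).mp hy
  · intro hx
    refine ⟨a⁻¹ * x * a, ?_, ?_⟩
    · rw [SetLike.mem_coe, mem_normalizer_iff.mp h]
      have e : a * (a⁻¹ * x * a) * a⁻¹ = x := by group
      rw [e]
      exact hx
    · change a * (a⁻¹ * x * a) * a⁻¹ = x
      group

/-- Conjugation of a supremum of subgroups. -/
theorem conj_sSup_le {s t : Set (Subgroup H)} {a : H}
    (h : ∀ K ∈ s, K.map (MulAut.conj a).toMonoidHom ∈ t) :
    (sSup s).map (MulAut.conj a).toMonoidHom ≤ sSup t := by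
  rw [map_le_iff_le_comap]
  refine sSup_le fun K hK => ?_
  rw [← map_le_iff_le_comap]
  exact le_sSup (h K hK)

theorem conj_sSup_eq {s t : Set (Subgroup H)} {a : H}
    (h : ∀ K ∈ s, K.map (MulAut.conj a).toMonoidHom ∈ t)
    (h' : ∀ K ∈ t, K.map (MulAut.conj a⁻¹).toMonoidHom ∈ s) :
    (sSup s).map (MulAut.conj a).toMonoidHom = sSup t := by
  apply le_antisymm (conj_sSup_le h)
  have h1 := Subgroup.map_mono (f := (MulAut.conj a).toMonoidHom) (conj_sSup_le h')
  rwa [conj_conj, mul_inv_cancel, conj_one] at h1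

/-! ### Products of components -/

theorem commutator_self {K : Subgroup H} (hK : IsComponent K) : ⁅K, K⁆ = K := by
  have h1 := Subgroup.map_subtype_commutator K
  have hp := hK.2.1
  rw [← h1]
  have h2 : _root_.commutator K = ⊤ := hp.commutator_eq_top
  rw [h2, ← MonoidHom.range_eq_map, Subgroup.range_subtype]

theorem ne_bot {K : Subgroup H} (hK : IsComponent K) : K ≠ ⊥ := by
  have := quasisimple_nontrivial hK.2
  exact (Subgroup.nontrivial_iff_ne_bot K).mp this

theorem perf_sSup {s : Set (Subgroup H)} (hs : ∀ K ∈ s, IsComponent K) :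
    ⁅sSup s, sSup s⁆ = sSup s := by
  apply le_antisymm
  · exact commutator_le_self _
  · refine sSup_le fun K hK => ?_
    rw [← commutator_self (hs K hK)]
    exact commutator_mono (le_sSup hK) (le_sSup hK)

theorem comm_sSup {s t : Set (Subgroup H)} (hs : ∀ K ∈ s, IsComponent K)
    (ht : ∀ K ∈ t, IsComponent K) (hd : ∀ K ∈ s, K ∉ t) :
    ∀ x ∈ sSup s, ∀ y ∈ sSup t, x * y = y * x := by
  have h1 : sSup s ≤ centralizer ((sSup t : Subgroup H) : Set H) := by
    refine sSup_le fun K hK => ?_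
    rw [le_centralizer_iff]
    refine sSup_le fun L hL => ?_
    have hne : L ≠ K := fun h => hd K hK (h ▸ hL)
    exact commutator_eq_bot_iff_le_centralizer.mp (component_comm_of_ne (ht L hL) (hs K hK) hne)
  intro x hx y hy
  exact ((mem_centralizer_iff.mp (h1 hx)) y hy).symm

theorem sSup_ne_bot {s : Set (Subgroup H)} (hs : ∀ K ∈ s, IsComponent K) {K : Subgroup H}
    (hK : K ∈ s) : sSup s ≠ ⊥ := by
  intro h
  exact ne_bot (hs K hK) (le_bot_iff.mp ((le_sSup hK).trans h.le))

theorem normal_sSup {s t : Set (Subgroup H)} (h : ∀ K : Subgroup H, IsComponent K ↔ K ∈ s ∨ K ∈ t) :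
    (sSup s ⊔ sSup t).Normal := by
  have e : sSup s ⊔ sSup t = sSup {K : Subgroup H | IsComponent K} := by
    rw [← sSup_union]
    congr 1
    ext K
    exact (h K).symm
  rw [e]
  constructor
  intro x hx g
  have h1 : (sSup {K : Subgroup H | IsComponent K}).map (MulAut.conj g).toMonoidHom ≤
      sSup {K : Subgroup H | IsComponent K} :=
    conj_sSup_le fun K hK => component_conj hK g
  exact h1 ⟨x, hx, rfl⟩

theorem split_of {s t : Set (Subgroup H)} (h : ∀ K : Subgroup H, IsComponent K ↔ K ∈ s ∨ K ∈ t)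
    (hd : ∀ K ∈ s, K ∉ t) {K L : Subgroup H} (hK : K ∈ s) (hL : L ∈ t) :
    Split (sSup s) (sSup t) where
  comm := comm_sSup (fun K hK => (h K).mpr (Or.inl hK)) (fun K hK => (h K).mpr (Or.inr hK)) hd
  norm := normal_sSup h
  perf₁ := perf_sSup fun K hK => (h K).mpr (Or.inl hK)
  perf₂ := perf_sSup fun K hK => (h K).mpr (Or.inr hK)
  ne₁ := sSup_ne_bot (fun K hK => (h K).mpr (Or.inl hK)) hK
  ne₂ := sSup_ne_bot (fun K hK => (h K).mpr (Or.inr hK)) hL

/-! ### Subgroups of exponent 2 -/

theorem comm_of_sq {X : Subgroup H} (hX : ∀ x ∈ X, x * x = 1) {a b : H} (ha : a ∈ X) (hb : b ∈ X) :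
    a * b = b * a := by
  have h1 : a⁻¹ = a := inv_eq_of_mul_eq_one_left (hX a ha)
  have h2 : b⁻¹ = b := inv_eq_of_mul_eq_one_left (hX b hb)
  have h3 : (a * b)⁻¹ = a * b := inv_eq_of_mul_eq_one_left (hX _ (X.mul_mem ha hb))
  rw [mul_inv_rev, h1, h2] at h3
  exact h3.symm

/-- A proper subgroup of a finite group of exponent 2 lies in a subgroup of index 2. -/
theorem exists_index_two [Finite H] {X B : Subgroup H} (hX : ∀ x ∈ X, x * x = 1) (hBX : B ≤ X)
    (hne : B ≠ X) : ∃ A ≤ X, B ≤ A ∧ A ≠ X ∧ ∀ x ∈ X, x ∉ A → ∀ y ∈ X, y ∉ A → y * x ∈ A := by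
  have hfin : (Set.univ : Set (Subgroup H)).Finite := Set.toFinite _
  obtain ⟨A, hBA, hA⟩ := Finite.exists_le_maximal (p := fun A : Subgroup H => A ≤ X ∧ A ≠ X)
    ⟨hBX, hne⟩
  refine ⟨A, hA.prop.1, hBA, hA.prop.2, ?_⟩
  intro x hx hxA
  let D : Subgroup H :=
    { carrier := {y | y ∈ X ∧ (y ∈ A ∨ y * x ∈ A)}
      one_mem' := ⟨X.one_mem, Or.inl A.one_mem⟩
      mul_mem' := by
        rintro a b ⟨ha, ha'⟩ ⟨hb, hb'⟩
        refine ⟨X.mul_mem ha hb, ?_⟩
        have hbx := comm_of_sq hX hb hx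
        rcases ha' with h1 | h1 <;> rcases hb' with h2 | h2
        · exact Or.inl (A.mul_mem h1 h2)
        · right
          rw [mul_assoc]
          exact A.mul_mem h1 h2
        · right
          have e : a * b * x = a * x * b := by rw [mul_assoc, hbx, ← mul_assoc]
          rw [e]
          exact A.mul_mem h1 h2
        · left
          have e : a * b = a * x * (b * x) := by
            rw [hbx]
            calc a * b = a * 1 * b := by rw [mul_one]
              _ = a * (x * x) * b := by rw [hX x hx]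
              _ = a * x * (x * b) := by group
          rw [e]
          exact A.mul_mem h1 h2
      inv_mem' := by
        rintro a ⟨ha, ha'⟩
        have h1 : a⁻¹ = a := inv_eq_of_mul_eq_one_left (hX a ha)
        change a⁻¹ ∈ X ∧ (a⁻¹ ∈ A ∨ a⁻¹ * x ∈ A)
        rw [h1]
        exact ⟨ha, ha'⟩ }
  have hAD : A ≤ D := fun a ha => ⟨hA.prop.1 ha, Or.inl ha⟩
  have hDX : D ≤ X := fun a ha => ha.1
  have hxD : x ∈ D := ⟨hx, Or.inr (by rw [hX x hx]; exact A.one_mem)⟩
  have hD : D = X := by
    by_contra hcon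
    exact hxA (hA.le_of_ge ⟨hDX, hcon⟩ hAD hxD)
  intro y hy hyA
  rw [← hD] at hy
  exact hy.2.resolve_left hyA

theorem relIndex_two {X A : Subgroup H} (hAX : A ≤ X) (hne : A ≠ X)
    (h : ∀ x ∈ X, x ∉ A → ∀ y ∈ X, y ∉ A → y * x ∈ A) : A.relIndex X = 2 := by
  obtain ⟨x, hx, hxA⟩ : ∃ x ∈ X, x ∉ A := by
    by_contra hcon
    push Not at hcon
    exact hne (le_antisymm hAX hcon)
  rw [relIndex, index_eq_two_iff]
  refine ⟨⟨x, hx⟩, fun b => ?_⟩
  rw [mem_subgroupOf, mem_subgroupOf]
  by_cases hb : (b : H) ∈ A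
  · right
    refine ⟨hb, fun hbx => hxA ?_⟩
    have h1 := A.mul_mem (A.inv_mem hb) hbx
    simpa using h1
  · left
    exact ⟨h x hx hxA b b.2 hb, hb⟩

/-! ### The theorem -/

theorem two_components [Finite H] (X : Subgroup H) (hX : ∀ x ∈ X, x * x = 1) {K K' : Subgroup H}
    (hK : IsComponent K) (hK' : IsComponent K') (hne : K ≠ K') :
    (∃ N₁ N₂ : Subgroup H, Split N₁ N₂ ∧ X ≤ normalizer (N₁ : Set H) ∧
        X ≤ normalizer (N₂ : Set H) ∧ K ≤ N₁) ∨
      (∃ N₁ N₂ A' : Subgroup H, Split N₁ N₂ ∧ A' ≤ X ∧ A'.relIndex X = 2 ∧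
        A' ≤ normalizer (N₁ : Set H) ∧
        (∀ x ∈ X, x ∉ A' → N₁.map (MulAut.conj x).toMonoidHom = N₂) ∧
        (∀ J ≤ N₁, N₁ ≤ normalizer (J : Set H) → A' ≤ normalizer (J : Set H) →
          J = N₁ ∨ J ≤ centralizer (N₁ : Set H)) ∧ K ≤ N₁) := by
  by_cases htr : ∀ L : Subgroup H, IsComponent L → ∃ x ∈ X, K.map (MulAut.conj x).toMonoidHom = L
  · -- transitive case
    right
    obtain ⟨x₀, hx₀, hx₀K⟩ := htr K' hK'
    have hx₀n : x₀ ∉ normalizer (K : Set H) := fun h => hne (hx₀K ▸ (conj_eq_of_mem h).symm)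
    obtain ⟨A, hAX, hBA, hAne, hA2⟩ := exists_index_two hX (B := X ⊓ normalizer (K : Set H))
      inf_le_left (fun h => hx₀n (h.ge hx₀).2)
    obtain ⟨x, hx, hxA⟩ : ∃ x ∈ X, x ∉ A := by
      by_contra hcon
      push Not at hcon
      exact hAne (le_antisymm hAX hcon)
    let s : Set (Subgroup H) := {L | ∃ a ∈ A, K.map (MulAut.conj a).toMonoidHom = L}
    let t : Set (Subgroup H) := {L | ∃ a ∈ A, K.map (MulAut.conj (a * x)).toMonoidHom = L}
    have hd : ∀ L ∈ s, L ∉ t := by
      rintro L ⟨a, ha, rfl⟩ ⟨b, hb, hab⟩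
      have h1 : K.map (MulAut.conj (a⁻¹ * (b * x))).toMonoidHom = K := by
        rw [← conj_conj, hab, conj_conj, inv_mul_cancel, conj_one]
      have h2 : a⁻¹ * (b * x) ∈ A :=
        hBA ⟨X.mul_mem (X.inv_mem (hAX ha)) (X.mul_mem (hAX hb) hx), mem_normalizer_of_conj h1⟩
      apply hxA
      have h3 := A.mul_mem (A.inv_mem hb) (A.mul_mem ha h2)
      simpa [mul_assoc] using h3
    have hcov : ∀ L : Subgroup H, IsComponent L ↔ L ∈ s ∨ L ∈ t := by
      intro L
      constructor
      · intro hL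
        obtain ⟨y, hy, hyL⟩ := htr L hL
        by_cases hyA : y ∈ A
        · exact Or.inl ⟨y, hyA, hyL⟩
        · refine Or.inr ⟨y * x, hA2 x hx hxA y hy hyA, ?_⟩
          rw [mul_assoc, hX x hx, mul_one]
          exact hyL
      · rintro (⟨a, -, rfl⟩ | ⟨a, -, rfl⟩) <;> exact component_conj hK _
    have hKs : K ∈ s := ⟨1, A.one_mem, conj_one K⟩
    have hKt : K.map (MulAut.conj x).toMonoidHom ∈ t := ⟨1, A.one_mem, by rw [one_mul]⟩
    have hAs : ∀ a ∈ A, ∀ L ∈ s, L.map (MulAut.conj a).toMonoidHom ∈ s := by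
      rintro a ha L ⟨b, hb, rfl⟩
      exact ⟨a * b, A.mul_mem ha hb, (conj_conj _ _ _).symm⟩
    refine ⟨sSup s, sSup t, A, split_of hcov hd hKs hKt, hAX, relIndex_two hAX hAne hA2, ?_, ?_, ?_,
      le_sSup hKs⟩
    · intro a ha
      exact mem_normalizer_of_conj (conj_sSup_eq (hAs a ha) (hAs a⁻¹ (A.inv_mem ha)))
    · intro y hy hyA
      have hyx : y * x ∈ A := hA2 x hx hxA y hy hyA
      have hyi : y⁻¹ = y := inv_eq_of_mul_eq_one_left (hX y hy)
      apply conj_sSup_eq
      · rintro L ⟨a, ha, rfl⟩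
        refine ⟨a * (y * x), A.mul_mem ha hyx, ?_⟩
        rw [conj_conj]
        congr 3
        have h1 := comm_of_sq hX hy (hAX ha)
        rw [mul_assoc, mul_assoc, hX x hx, mul_one, h1]
      · rw [hyi]
        rintro L ⟨a, ha, rfl⟩
        refine ⟨a * (y * x), A.mul_mem ha hyx, ?_⟩
        rw [conj_conj]
        congr 3
        have h1 := comm_of_sq hX hy (hAX ha)
        rw [← mul_assoc, ← mul_assoc, h1]
    · intro J hJ hNJ hAJ
      by_cases hKJ : K ≤ J
      · left
        apply le_antisymm hJ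
        refine sSup_le ?_
        rintro L ⟨a, ha, rfl⟩
        have h1 := Subgroup.map_mono (f := (MulAut.conj a).toMonoidHom) hKJ
        rwa [conj_eq_of_mem (hAJ ha)] at h1
      · right
        rw [le_centralizer_iff]
        refine sSup_le ?_
        rintro L ⟨a, ha, rfl⟩
        have hLN : K.map (MulAut.conj a).toMonoidHom ≤ sSup s := le_sSup ⟨a, ha, rfl⟩
        have hLJ : ¬ K.map (MulAut.conj a).toMonoidHom ≤ J := by
          intro hcon
          apply hKJ
          have h1 := Subgroup.map_mono (f := (MulAut.conj a⁻¹).toMonoidHom) hcon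
          rwa [conj_eq_of_mem (hAJ (A.inv_mem ha)), conj_conj, inv_mul_cancel, conj_one] at h1
        exact commutator_eq_bot_iff_le_centralizer.mp
          (component_comm_of_normalizes (component_conj hK a) (hLN.trans hNJ) hLJ)
  · -- intransitive case
    left
    push Not at htr
    obtain ⟨L, hL, hLn⟩ := htr
    let s : Set (Subgroup H) := {L | ∃ a ∈ X, K.map (MulAut.conj a).toMonoidHom = L}
    let t : Set (Subgroup H) := {L | IsComponent L ∧ L ∉ s}
    have hcov : ∀ L : Subgroup H, IsComponent L ↔ L ∈ s ∨ L ∈ t := by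
      intro L
      constructor
      · intro hL
        by_cases h : L ∈ s
        · exact Or.inl h
        · exact Or.inr ⟨hL, h⟩
      · rintro (⟨a, -, rfl⟩ | h)
        · exact component_conj hK _
        · exact h.1
    have hXs : ∀ a ∈ X, ∀ L ∈ s, L.map (MulAut.conj a).toMonoidHom ∈ s := by
      rintro a ha L ⟨b, hb, rfl⟩
      exact ⟨a * b, X.mul_mem ha hb, (conj_conj _ _ _).symm⟩
    have hXt : ∀ a ∈ X, ∀ L ∈ t, L.map (MulAut.conj a).toMonoidHom ∈ t := by
      rintro a ha L ⟨hL, hLs⟩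
      refine ⟨component_conj hL a, fun hcon => hLs ?_⟩
      have h1 := hXs a⁻¹ (X.inv_mem ha) _ hcon
      rwa [conj_conj, inv_mul_cancel, conj_one] at h1
    refine ⟨sSup s, sSup t, split_of hcov (fun L hL h => h.2 hL) (K := K) (L := L)
      ⟨1, X.one_mem, conj_one K⟩ ⟨hL, fun ⟨a, ha, h⟩ => hLn a ha h⟩, ?_, ?_,
      le_sSup ⟨1, X.one_mem, conj_one K⟩⟩
    · intro a ha
      exact mem_normalizer_of_conj (conj_sSup_eq (hXs a ha) (hXs a⁻¹ (X.inv_mem ha)))
    · intro a ha
      exact mem_normalizer_of_conj (conj_sSup_eq (hXt a ha) (hXt a⁻¹ (X.inv_mem ha)))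

/-! ### Burnside transfer in a perfect group -/

/-- A perfect group has no nontrivial Sylow subgroup centralised by its normaliser. -/
theorem eq_bot_of_burnside {N : Type*} [Group N] [Finite N] {p : ℕ} [Fact p.Prime]
    (hN : _root_.commutator N = ⊤) (P : Sylow p N)
    (hP : normalizer ((P : Subgroup N) : Set N) ≤ centralizer ((P : Subgroup N) : Set N)) :
    (P : Subgroup N) = ⊥ := by
  have hcomm : ∀ a b : P, a * b = b * a := fun a b =>
    Subtype.ext (hP (Subgroup.le_normalizer b.2) a a.2)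
  have hker : (MonoidHom.transferSylow P hP).ker = ⊤ := by
    rw [eq_top_iff, ← hN]
    let _ : CommGroup P := { (inferInstance : Group P) with mul_comm := hcomm }
    exact Abelianization.commutator_subset_ker (G := N) (A := P) (MonoidHom.transferSylow P hP)
  have h1 := MonoidHom.ker_transferSylow_isComplement' P hP
  rw [hker] at h1
  exact Subgroup.isComplement'_top_left.mp h1

variable [Finite H]

/-- An abelian Sylow 2-subgroup of a perfect group of even order is not centralised by its normaliser. -/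
theorem exists_normalizing {N T : Subgroup H} (hN : ⁅N, N⁆ = N) (hTN : T ≤ N) (hT2 : IsPGroup 2 T)
    (hTi : Odd (T.relIndex N)) (hne : T ≠ ⊥) :
    ∃ n ∈ N, n ∈ normalizer (T : Set H) ∧ n ∉ centralizer (T : Set H) := by
  have : Fact (Nat.Prime 2) := ⟨Nat.prime_two⟩
  by_contra hcon
  push Not at hcon
  have hTp : IsPGroup 2 (T.subgroupOf N) := hT2.comap_subtype
  have hnd : ¬ 2 ∣ (T.subgroupOf N).index := by
    intro h
    have h1 : Odd ((T.subgroupOf N).index) := hTi
    exact (Nat.not_odd_iff_even.mpr (even_iff_two_dvd.mpr h)) h1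
  let P : Sylow 2 N := IsPGroup.toSylow hTp hnd
  have hPT : (P : Subgroup N) = T.subgroupOf N := rfl
  have hNc : _root_.commutator N = ⊤ := by
    have h1 := Subgroup.map_subtype_commutator N
    rw [hN] at h1
    apply Subgroup.map_injective N.subtype_injective
    rw [h1, ← MonoidHom.range_eq_map, Subgroup.range_subtype]
  have hP : normalizer ((P : Subgroup N) : Set N) ≤ centralizer ((P : Subgroup N) : Set N) := by
    intro n hn
    have h1 : (n : H) ∈ normalizer (T : Set H) := by
      rw [mem_normalizer_iff] at hn ⊢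
      intro y
      constructor
      · intro hy
        have := (hn ⟨y, hTN hy⟩).mp (by rw [hPT, mem_subgroupOf]; exact hy)
        rw [hPT, mem_subgroupOf] at this
        exact this
      · intro hy
        have hyN : y ∈ N := by
          have h2 := N.mul_mem (N.mul_mem (N.inv_mem n.2) (hTN hy)) n.2
          have e : (n : H)⁻¹ * (n * y * (n : H)⁻¹) * n = y := by group
          rwa [e] at h2
        have := (hn ⟨y, hyN⟩).mpr (by rw [hPT, mem_subgroupOf]; exact hy)
        rw [hPT, mem_subgroupOf] at this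
        exact this
    have h2 := hcon n n.2 h1
    rw [mem_centralizer_iff] at h2 ⊢
    intro y hy
    have hy' : (y : H) ∈ T := by
      rw [hPT] at hy
      exact mem_subgroupOf.mp hy
    exact Subtype.ext (h2 y hy')
  have h3 := eq_bot_of_burnside hNc P hP
  rw [hPT, subgroupOf_eq_bot] at h3
  exact hne (le_bot_iff.mp (by rw [← h3.eq_bot]; exact le_inf le_rfl hTN))

/-- An abelian Sylow 2-subgroup of a perfect group of even order has order at least 4. -/
theorem four_le_card {N T : Subgroup H} (hN : ⁅N, N⁆ = N) (hTN : T ≤ N) (hT2 : IsPGroup 2 T)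
    (hTi : Odd (T.relIndex N)) (hev : Even (Nat.card N)) : 4 ≤ Nat.card T ∧ T ≠ ⊥ := by
  have : Fact (Nat.Prime 2) := ⟨Nat.prime_two⟩
  have hc : T.relIndex N * Nat.card T = Nat.card N := by
    rw [mul_comm, relIndex, ← Nat.card_congr (subgroupOfEquivOfLe hTN).toEquiv]
    exact Subgroup.card_mul_index _
  have hTev : Even (Nat.card T) := by
    rw [← hc] at hev
    rcases Nat.even_mul.mp hev with h | h
    · exact absurd hTi (Nat.not_odd_iff_even.mpr h)
    · exact h
  have hne : T ≠ ⊥ := by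
    rintro rfl
    rw [Subgroup.card_bot] at hTev
    exact absurd hTev (by decide)
  obtain ⟨k, hk⟩ := (IsPGroup.iff_card).mp hT2
  refine ⟨?_, hne⟩
  rcases Nat.lt_or_ge k 2 with hk2 | hk2
  · exfalso
    have hT : Nat.card T = 2 := by
      interval_cases k
      · rw [hk] at hTev
        exact absurd hTev (by decide)
      · exact hk
    obtain ⟨n, hn, hnT, hnc⟩ := exists_normalizing hN hTN hT2 hTi hne
    apply hnc
    rw [mem_centralizer_iff]
    intro y hy
    by_cases hy1 : y = 1
    · rw [hy1, mul_one, one_mul]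
    have h1 : n * y * n⁻¹ ∈ T := (mem_normalizer_iff.mp hnT y).mp hy
    have h2 : n * y * n⁻¹ ≠ 1 := by
      intro h
      apply hy1
      have : n * y = n := by
        rw [mul_inv_eq_one] at h
        exact h
      exact mul_eq_left.mp this
    have hex : ∀ u v : T, u ≠ 1 → v ≠ 1 → u = v := by
      obtain ⟨y, -, hy⟩ := (Nat.card_eq_two_iff' (1 : T)).mp hT
      intro u v hu hv
      rw [hy u hu, hy v hv]
    have h3 := hex ⟨_, h1⟩ ⟨y, hy⟩ (fun h => h2 (congrArg Subtype.val h))
      (fun h => hy1 (congrArg Subtype.val h))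
    have h4 : n * y * n⁻¹ = y := congrArg Subtype.val h3
    exact (mul_inv_eq_iff_eq_mul.mp h4).symm
  · rw [hk]
    calc 4 = 2 ^ 2 := by norm_num
      _ ≤ 2 ^ k := Nat.pow_le_pow_right (by norm_num) hk2

end Cfsg.Agent.Omega.EH3.Clif.Comp
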