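import Cfsg.Agent.Omega.EH3.Clif.Homog
import Cfsg.Agent.Omega.EH3.TForm

/-!
# Clifford step of EH3: the two contradictions in a frame (helper291)

* `one` : both factors `B`-invariant;
* `two` : the factors swapped by `B`.
-/

set_option autoImplicit false

namespace Cfsg.Agent.Omega.EH3.Clif

open Module Subgroup

variable {H V : Type*} [Group H] [AddCommGroup V] [Module (ZMod 2) V]
  {ρ : H →* (V ≃ₗ[ZMod 2] V)} {b : LinearMap.BilinForm (ZMod 2) V} {q : V → ZMod 2}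
  {a : V} {D : Submodule (ZMod 2) V} {X : Subgroup H} {w : ℕ}

theorem orders {C : Cfg ρ b q a D X w} {N : Subgroup H} {c U : Submodule (S ρ N) V} {B : Subgroup H}
    {e : V} {k : ℕ} (F : Frame C N c U B e k) :
    ∃ l m, Nat.card U = 2 ^ l ∧ 1 ≤ m ∧ l * m * 2 ^ k = 2 * w := by
  have := C.finite_V
  obtain ⟨m, hm0, hm⟩ := F.card_U
  have hdvd : Nat.card U ∣ 2 ^ (2 * w) := by
    rw [← C.card_V]
    exact AddSubgroup.card_addSubgroup_dvd_card U.toAddSubgroup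
  obtain ⟨l, -, hl⟩ := (Nat.dvd_prime_pow Nat.prime_two).1 hdvd
  refine ⟨l, m, hl, Nat.one_le_iff_ne_zero.2 hm0, ?_⟩
  have h1 := F.card_c
  rw [hm, hl, ← pow_mul, ← pow_mul] at h1
  rw [mul_assoc]
  exact Nat.pow_right_injective (le_refl 2) h1

theorem card_le_of {Z : Subgroup H} [Finite Z] (hZ : Nat.card Z ≤ 2) {Y : Type*} (f : Y → H)
    (hf : Function.Injective f) (h : ∀ y, f y ∈ Z) : Nat.card Y ≤ 2 :=
  (Nat.card_le_card_of_injective (fun y => (⟨f y, h y⟩ : Z)) fun _ _ hxy =>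
    hf (congrArg Subtype.val hxy)).trans hZ

/-- the action of `B` on `U` -/
theorem Frame.inv' {C : Cfg ρ b q a D X w} {N : Subgroup H} {c U : Submodule (S ρ N) V} {B : Subgroup H}
    {e : V} {k : ℕ} (F : Frame C N c U B e k) : ∀ x : B, ∀ v ∈ U, rep ρ B x v ∈ U :=
  fun x v hv => F.Uinv x x.2 v hv

theorem Frame.fixU {C : Cfg ρ b q a D X w} {N : Subgroup H} {c U : Submodule (S ρ N) V} {B : Subgroup H}
    {e : V} {k : ℕ} (F : Frame C N c U B e k) (v : U) (hv : ∀ x, res (rep ρ B) U F.inv' x v = v) :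
    v = 0 ∨ v = ⟨e, F.eU⟩ := by
  rcases F.fix v (F.Uc v.2) (fun x hx => congrArg Subtype.val (hv ⟨x, hx⟩)) with h | h
  · exact Or.inl (Subtype.ext h)
  · exact Or.inr (Subtype.ext h)

/-- **both factors invariant** -/
theorem one {C : Cfg ρ b q a D X w} {N₁ N₂ : Subgroup H}
    (hcomm : ∀ x ∈ N₁, ∀ y ∈ N₂, x * y = y * x) {c U : Submodule (S ρ (N₁ ⊔ N₂)) V} {B : Subgroup H}
    {e : V} {k : ℕ} (F : Frame C (N₁ ⊔ N₂) c U B e k)
    (hB₁ : ∀ x ∈ B, ∀ n ∈ N₁, x * n * x⁻¹ ∈ N₁) (hB₂ : ∀ x ∈ B, ∀ n ∈ N₂, x * n * x⁻¹ ∈ N₂)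
    {Z₁ Z₂ : Subgroup H} (hZ₁ : Nat.card Z₁ ≤ 2) (hZ₂ : Nat.card Z₂ ≤ 2)
    (hz₁ : ∀ x ∈ B, (∀ n ∈ N₁, ∀ v ∈ c, ρ (cm n x) v = v) → x ∈ Z₁)
    (hz₂ : ∀ x ∈ B, (∀ n ∈ N₂, ∀ v ∈ c, ρ (cm n x) v = v) → x ∈ Z₂) : False := by
  have := C.finite_V
  have := C.finite_H
  have hcomm' : ∀ x ∈ N₂, ∀ y ∈ N₁, x * y = y * x := fun x hx y hy => (hcomm y hy x hx).symm
  have hsup := sub_sup (ρ := ρ) (N₁ := N₁) (N₂ := N₂)
  have hc : ∀ s ∈ sub (ρ := ρ) (N₁ ⊔ N₂) N₁, ∀ t ∈ sub (ρ := ρ) (N₁ ⊔ N₂) N₂, s * t = t * s :=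
    fun s hs t ht => Subtype.ext (S_comm hcomm (s : AddMonoid.End V) hs (t : AddMonoid.End V) ht)
  obtain ⟨l, m, hl, hm, hlm⟩ := orders F
  have hinvB : ∀ {M : Subgroup H}, (∀ x ∈ B, ∀ n ∈ M, x * n * x⁻¹ ∈ M) → ∀ x : B, ∀ n ∈ M, (x : H)⁻¹ * n * x ∈ M := by
    intro M hM x n hn
    have := hM _ (B.inv_mem x.2) n hn
    rwa [inv_inv] at this
  have key := ineq_one (R := S ρ (N₁ ⊔ N₂)) (R₁ := sub (ρ := ρ) (N₁ ⊔ N₂) N₁)
    (R₂ := sub (ρ := ρ) (N₁ ⊔ N₂) N₂) (U := U) (fun u => Subtype.ext (C.add_self _)) F.simp hc hsup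
    (B := B) (fun x => Subtype.ext (C.X_sq x (F.BX x.2))) (res (rep ρ B) U F.inv')
    (fun x => nor_sub le_sup_left U F.inv' x (hinvB hB₁ x) (hB₁ x x.2))
    (fun x => nor_sub le_sup_right U F.inv' x (hinvB hB₂ x) (hB₂ x x.2))
    (e := ⟨e, F.eU⟩) (fun h => F.e0 (congrArg Subtype.val h)) (fun x => Subtype.ext (F.efix x x.2))
    F.fixU
    (by
      intro M hM _
      refine card_le_of hZ₁ (fun y : {x : B // ∀ m ∈ M, res (rep ρ B) U F.inv' x m = m} => ((y.1 : B) : H))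
        (fun y z h => Subtype.ext (Subtype.ext h)) ?_
      rintro ⟨x, hx⟩
      exact hz₁ x x.2 (triv_c rfl hcomm F (hB₁ x x.2) hM fun m hm => congrArg Subtype.val (hx m hm)))
    (by
      intro M hM _
      refine card_le_of hZ₂ (fun y : {x : B // ∀ m ∈ M, res (rep ρ B) U F.inv' x m = m} => ((y.1 : B) : H))
        (fun y z h => Subtype.ext (Subtype.ext h)) ?_
      rintro ⟨x, hx⟩
      exact hz₂ x x.2 (triv_c (sup_comm _ _) hcomm' F (hB₂ x x.2) hM fun m hm => congrArg Subtype.val (hx m hm)))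
    F.card_B hl
  have hw := C.six
  have hk := F.k_le
  have hl' : l ≤ l * m := Nat.le_mul_of_pos_right l hm
  interval_cases k
  · rw [pow_zero, mul_one] at hlm
    have h1 : (w - 1 - 0) * (w - 1 - 0) ≤ 2 * (2 * w) := key.trans (by omega)
    obtain ⟨v, rfl⟩ : ∃ v, w = v + 1 := ⟨w - 1, by omega⟩
    have h2 : v + 1 - 1 - 0 = v := by omega
    rw [h2] at h1
    have h5 : 5 ≤ v := by omega
    nlinarith
  · rw [pow_one] at hlm
    have h1 : (w - 1 - 1) * (w - 1 - 1) ≤ 2 * w := key.trans (by omega)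
    obtain ⟨v, rfl⟩ : ∃ v, w = v + 2 := ⟨w - 2, by omega⟩
    have h2 : v + 2 - 1 - 1 = v := by omega
    rw [h2] at h1
    have h5 : 4 ≤ v := by omega
    nlinarith

/-- **the two factors swapped** -/
theorem two {C : Cfg ρ b q a D X w} {N₁ N₂ : Subgroup H}
    (hcomm : ∀ x ∈ N₁, ∀ y ∈ N₂, x * y = y * x) {c U : Submodule (S ρ (N₁ ⊔ N₂)) V} {B : Subgroup H}
    {e : V} {k : ℕ} (F : Frame C (N₁ ⊔ N₂) c U B e k) (hN : (N₁ ⊔ N₂).Normal)
    {B' : Subgroup H} (hidx : B'.relIndex B = 2)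
    (hB₁ : ∀ x ∈ B', ∀ n ∈ N₁, x * n * x⁻¹ ∈ N₁) {b₀ : H} (hb₀ : b₀ ∈ B) (hb₀' : b₀ ∉ B')
    (hsw : ∀ n ∈ N₁, b₀ * n * b₀⁻¹ ∈ N₂) (hsw' : ∀ n ∈ N₂, b₀⁻¹ * n * b₀ ∈ N₁)
    {Z : Subgroup H} (hZ : Nat.card Z ≤ 2)
    (hz : ∀ x ∈ B, x ∈ B' → (∀ n ∈ N₁, ∀ v ∈ c, ρ (cm n x) v = v) → x ∈ Z) : False := by
  have := C.finite_V
  have := C.finite_H
  have hsup := sub_sup (ρ := ρ) (N₁ := N₁) (N₂ := N₂)
  have hc : ∀ s ∈ sub (ρ := ρ) (N₁ ⊔ N₂) N₁, ∀ t ∈ sub (ρ := ρ) (N₁ ⊔ N₂) N₂, s * t = t * s :=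
    fun s hs t ht => Subtype.ext (S_comm hcomm (s : AddMonoid.End V) hs (t : AddMonoid.End V) ht)
  obtain ⟨l, m, hl, hm, hlm⟩ := orders F
  have hinvB : ∀ x ∈ B', ∀ n ∈ N₁, x⁻¹ * n * x ∈ N₁ := by
    intro x hx n hn
    have := hB₁ _ (B'.inv_mem hx) n hn
    rwa [inv_inv] at this
  have hcardB' : Nat.card (B'.subgroupOf B) * 2 = 2 ^ (w - 1 - k) := by
    rw [← F.card_B, ← hidx]
    exact (B'.subgroupOf B).card_mul_index
  have hw := C.six
  have hk := F.k_le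
  have hcardB'' : Nat.card (B'.subgroupOf B) = 2 ^ (w - 2 - k) := by
    have h1 : w - 1 - k = (w - 2 - k) + 1 := by omega
    rw [h1, pow_succ] at hcardB'
    exact Nat.eq_of_mul_eq_mul_right (by norm_num) hcardB'
  have key := ineq_two (R := S ρ (N₁ ⊔ N₂)) (R₁ := sub (ρ := ρ) (N₁ ⊔ N₂) N₁)
    (R₂ := sub (ρ := ρ) (N₁ ⊔ N₂) N₂) (U := U) (fun u => Subtype.ext (C.add_self _)) F.simp hc hsup
    (B := B) (fun x => Subtype.ext (C.X_sq x (F.BX x.2))) (res (rep ρ B) U F.inv')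
    (fun x => res_nor (rep ρ B) U F.inv' x (nor_rep x
      (fun n hn => by
        have := hN.conj_mem n hn (x : H)⁻¹
        rwa [inv_inv] at this)
      (fun n hn => hN.conj_mem n hn x)))
    (B'.subgroupOf B) hidx
    (fun x hx => nor_sub le_sup_left U F.inv' x (hinvB x (mem_subgroupOf.1 hx)) (hB₁ x (mem_subgroupOf.1 hx)))
    (b₀ := ⟨b₀, hb₀⟩) (fun h => hb₀' (mem_subgroupOf.1 h))
    (swp_sub le_sup_left le_sup_right U F.inv' ⟨b₀, hb₀⟩ hsw hsw')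
    (e := ⟨e, F.eU⟩) (fun h => F.e0 (congrArg Subtype.val h)) (fun x => Subtype.ext (F.efix x x.2))
    F.fixU
    (by
      intro M hM
      refine card_le_of hZ (fun y : {x : B'.subgroupOf B // ∀ m ∈ M, res (rep ρ B) U F.inv' x m = m} =>
        (((y.1 : B'.subgroupOf B) : B) : H))
        (fun y z h => Subtype.ext (Subtype.ext (Subtype.ext h))) ?_
      rintro ⟨⟨x, hxB'⟩, hx⟩
      exact hz x x.2 (mem_subgroupOf.1 hxB') (triv_c rfl hcomm F (hB₁ x (mem_subgroupOf.1 hxB')) hM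
        fun m hm => congrArg Subtype.val (hx m hm)))
    hcardB'' hl
  obtain ⟨x, j, d, hkx, hj, hd, hxj⟩ := key
  have ht : x * x * (j * m) * 2 ^ k = d * (2 * w) := by
    calc x * x * (j * m) * 2 ^ k = (x * x * j) * m * 2 ^ k := by ring
      _ = d * (l * m * 2 ^ k) := by rw [hxj]; ring
      _ = d * (2 * w) := by rw [hlm]
  have hjm : 1 ≤ j * m := Nat.one_le_iff_ne_zero.2 (Nat.mul_ne_zero (by omega) (by omega))
  generalize hjm' : j * m = t at ht hjm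
  have hxt : x * x ≤ x * x * t := Nat.le_mul_of_pos_right _ hjm
  have hd' : d * (2 * w) ≤ 4 * w := by nlinarith
  interval_cases k
  · rw [pow_zero, mul_one] at ht
    obtain ⟨v, rfl⟩ : ∃ v, w = v + 2 := ⟨w - 2, by omega⟩
    have h1 : v ≤ x := by omega
    have h2 : v * v ≤ x * x := Nat.mul_le_mul h1 h1
    have h3 : v < 6 := by
      by_contra hcon
      push Not at hcon
      nlinarith
    have h4 : 4 ≤ v := by omega
    have h6 : x < 6 := by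
      by_contra hcon
      push Not at hcon
      nlinarith
    interval_cases v <;> interval_cases x <;> interval_cases d <;> omega
  · rw [pow_one] at ht
    obtain ⟨v, rfl⟩ : ∃ v, w = v + 3 := ⟨w - 3, by omega⟩
    have h1 : v ≤ x := by omega
    have h2 : v * v ≤ x * x := Nat.mul_le_mul h1 h1
    have h3 : v < 4 := by
      by_contra hcon
      push Not at hcon
      nlinarith
    have h4 : 3 ≤ v := by omega
    have h6 : x < 4 := by
      by_contra hcon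
      push Not at hcon
      nlinarith
    interval_cases v <;> interval_cases x <;> interval_cases d <;> omega

end Cfsg.Agent.Omega.EH3.Clif
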