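import Cfsg.Agent.Omega.EH3.Clif.Rep

/-!
# Clifford step of EH3: the homogeneous components of a normal subgroup in `Cfg` (helper291)

`Frame C N c U B e k` : `N` normal in `H`, `c` a homogeneous component of `V|N`, `B` its stabiliser in `X`,
`2^k` the number of components (`k ≤ 1`), `C_c(B) = {0, e}`, `U` a `B`-invariant simple submodule of `c`.
-/

set_option autoImplicit false

namespace Cfsg.Agent.Omega.EH3.Clif

open Module

variable {H V : Type*} [Group H] [AddCommGroup V] [Module (ZMod 2) V]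
  {ρ : H →* (V ≃ₗ[ZMod 2] V)} {b : LinearMap.BilinForm (ZMod 2) V} {q : V → ZMod 2}
  {a : V} {D : Submodule (ZMod 2) V} {X : Subgroup H} {w : ℕ}

/-- the frame -/
structure Frame (_C : Cfg ρ b q a D X w) (N : Subgroup H) (c U : Submodule (S ρ N) V) (B : Subgroup H)
    (e : V) (k : ℕ) : Prop where
  BX : B ≤ X
  memB : ∀ x ∈ X, (x ∈ B ↔ ∀ v ∈ c, ρ x v ∈ c)
  k_le : k ≤ 1
  card_B : Nat.card B = 2 ^ (w - 1 - k)
  card_c : Nat.card c ^ 2 ^ k = 2 ^ (2 * w)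
  simp : IsSimpleModule (S ρ N) U
  Uc : U ≤ c
  Uinv : ∀ x ∈ B, ∀ v ∈ U, ρ x v ∈ U
  eU : e ∈ U
  e0 : e ≠ 0
  efix : ∀ x ∈ B, ρ x e = e
  fix : ∀ v ∈ c, (∀ x ∈ B, ρ x v = v) → v = 0 ∨ v = e
  kill : ∀ r : S ρ N, (∀ u ∈ U, r • u = 0) → ∀ v ∈ c, r • v = 0
  card_U : ∃ m, m ≠ 0 ∧ Nat.card c = Nat.card U ^ m
  ind : ∀ P : V → Prop, P 0 → (∀ u v, P u → P v → P (u + v)) → (∀ x ∈ X, ∀ v ∈ c, P (ρ x v)) → ∀ v, P v
  top : k = 0 → c = ⊤
  dec : k = 1 → ∀ x ∈ X, x ∉ B → ∀ v, ∃ v₁ ∈ c, ∃ v₂ ∈ c, v = v₁ + ρ x v₂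
  dis : k = 1 → ∀ x ∈ X, x ∉ B → ∀ v ∈ c, ρ x v ∈ c → v = 0

theorem sq_X (C : Cfg ρ b q a D X w) (x : X) : x * x = 1 := Subtype.ext (C.X_sq x x.2)

theorem fix_rep (C : Cfg ρ b q a D X w) (v : V) (h : ∀ x : X, rep ρ X x v = v) : v = 0 ∨ v = a :=
  C.fix_X fun x hx => h ⟨x, hx⟩

theorem faith_rep (C : Cfg ρ b q a D X w) (x : X) (h : ∀ v : V, rep ρ X x v = v) : x = 1 := by
  apply Subtype.ext
  apply C.ext
  intro v
  show ρ (x : H) v = ρ 1 v
  rw [C.ρ_one]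
  exact h v

theorem nor_X {N : Subgroup H} (hN : ∀ x ∈ X, ∀ n ∈ N, x * n * x⁻¹ ∈ N) (x : X) :
    Nor (S ρ N) (rep ρ X x) := by
  apply nor_rep x
  · intro n hn
    have := hN _ (X.inv_mem x.2) n hn
    rwa [inv_inv] at this
  · exact hN x x.2

theorem exists_frame (C : Cfg ρ b q a D X w) {N : Subgroup H} (hN : N.Normal) :
    ∃ (c U : Submodule (S ρ N) V) (B : Subgroup H) (e : V) (k : ℕ), Frame C N c U B e k := by
  classical
  have := C.finite_V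
  have := C.finite_H
  have : Nontrivial V := ⟨a, 0, C.a_ne⟩
  have hss : IsSemisimpleModule (S ρ N) V := semisimple_normal C.irr hN
  have hNor : ∀ x : X, Nor (S ρ N) (rep ρ X x) :=
    nor_X fun x _ n hn => hN.conj_mem n hn x
  have hX := sq_X C
  have h2 := C.add_self
  have hfix := fix_rep C
  have hfaith := faith_rep C
  obtain ⟨S₀, hS₀⟩ := IsAtomic.exists_atom (Submodule (S ρ N) V)
  rw [← isSimpleModule_iff_isAtom] at hS₀
  let c : isotypicComponents (S ρ N) V := ⟨isotypicComponent (S ρ N) V S₀, S₀, hS₀, rfl⟩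
  have hSc : S₀ ≤ (c : Submodule (S ρ N) V) := S₀.le_isotypicComponent
  set B₀ : Subgroup X := stab (rep ρ X) hX (c : Submodule (S ρ N) V) with hB₀
  obtain ⟨e, hec, he0, hefix, hcfix⟩ := fixc h2 hX (rep ρ X) hNor C.a_ne hfix c
  have hB₀2 : ∀ x : B₀, x * x = 1 := fun x => Subtype.ext (hX x)
  have hiso := isIsotypic_submodule_iff.1 (IsIsotypic.isotypicComponents c.2)
  obtain ⟨U, hU, hUc, hUinv⟩ := exists_inv_simple h2 (isPGroup_two hB₀2) ((rep ρ X).comp B₀.subtype)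
    (fun x => hNor x) (V₁ := (c : Submodule (S ρ N) V)) (M₀ := S₀) (fun x v hv => x.2 v hv) hS₀ hSc (by
      intro M
      have h1 : IsIsotypicOfType (S ρ N) (c : Submodule (S ρ N) V) S₀ := hiso S₀ hSc
      have := M.2.1
      obtain ⟨φ⟩ := isIsotypicOfType_submodule_iff.1 h1 M.1 M.2.2
      exact ⟨φ.symm⟩)
  have heU : e ∈ U := by
    have : Nontrivial U := IsSimpleModule.nontrivial (S ρ N) U
    obtain ⟨m, hm⟩ := exists_ne (0 : U)
    obtain ⟨v, hv, hv0, hvf⟩ := exists_fix h2 (isPGroup_two hB₀2) ((rep ρ X).comp B₀.subtype)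
      U.toAddSubgroup hUinv ⟨m, m.2, fun h => hm (Subtype.ext h)⟩
    rcases hcfix v (hUc hv) (fun x hx => hvf ⟨x, hx⟩) with h | h
    · exact absurd h hv0
    · rw [← h]; exact hv
  have hcU : (c : Submodule (S ρ N) V) = isotypicComponent (S ρ N) V U := eq_isotypicComponent_of_le c.2 hUc
  have hcard := card_le_two h2 hX (rep ρ X) hNor C.a_ne hfix hfaith c C.five C.card_V (by
    rw [← C.card_X])
  have hcX := card_X h2 hX (rep ρ X) hNor C.a_ne hfix c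
  have hcV := card_V h2 hX (rep ρ X) hNor C.a_ne hfix c
  have hmemB : ∀ x ∈ X, (x ∈ B₀.map X.subtype ↔ ∀ v ∈ (c : Submodule (S ρ N) V), ρ x v ∈ (c : Submodule (S ρ N) V)) := by
    intro x hx
    constructor
    · rintro ⟨y, hy, rfl⟩
      exact hy
    · intro h
      exact ⟨⟨x, hx⟩, h, rfl⟩
  have hcardB : Nat.card (B₀.map X.subtype) = Nat.card B₀ :=
    (Nat.card_congr (B₀.equivMapOfInjective X.subtype X.subtype_injective).toEquiv).symm
  obtain ⟨k, hk1, hk⟩ : ∃ k, k ≤ 1 ∧ Nat.card (isotypicComponents (S ρ N) V) = 2 ^ k := by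
    rcases hcard with h | h
    · exact ⟨0, by norm_num, h⟩
    · exact ⟨1, le_rfl, h⟩
  -- the second component
  have hsec : k = 1 → ∀ (x : X), x ∉ B₀ → ∀ d : isotypicComponents (S ρ N) V, d = c ∨
      d = ⟨cs (rep ρ X x) (hNor x) c, cs_mem _ _ c.2⟩ := by
    rintro rfl x hx d
    have h5 : (⟨cs (rep ρ X x) (hNor x) c, cs_mem _ _ c.2⟩ : isotypicComponents (S ρ N) V) ≠ c := by
      intro h6
      apply hx
      rw [hB₀, mem_stab' hX (rep ρ X) hNor]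
      exact congrArg Subtype.val h6
    obtain ⟨y, -, hy⟩ := (Nat.card_eq_two_iff' c).1 hk
    by_cases hd : d = c
    · exact Or.inl hd
    · right
      rw [hy d hd, hy _ h5]
  refine ⟨c, U, B₀.map X.subtype, e, k, ?_⟩
  have hbx : ∀ x ∈ B₀.map X.subtype, ∃ h : x ∈ X, (⟨x, h⟩ : X) ∈ B₀ := by
    rintro _ ⟨y, hy, rfl⟩
    exact ⟨y.2, hy⟩
  refine
    { BX := ?_
      memB := hmemB
      k_le := hk1
      card_B := ?_
      card_c := ?_
      simp := hU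
      Uc := hUc
      Uinv := ?_
      eU := heU
      e0 := he0
      efix := ?_
      fix := ?_
      kill := ?_
      card_U := ?_
      ind := ?_
      top := ?_
      dec := ?_
      dis := ?_ }
  · rintro _ ⟨y, -, rfl⟩
    exact y.2
  · rw [hcardB]
    have h3 : 2 ^ (w - 1) = 2 ^ k * Nat.card B₀ := by rw [← C.card_X, hcX, hk]
    have h4 : Nat.card B₀ ∣ 2 ^ (w - 1) := ⟨2 ^ k, by rw [h3]; ring⟩
    obtain ⟨j, -, hj⟩ := (Nat.dvd_prime_pow Nat.prime_two).1 h4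
    rw [hj, ← pow_add] at h3
    have h5 : w - 1 = k + j := Nat.pow_right_injective (le_refl 2) h3
    rw [hj]
    congr 1
    omega
  · rw [← hk, ← hcV, C.card_V]
  · intro x hx v hv
    obtain ⟨h, h'⟩ := hbx x hx
    exact hUinv ⟨⟨x, h⟩, h'⟩ v hv
  · intro x hx
    obtain ⟨h, h'⟩ := hbx x hx
    exact hefix ⟨x, h⟩ h'
  · intro v hv hfx
    exact hcfix v hv fun x hx => hfx x ⟨x, hx, rfl⟩
  · intro r hr v hv
    rw [hcU] at hv
    exact kill_comp hr v hv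
  · have hnt : Nontrivial (c : Submodule (S ρ N) V) := ⟨⟨e, hec⟩, 0, fun h => he0 (congrArg Subtype.val h)⟩
    obtain ⟨n, hn, S', hS', hS's, ⟨φ⟩⟩ := (IsIsotypic.isotypicComponents c.2).submodule_linearEquiv_fun
    have h1 : IsIsotypicOfType (S ρ N) (c : Submodule (S ρ N) V) U := hiso U hUc
    obtain ⟨ψ⟩ := isIsotypicOfType_submodule_iff.1 h1 S' hS'
    refine ⟨n, hn.out, ?_⟩
    rw [Nat.card_congr φ.toEquiv, Nat.card_fun, Nat.card_fin, Nat.card_congr ψ.toEquiv]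
  · intro P h0 hadd hx
    exact induct h2 hX (rep ρ X) hNor C.a_ne hfix c P h0 hadd fun x v hv => hx x x.2 v hv
  · rintro rfl
    rw [pow_zero, Nat.card_eq_one_iff_unique] at hk
    obtain ⟨hsub, -⟩ := hk
    have h1 := iSup_top (R := S ρ N) (V := V)
    rw [eq_top_iff, ← h1]
    apply iSup_le
    intro d
    rw [Subsingleton.elim d c]
  · intro hk1 x hx hxB v
    have hxB₀ : (⟨x, hx⟩ : X) ∉ B₀ := fun h => hxB ⟨⟨x, hx⟩, h, rfl⟩
    have h1 : v ∈ (c : Submodule (S ρ N) V) ⊔ cs (rep ρ X ⟨x, hx⟩) (hNor ⟨x, hx⟩) c := by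
      have h3 : (⨆ d : isotypicComponents (S ρ N) V, (d : Submodule (S ρ N) V)) ≤
          (c : Submodule (S ρ N) V) ⊔ cs (rep ρ X ⟨x, hx⟩) (hNor ⟨x, hx⟩) c := by
        apply iSup_le
        intro d
        rcases hsec hk1 ⟨x, hx⟩ hxB₀ d with h | h
        · rw [h]; exact le_sup_left
        · rw [h]; exact le_sup_right
      apply h3
      rw [iSup_top]
      exact Submodule.mem_top
    obtain ⟨v₁, hv₁, v₂, hv₂, rfl⟩ := Submodule.mem_sup.1 h1
    refine ⟨v₁, hv₁, _, hv₂, ?_⟩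
    have h4 : rep ρ X ⟨x, hx⟩ ((rep ρ X ⟨x, hx⟩).symm v₂) = v₂ := AddEquiv.apply_symm_apply _ _
    congr 1
    exact h4.symm
  · intro hk1 x hx hxB v hv hv'
    have hxB₀ : (⟨x, hx⟩ : X) ∉ B₀ := fun h => hxB ⟨⟨x, hx⟩, h, rfl⟩
    have h5 : (⟨cs (rep ρ X ⟨x, hx⟩) (hNor ⟨x, hx⟩) c, cs_mem _ _ c.2⟩ : isotypicComponents (S ρ N) V) ≠ c := by
      intro h6
      apply hxB₀
      rw [hB₀, mem_stab' hX (rep ρ X) hNor]
      exact congrArg Subtype.val h6
    have h6 := (indep (R := S ρ N) (V := V)).pairwiseDisjoint h5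
    have h7 : rep ρ X ⟨x, hx⟩ v = 0 :=
      (Submodule.disjoint_def.1 h6) _ ((apply_mem_cs (hg := hNor ⟨x, hx⟩)).2 hv) hv'
    have h8 : ρ x v = 0 := h7
    exact C.ρ_inj x (h8.trans (map_zero _).symm)

end Cfsg.Agent.Omega.EH3.Clif
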