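import Cfsg.Agent.Omega.EH3.ToSys
import Mathlib.GroupTheory.Transfer

/-!
# Clifford step of EH3, piece (G) (helper947 for helper291)

`gamma_false` : in the configuration `Cfg` let `V = V₁ ⊕ V₂`, `A'` of index two in `X`, `V₁` invariant under `A'`,
mapped to `V₂` by `X - A'`; `N₁`, `N₂` commuting subgroups interchanged by `X - A'`, `N₁` perfect, `≠ 1`, of even
order, normalised by `A'`, invariant on `V₁` and trivial on `V₂`.  This is impossible.
-/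

set_option autoImplicit false

namespace Cfsg.Agent.Omega.EH3.Clif

open Subgroup

variable {H V : Type*} [Group H] [AddCommGroup V] [Module (ZMod 2) V]
  {ρ : H →* (V ≃ₗ[ZMod 2] V)} {b : LinearMap.BilinForm (ZMod 2) V} {q : V → ZMod 2}
  {a : V} {D : Submodule (ZMod 2) V} {X : Subgroup H} {w : ℕ}

/-- the situation of `gamma_false` with an element `α ∈ X - A'` -/
structure Gam (ρ : H →* (V ≃ₗ[ZMod 2] V)) (X : Subgroup H) (V₁ V₂ : Submodule (ZMod 2) V) (A' N₁ : Subgroup H)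
    (α : H) : Prop where
  compl : IsCompl V₁ V₂
  A_le : ∀ x ∈ A', x ∈ X
  α_mem : α ∈ X
  cases : ∀ x ∈ X, x * α ∈ A' ∨ x ∈ A'
  A_V : ∀ x ∈ A', ∀ v ∈ V₁, ρ x v ∈ V₁
  sw : ∀ v ∈ V₁, ρ α v ∈ V₂
  comm : ∀ n ∈ N₁, ∀ m ∈ N₁, n * (α * m * α⁻¹) = (α * m * α⁻¹) * n
  A_N : ∀ x ∈ A', ∀ n ∈ N₁, x * n * x⁻¹ ∈ N₁
  N_V : ∀ n ∈ N₁, ∀ v ∈ V₁, ρ n v ∈ V₁
  triv : ∀ n ∈ N₁, ∀ v ∈ V₂, ρ n v = v
  perf : ⁅N₁, N₁⁆ = N₁
  ne : N₁ ≠ ⊥
  even : Even (Nat.card N₁)

namespace Gam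

variable {V₁ V₂ : Submodule (ZMod 2) V} {A' N₁ : Subgroup H} {α : H}

theorem dec (S : Gam ρ X V₁ V₂ A' N₁ α) (v : V) : ∃ x ∈ V₁, ∃ y ∈ V₂, x + y = v :=
  Submodule.mem_sup.1 (by rw [S.compl.sup_eq_top]; trivial)

theorem inter (S : Gam ρ X V₁ V₂ A' N₁ α) {v : V} (h1 : v ∈ V₁) (h2 : v ∈ V₂) : v = 0 := by
  have : v ∈ V₁ ⊓ V₂ := ⟨h1, h2⟩
  rwa [S.compl.inf_eq_bot, Submodule.mem_bot] at this

/-- components are unique -/
theorem comp (C : Cfg ρ b q a D X w) (S : Gam ρ X V₁ V₂ A' N₁ α) {x x' y y' : V} (hx : x ∈ V₁) (hx' : x' ∈ V₁)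
    (hy : y ∈ V₂) (hy' : y' ∈ V₂) (h : x + y = x' + y') : x = x' ∧ y = y' := by
  have h1 : x + x' = y + y' := by
    have h2 : (x + y) + (x' + y) = (x' + y') + (x' + y) := by rw [h]
    calc x + x' = (x + x') + (y + y) := by rw [C.add_self, add_zero]
      _ = (x + y) + (x' + y) := by abel
      _ = (x' + y') + (x' + y) := h2
      _ = (x' + x') + (y + y') := by abel
      _ = y + y' := by rw [C.add_self, zero_add]
  have h2 : x + x' = 0 := S.inter (V₁.add_mem hx hx') (h1 ▸ V₂.add_mem hy hy')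
  exact ⟨C.add_eq_zero.1 h2, C.add_eq_zero.1 (h1 ▸ h2)⟩

theorem fix_pair (C : Cfg ρ b q a D X w) (S : Gam ρ X V₁ V₂ A' N₁ α) {v : V} (hv : v ∈ V₁)
    (hA : ∀ x ∈ A', ρ x v = v) : v = 0 ∨ v + ρ α v = a := by
  have h1 : ∀ x ∈ A', ρ x (v + ρ α v) = v + ρ α v := by
    intro x hx
    rw [map_add, hA x hx, ← C.ρ_mul, C.X_comm (S.A_le x hx) S.α_mem, C.ρ_mul, hA x hx]
  have h2 : ρ α (v + ρ α v) = v + ρ α v := by
    rw [map_add, ← C.ρ_mul, C.X_sq α S.α_mem, C.ρ_one, add_comm]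
  rcases C.fix_X (v := v + ρ α v) (fun x hx => by
    rcases S.cases x hx with h | h
    · have e : x = x * α * α := by rw [mul_assoc, C.X_sq α S.α_mem, mul_one]
      rw [e, C.ρ_mul, h2, h1 _ h]
    · exact h1 x h) with h | h
  · left
    rw [C.add_eq_zero] at h
    exact S.inter hv (h ▸ S.sw v hv)
  · right; exact h

theorem exists_a (C : Cfg ρ b q a D X w) (S : Gam ρ X V₁ V₂ A' N₁ α) :
    ∃ a₁ ∈ V₁, a₁ ≠ 0 ∧ a₁ + ρ α a₁ = a ∧ (∀ x ∈ A', ρ x a₁ = a₁) ∧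
      ∀ v ∈ V₁, (∀ x ∈ A', ρ x v = v) → v = 0 ∨ v = a₁ := by
  have := C.finite_V
  have hA : IsPGroup 2 A' := C.isPGroup_X.to_le fun x hx => S.A_le x hx
  have h0 : V₁ ≠ ⊥ := by
    intro h
    apply S.ne
    rw [eq_bot_iff]
    intro n hn
    rw [mem_bot]
    apply C.ext
    intro v
    obtain ⟨x, hx, y, hy, rfl⟩ := S.dec v
    rw [h, Submodule.mem_bot] at hx
    rw [hx, zero_add, S.triv n hn y hy, C.ρ_one]
  obtain ⟨u, hu, hu0, hf⟩ := exists_fix ρ hA S.A_V h0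
  have h1 := (S.fix_pair C hu hf).resolve_left hu0
  refine ⟨u, hu, hu0, h1, hf, fun v hv hvf => ?_⟩
  rcases S.fix_pair C hv hvf with h | h
  · exact Or.inl h
  · exact Or.inr (S.comp C hv hu (S.sw v hv) (S.sw u hu) (h.trans h1.symm)).1

theorem α_inv (C : Cfg ρ b q a D X w) (S : Gam ρ X V₁ V₂ A' N₁ α) : α⁻¹ = α := C.X_inv S.α_mem

/-- `N₂ = N₁^α` is trivial on `V₁` -/
theorem triv₂ (C : Cfg ρ b q a D X w) (S : Gam ρ X V₁ V₂ A' N₁ α) {n : H} (hn : n ∈ N₁) {v : V} (hv : v ∈ V₁) :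
    ρ (α * n * α⁻¹) v = v := by
  rw [S.α_inv C, C.ρ_mul, C.ρ_mul, S.triv n hn _ (S.sw v hv), ← C.ρ_mul, C.X_sq α S.α_mem, C.ρ_one]

/-- (1) `C_{V₁}(N₁) = 0` -/
theorem cent_zero (C : Cfg ρ b q a D X w) (S : Gam ρ X V₁ V₂ A' N₁ α) {v : V} (hv : v ∈ V₁)
    (hf : ∀ n ∈ N₁, ρ n v = v) : v = 0 := by
  by_contra hv0
  have := C.finite_V
  have hA : IsPGroup 2 A' := C.isPGroup_X.to_le fun x hx => S.A_le x hx
  let K : Submodule (ZMod 2) V := V₁ ⊓ C.fixV N₁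
  have hK : ∀ x ∈ A', ∀ u ∈ K, ρ x u ∈ K := by
    rintro x hx u ⟨hu, hu'⟩
    refine ⟨S.A_V x hx u hu, fun n hn => ?_⟩
    have h1 := hu' _ (S.A_N x⁻¹ (A'.inv_mem hx) n hn)
    have e : n * x = x * (x⁻¹ * n * x⁻¹⁻¹) := by group
    rw [← C.ρ_mul, e, C.ρ_mul, h1]
  have hK0 : K ≠ ⊥ := by
    intro h
    apply hv0
    have : v ∈ K := ⟨hv, hf⟩
    rwa [h, Submodule.mem_bot] at this
  obtain ⟨u, ⟨hu, huN⟩, hu0, huf⟩ := exists_fix ρ hA hK hK0
  have h1 := (S.fix_pair C hu huf).resolve_left hu0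
  have hstab : ∀ n ∈ N₁, ρ n a = a := by
    intro n hn
    rw [← h1, map_add, huN n hn, S.triv n hn _ (S.sw u hu)]
  -- `φ n = n⁻¹ n^α ∈ X`
  have hφ : ∀ n ∈ N₁, n⁻¹ * (α * n * α⁻¹) ∈ X := by
    intro n hn
    have h2 := C.X_norm n⁻¹ (C.fix_inv (hstab n hn)) α S.α_mem
    have e : n⁻¹ * (α * n * α⁻¹) = (n⁻¹ * α * n⁻¹⁻¹) * α⁻¹ := by group
    rw [e]
    exact X.mul_mem h2 (X.inv_mem S.α_mem)
  -- commutators of `N₁` commute with `N₁`
  have hcomm : ∀ n ∈ N₁, ∀ m ∈ N₁, ∀ k ∈ N₁, (n * m * n⁻¹ * m⁻¹) * k = k * (n * m * n⁻¹ * m⁻¹) := by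
    intro n hn m hm k hk
    have h2 := C.X_comm (hφ n hn) (hφ m hm)
    set n' := α * n * α⁻¹ with hn'
    set m' := α * m * α⁻¹ with hm'
    have c1 : n' * m⁻¹ = m⁻¹ * n' := (S.comm m⁻¹ (N₁.inv_mem hm) n hn).symm
    have c2 : m' * n⁻¹ = n⁻¹ * m' := (S.comm n⁻¹ (N₁.inv_mem hn) m hm).symm
    -- n⁻¹ n' m⁻¹ m' = m⁻¹ m' n⁻¹ n'
    have h3 : n⁻¹ * m⁻¹ * (n' * m') = m⁻¹ * n⁻¹ * (m' * n') := by
      calc n⁻¹ * m⁻¹ * (n' * m') = n⁻¹ * (m⁻¹ * n') * m' := by group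
        _ = n⁻¹ * (n' * m⁻¹) * m' := by rw [c1]
        _ = (n⁻¹ * n') * (m⁻¹ * m') := by group
        _ = (m⁻¹ * m') * (n⁻¹ * n') := h2
        _ = m⁻¹ * (m' * n⁻¹) * n' := by group
        _ = m⁻¹ * (n⁻¹ * m') * n' := by rw [c2]
        _ = m⁻¹ * n⁻¹ * (m' * n') := by group
    have h4 : n * m * n⁻¹ * m⁻¹ = (m' * n') * (n' * m')⁻¹ := by
      calc n * m * n⁻¹ * m⁻¹ = n * m * (n⁻¹ * m⁻¹ * (n' * m')) * (n' * m')⁻¹ := by group
        _ = n * m * (m⁻¹ * n⁻¹ * (m' * n')) * (n' * m')⁻¹ := by rw [h3]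
        _ = (m' * n') * (n' * m')⁻¹ := by group
    have h5 : (m' * n') * (n' * m')⁻¹ = α * (m * n * (n * m)⁻¹) * α⁻¹ := by
      rw [hn', hm']; group
    rw [h4, h5]
    exact (S.comm k hk _ (N₁.mul_mem (N₁.mul_mem hm hn) (N₁.inv_mem (N₁.mul_mem hn hm)))).symm
  -- `N₁ ≤ Z(N₁)`
  have hab : ∀ n ∈ N₁, ∀ k ∈ N₁, n * k = k * n := by
    have h2 : N₁ ≤ centralizer (N₁ : Set H) := by
      conv_lhs => rw [← S.perf]
      rw [commutator_le]
      intro n hn m hm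
      rw [mem_centralizer_iff]
      intro k hk
      exact (hcomm n hn m hm k hk).symm
    intro n hn k hk
    exact (mem_centralizer_iff.1 (h2 hn) k hk).symm
  apply S.ne
  rw [← S.perf, eq_bot_iff, commutator_le]
  intro n hn m hm
  rw [mem_bot, commutatorElement_eq_one_iff_mul_comm]
  exact hab n hn m hm

/-- (2) `V₁ ⊥ V₂` -/
theorem perp (C : Cfg ρ b q a D X w) (S : Gam ρ X V₁ V₂ A' N₁ α) {x y : V} (hx : x ∈ V₁) (hy : y ∈ V₂) :
    b x y = 0 := by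
  have := C.finite_V
  let W : Submodule (ZMod 2) V := Submodule.span (ZMod 2) {u | ∃ n ∈ N₁, ∃ v, ρ n v + v = u}
  have hWV : W ≤ V₁ := by
    apply Submodule.span_le.2
    rintro _ ⟨n, hn, v, rfl⟩
    obtain ⟨x, hx, y, hy, rfl⟩ := S.dec v
    have e : ρ n (x + y) + (x + y) = ρ n x + x := by
      rw [map_add, S.triv n hn y hy]
      calc ρ n x + y + (x + y) = ρ n x + x + (y + y) := by abel
        _ = ρ n x + x := by rw [C.add_self, add_zero]
    rw [e]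
    exact V₁.add_mem (S.N_V n hn x hx) hx
  have h1 : b.orthogonal W = V₂ := by
    ext u
    rw [C.mem_perp]
    constructor
    · intro hu
      have h2 : ∀ n ∈ N₁, ρ n u = u := by
        intro n hn
        rw [← C.add_eq_zero]
        apply C.nondeg
        intro v
        have h3 := hu _ (Submodule.subset_span ⟨n⁻¹, N₁.inv_mem hn, v, rfl⟩)
        rw [map_add, LinearMap.add_apply] at h3 ⊢
        have e1 : b (ρ n u) v = b u (ρ n⁻¹ v) := by
          rw [← C.b_inv n u (ρ n⁻¹ v), C.ρ_apply_inv]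
        rw [e1, C.b_comm u, C.b_comm u v]
        exact h3
      obtain ⟨x, hx, y, hy, rfl⟩ := S.dec u
      have h4 : x = 0 := by
        apply S.cent_zero C hx
        intro n hn
        have h5 := h2 n hn
        rw [map_add, S.triv n hn y hy] at h5
        exact add_right_cancel h5
      rw [h4, zero_add]
      exact hy
    · intro hu v hv
      induction hv using Submodule.span_induction with
      | mem z hz =>
        obtain ⟨n, hn, v, rfl⟩ := hz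
        rw [map_add, LinearMap.add_apply]
        have e1 : b (ρ n v) u = b v u := by
          nth_rewrite 1 [← S.triv n hn u hu]
          exact C.b_inv n v u
        rw [e1, CharTwo.add_self_eq_zero]
      | zero => rw [map_zero, LinearMap.zero_apply]
      | add z z' _ _ h h' => rw [map_add, LinearMap.add_apply, h, h', add_zero]
      | smul k z _ h => rw [map_smul, LinearMap.smul_apply, h, smul_zero]
  have h2 : W = V₁ := by
    have h3 := C.card_perp W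
    rw [h1] at h3
    have h4 : Nat.card V₁ * Nat.card V₂ = Nat.card V := by
      rw [← Nat.card_prod]
      exact Nat.card_congr (Submodule.prodEquivOfIsCompl V₁ V₂ S.compl).toEquiv
    have h5 : Nat.card W = Nat.card V₁ :=
      Nat.eq_of_mul_eq_mul_right (Nat.card_pos) (h3.trans h4.symm)
    apply SetLike.coe_injective
    exact Set.eq_of_subset_of_ncard_le hWV (by
      rw [← Nat.card_coe_set_eq, ← Nat.card_coe_set_eq]
      exact h5.ge) (Set.toFinite _)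
  have h3 : y ∈ b.orthogonal W := by rw [h1]; exact hy
  rw [C.mem_perp] at h3
  exact h3 x (by rw [h2]; exact hx)

/-- `x_t = t⁻¹ t^α` -/
def xt (α t : H) : H := t⁻¹ * (α * t * α⁻¹)

theorem xt_mem (C : Cfg ρ b q a D X w) (S : Gam ρ X V₁ V₂ A' N₁ α) {t : H} (ht : ρ t a = a) : xt α t ∈ X := by
  have h2 := C.X_norm t⁻¹ (C.fix_inv ht) α S.α_mem
  have e : xt α t = (t⁻¹ * α * t⁻¹⁻¹) * α⁻¹ := by unfold xt; group
  rw [e]
  exact X.mul_mem h2 (X.inv_mem S.α_mem)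

theorem xt_V₁ (C : Cfg ρ b q a D X w) (S : Gam ρ X V₁ V₂ A' N₁ α) {t : H} (hn : t ∈ N₁) {v : V} (hv : v ∈ V₁) :
    ρ (xt α t) v = ρ t⁻¹ v := by
  unfold xt
  rw [C.ρ_mul, S.triv₂ C hn hv]

/-- (3) `t ^ 2 = 1` for `t ∈ C_{N₁}(a)` -/
theorem sq (C : Cfg ρ b q a D X w) (S : Gam ρ X V₁ V₂ A' N₁ α) {t : H} (hn : t ∈ N₁) (ht : ρ t a = a) :
    t * t = 1 := by
  apply C.ext
  intro v
  obtain ⟨x, hx, y, hy, rfl⟩ := S.dec v
  have h1 : ρ t⁻¹ (ρ t⁻¹ x) = x := by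
    have h2 := C.X_sq _ (S.xt_mem C ht)
    have h3 : ρ (xt α t * xt α t) x = x := by rw [h2, C.ρ_one]
    rw [C.ρ_mul, S.xt_V₁ C hn hx, S.xt_V₁ C hn (S.N_V _ (N₁.inv_mem hn) x hx)] at h3
    exact h3
  have h2 : ρ t (ρ t x) = x := by
    nth_rewrite 1 [← h1]
    rw [C.ρ_apply_inv, C.ρ_apply_inv]
  rw [C.ρ_mul, map_add, map_add, h2, S.triv t hn y hy, S.triv t hn y hy, C.ρ_one]

theorem xt_V₁' (C : Cfg ρ b q a D X w) (S : Gam ρ X V₁ V₂ A' N₁ α) {t : H} (hn : t ∈ N₁) (ht : ρ t a = a)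
    {v : V} (hv : v ∈ V₁) : ρ (xt α t) v = ρ t v := by
  rw [S.xt_V₁ C hn hv, inv_eq_of_mul_eq_one_left (S.sq C hn ht)]

theorem eq_one_of_V₁ (C : Cfg ρ b q a D X w) (S : Gam ρ X V₁ V₂ A' N₁ α) {t : H} (hn : t ∈ N₁)
    (h : ∀ v ∈ V₁, ρ t v = v) : t = 1 := by
  apply C.ext
  intro v
  obtain ⟨x, hx, y, hy, rfl⟩ := S.dec v
  rw [map_add, h x hx, S.triv t hn y hy, C.ρ_one]

theorem xt_ne (C : Cfg ρ b q a D X w) (S : Gam ρ X V₁ V₂ A' N₁ α) {t : H} (hn : t ∈ N₁) (ht : ρ t a = a)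
    (h1 : t ≠ 1) : xt α t ≠ 1 := by
  intro h
  apply h1
  apply S.eq_one_of_V₁ C hn
  intro v hv
  rw [← S.xt_V₁' C hn ht hv, h, C.ρ_one]

/-- a prime-to-2 index: `C_{N₁}(a)` contains a Sylow `2`-subgroup of `N₁` -/
theorem odd_index (C : Cfg ρ b q a D X w) (S : Gam ρ X V₁ V₂ A' N₁ α) {a₁ : V} (ha : a₁ ∈ V₁) (ha0 : a₁ ≠ 0)
    (haa : a₁ + ρ α a₁ = a) (haA : ∀ x ∈ A', ρ x a₁ = a₁)
    (hu : ∀ v ∈ V₁, (∀ x ∈ A', ρ x v = v) → v = 0 ∨ v = a₁) : Odd ((stab ρ a).relIndex N₁) := by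
  classical
  have := C.finite_V
  have := C.finite_H
  have hp : Fact (Nat.Prime 2) := ⟨Nat.prime_two⟩
  have hA : IsPGroup 2 A' := C.isPGroup_X.to_le fun x hx => S.A_le x hx
  let act : MulAction N₁ V :=
    { smul := fun n v => ρ n v
      one_smul := fun v => C.ρ_one v
      mul_smul := fun g h v => C.ρ_mul _ _ v }
  have hsm : ∀ (n : N₁) (v : V), n • v = ρ n v := fun _ _ => rfl
  have h1 : (stab ρ a).relIndex N₁ = Nat.card (MulAction.orbit N₁ a₁) := by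
    rw [Nat.card_coe_set_eq, ← MulAction.index_stabilizer]
    unfold Subgroup.relIndex
    congr 1
    ext n
    rw [mem_subgroupOf, mem_stab, MulAction.mem_stabilizer_iff, hsm, ← haa, map_add,
      S.triv n n.2 _ (S.sw a₁ ha)]
    constructor
    · intro h; exact add_right_cancel h
    · intro h; rw [h]
  let O := MulAction.orbit N₁ a₁
  have hO : ∀ x ∈ A', ∀ v ∈ O, ρ x v ∈ O := by
    rintro x hx _ ⟨n, rfl⟩
    refine ⟨⟨x * n * x⁻¹, S.A_N x hx n n.2⟩, ?_⟩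
    show ρ (x * n * x⁻¹) a₁ = ρ x (ρ n a₁)
    rw [C.ρ_mul, C.ρ_mul, haA _ (A'.inv_mem hx)]
  let act' : MulAction A' O :=
    { smul := fun x v => ⟨ρ (x : H) v, hO x x.2 v v.2⟩
      one_smul := fun v => Subtype.ext (C.ρ_one _)
      mul_smul := fun g h v => Subtype.ext (C.ρ_mul _ _ _) }
  have h2 := hA.card_modEq_card_fixedPoints O
  have h3 : Nat.card (MulAction.fixedPoints A' O) = 1 := by
    rw [Nat.card_eq_one_iff_unique]
    constructor
    · constructor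
      have key : ∀ v : MulAction.fixedPoints A' O, ((v : O) : V) = a₁ := by
        intro v
        have hvV : ((v : O) : V) ∈ V₁ := by
          obtain ⟨n, hn⟩ := v.1.2
          rw [← hn]
          exact S.N_V n n.2 _ ha
        rcases hu _ hvV (fun x hx => congrArg Subtype.val (v.2 ⟨x, hx⟩)) with h | h
        · exfalso
          obtain ⟨n, hn⟩ := v.1.2
          apply ha0
          apply C.ρ_inj (n : H)
          rw [map_zero, ← h]
          exact hn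
        · exact h
      intro v v'
      apply Subtype.ext
      apply Subtype.ext
      rw [key, key]
    · refine ⟨⟨⟨a₁, MulAction.mem_orbit_self a₁⟩, ?_⟩⟩
      intro x
      apply Subtype.ext
      exact haA x x.2
  rw [h3] at h2
  rw [h1, Nat.odd_iff]
  exact h2

end Gam

/-- Burnside: in a perfect group of even order an abelian Sylow 2-subgroup is not central in its normaliser -/
theorem Gam.exists_burnside {N : Type*} [Group N] [Finite N] (hp : commutator N = ⊤) (h2 : Even (Nat.card N))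
    (P : Sylow 2 N) : ∃ n ∈ normalizer (P : Set N), ∃ t ∈ P, n * t * n⁻¹ ≠ t := by
  have : Fact (Nat.Prime 2) := ⟨Nat.prime_two⟩
  by_contra hcon
  push Not at hcon
  have hP : normalizer (P : Set N) ≤ centralizer (P : Set N) := by
    intro n hn
    rw [mem_centralizer_iff]
    intro t ht
    have h1 := hcon n hn t ht
    rw [mul_inv_eq_iff_eq_mul] at h1
    exact h1.symm
  have hab : ∀ x ∈ P, ∀ y ∈ P, x * y = y * x := by
    intro x hx y hy
    exact (mem_centralizer_iff.1 (hP (le_normalizer hx)) y hy).symm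
  have h3 := MonoidHom.not_dvd_card_ker_transferSylow P hP
  apply h3
  have h4 : (MonoidHom.transferSylow P hP).ker = ⊤ := by
    rw [eq_top_iff, ← hp, commutator_def, commutator_le]
    intro x _ y _
    rw [MonoidHom.mem_ker, map_commutatorElement, commutatorElement_eq_one_iff_mul_comm]
    apply Subtype.ext
    exact hab _ (Subtype.prop _) _ (Subtype.prop _)
  rw [h4, card_top]
  exact h2.two_dvd

namespace Gam

variable {V₁ V₂ : Submodule (ZMod 2) V} {A' N₁ : Subgroup H} {α : H}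

theorem add_mem_V₁ (C : Cfg ρ b q a D X w) (S : Gam ρ X V₁ V₂ A' N₁ α) {t : H} (hn : t ∈ N₁) (u : V) :
    ρ t u + u ∈ V₁ := by
  obtain ⟨x, hx, y, hy, rfl⟩ := S.dec u
  have e : ρ t (x + y) + (x + y) = ρ t x + x := by
    rw [map_add, S.triv t hn y hy]
    calc ρ t x + y + (x + y) = ρ t x + x + (y + y) := by abel
      _ = ρ t x + x := by rw [C.add_self, add_zero]
  rw [e]
  exact V₁.add_mem (S.N_V t hn x hx) hx

/-- (4): `a₁ ∈ [V₁, t]` -/
theorem exists_add (C : Cfg ρ b q a D X w) (S : Gam ρ X V₁ V₂ A' N₁ α) {a₁ : V} (ha : a₁ ∈ V₁)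
    (haa : a₁ + ρ α a₁ = a) {t : H} (hn : t ∈ N₁) (ht : ρ t a = a) (h1 : t ≠ 1) :
    ∃ u ∈ V₁, ρ t u + u = a₁ := by
  have := C.finite_V
  have hx1 : ρ (xt α t) ≠ 1 := fun h => S.xt_ne C hn ht h1 (C.inj (by rw [h, map_one]))
  obtain ⟨v, hv⟩ := C.sys.exists_add_eq ⟨xt α t, S.xt_mem C ht, rfl⟩ hx1
  obtain ⟨x, hx, y, hy, rfl⟩ := S.dec v
  have h2 : ρ (α * t * α⁻¹) y ∈ V₂ := by
    have h3 : ρ (α * t * α⁻¹) y + y = ρ α (ρ t (ρ α⁻¹ y) + ρ α⁻¹ y) := by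
      rw [map_add, C.ρ_apply_inv, C.ρ_mul, C.ρ_mul]
    have h4 : ρ (α * t * α⁻¹) y + y ∈ V₂ := by
      rw [h3]; exact S.sw _ (S.add_mem_V₁ C hn _)
    have h5 := V₂.add_mem h4 hy
    rwa [C.add_add_self] at h5
  have h3 : ρ (xt α t) y = ρ (α * t * α⁻¹) y := by
    unfold xt
    rw [C.ρ_mul, S.triv _ (N₁.inv_mem hn) _ h2]
  refine ⟨x, hx, ?_⟩
  have h4 : (ρ t x + x) + (ρ (α * t * α⁻¹) y + y) = a₁ + ρ α a₁ := by
    rw [haa, ← hv, map_add, S.xt_V₁' C hn ht hx, h3]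
    abel
  exact (S.comp C (V₁.add_mem (S.N_V t hn x hx) hx) ha (V₂.add_mem h2 hy) (S.sw a₁ ha) h4).1

theorem false (C : Cfg ρ b q a D X w) (S : Gam ρ X V₁ V₂ A' N₁ α) : False := by
  classical
  have := C.finite_V
  have := C.finite_H
  have hp2 : Fact (Nat.Prime 2) := ⟨Nat.prime_two⟩
  obtain ⟨a₁, ha, ha0, haa, haA, hu⟩ := S.exists_a C
  have hodd := S.odd_index C ha ha0 haa haA hu
  -- the Sylow subgroup `T = C_{N₁}(a)`
  have hT2 : IsPGroup 2 ((stab ρ a).subgroupOf N₁) := by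
    intro t
    refine ⟨1, ?_⟩
    apply Subtype.ext
    apply Subtype.ext
    show ((t : N₁) : H) ^ (2 ^ 1) = 1
    rw [pow_one, pow_two]
    exact S.sq C t.1.2 (mem_subgroupOf.1 t.2)
  have hnd : ¬ 2 ∣ ((stab ρ a).subgroupOf N₁).index := by
    have h1 : Odd ((stab ρ a).subgroupOf N₁).index := hodd
    rwa [← Nat.not_even_iff_odd, even_iff_two_dvd] at h1
  let P : Sylow 2 N₁ := hT2.toSylow hnd
  have hPm : ∀ t : N₁, t ∈ P ↔ ρ (t : H) a = a := fun t => mem_subgroupOf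
  have hperf : commutator N₁ = ⊤ := by
    have h1 : (commutator N₁).map N₁.subtype = N₁ := by
      rw [commutator_def, map_commutator, ← MonoidHom.range_eq_map, range_subtype, S.perf]
    rw [eq_top_iff]
    intro x _
    have h2 : (x : H) ∈ (commutator N₁).map N₁.subtype := by rw [h1]; exact x.2
    obtain ⟨y, hy, hyx⟩ := h2
    rwa [← Subtype.ext hyx]
  obtain ⟨n, hn, t₀, ht₀, hne⟩ := Gam.exists_burnside hperf S.even P
  have hnP : ∀ t : N₁, t ∈ P → n * t * n⁻¹ ∈ P := fun t ht => (mem_normalizer_iff.1 hn t).1 ht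
  have hnP' : ∀ t : N₁, t ∈ P → n⁻¹ * t * n ∈ P := fun t ht => (mem_normalizer_iff''.1 hn t).1 ht
  -- `n` moves `a₁`
  have hc : ρ (n : H) a₁ ≠ a₁ := by
    intro h
    have h1 : ρ (n : H) a = a := by
      rw [← haa, map_add, h, S.triv n n.2 _ (S.sw a₁ ha)]
    have h2 := S.sq C n.2 h1
    have h3 := S.sq C t₀.2 ((hPm t₀).1 ht₀)
    have h4 := S.sq C (N₁.mul_mem n.2 t₀.2) (by rw [C.ρ_mul, (hPm t₀).1 ht₀, h1])
    apply hne
    apply Subtype.ext
    show (n : H) * t₀ * (n : H)⁻¹ = t₀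
    rw [inv_eq_of_mul_eq_one_left h2]
    calc (n : H) * t₀ * n = (n * t₀ * (n * t₀)) * (t₀ : H)⁻¹ := by group
      _ = (t₀ : H)⁻¹ := by rw [h4, one_mul]
      _ = t₀ := inv_eq_of_mul_eq_one_left h3
  have hc0 : ρ (n : H) a₁ ≠ 0 := by
    intro h
    apply ha0
    apply C.ρ_inj (n : H)
    rw [h, map_zero]
  have key2 : ∀ t : H, t ∈ N₁ → ρ t a = a → t ≠ 1 → ∃ u ∈ V₁, ρ t u + u = ρ (n : H) a₁ := by
    intro t htN hta ht1
    have h1 : n⁻¹ * ⟨t, htN⟩ * n ∈ P := hnP' ⟨t, htN⟩ ((hPm _).2 hta)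
    have h2 : (n : H)⁻¹ * t * n ≠ 1 := by
      intro h
      apply ht1
      calc t = n * ((n : H)⁻¹ * t * n) * (n : H)⁻¹ := by group
        _ = 1 := by rw [h]; group
    obtain ⟨u, hu1, hu2⟩ := S.exists_add C ha haa (N₁.mul_mem (N₁.mul_mem (N₁.inv_mem n.2) htN) n.2)
      ((hPm _).1 h1) h2
    refine ⟨ρ (n : H) u, S.N_V n n.2 u hu1, ?_⟩
    rw [← hu2, map_add, ← C.ρ_mul, ← C.ρ_mul]
    congr 3
    group
  -- a vector of `V₁` off `a^⊥`
  obtain ⟨v, hvV, hv⟩ : ∃ v ∈ V₁, b a v = 1 := by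
    have h1 : ∃ u, b a₁ u = 1 := by
      by_contra hcon
      push Not at hcon
      apply ha0
      apply C.nondeg
      intro u
      rcases zmod_two (b a₁ u) with h | h
      · exact h
      · exact absurd h (hcon u)
    obtain ⟨u, hu1⟩ := h1
    obtain ⟨x, hx, y, hy, rfl⟩ := S.dec u
    refine ⟨x, hx, ?_⟩
    rw [map_add, S.perp C ha hy, add_zero] at hu1
    rw [← haa, map_add, LinearMap.add_apply, hu1, C.b_comm (ρ α a₁), S.perp C hx (S.sw a₁ ha), add_zero]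
  have hDV : ∀ d ∈ D, d ∈ V₁ → d = 0 ∨ d = a₁ := by
    intro d hd hdV
    apply hu d hdV
    intro x hx
    rcases C.X_D x (S.A_le x hx) d hd with h | h
    · exact h
    · exfalso
      have h1 := S.A_V x hx d hdV
      rw [h] at h1
      have h2 : a ∈ V₁ := by
        have h3 := V₁.add_mem hdV h1
        rwa [← add_assoc, C.add_self, zero_add] at h3
      have h3 : ρ α a₁ ∈ V₁ := by
        have h4 := V₁.add_mem ha h2
        rwa [← haa, ← add_assoc, C.add_self, zero_add] at h4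
      have h4 := S.inter h3 (S.sw a₁ ha)
      apply ha0
      apply C.ρ_inj α
      rw [h4, map_zero]
  have hperp : ∀ t : H, t ∈ N₁ → ρ t a = a → ∀ m ∈ V₁, b a m = 0 → ρ t m + m ∈ D ∧ ρ t m + m ∈ V₁ := by
    intro t htN hta m hm hbm
    have h1 := C.X_perp _ (S.xt_mem C hta) m hbm
    rw [S.xt_V₁' C htN hta hm] at h1
    exact ⟨h1, V₁.add_mem (S.N_V t htN m hm) hm⟩
  have hone : ∀ t : H, t ∈ N₁ → ρ t a = a → ∀ u ∈ V₁, b a u = 1 →
      ∃ m ∈ V₁, b a m = 0 ∧ ρ t u + u = (ρ t m + m) + (ρ t v + v) := by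
    intro t _ _ u huV hbu
    refine ⟨u + v, V₁.add_mem huV hvV, by rw [map_add, hbu, hv]; exact CharTwo.add_self_eq_zero 1, ?_⟩
    rw [map_add]
    calc ρ t u + u = ρ t u + u + (ρ t v + ρ t v) + (v + v) := by
          rw [C.add_self, C.add_self, add_zero, add_zero]
      _ = _ := by abel
  -- `a₁ ∈ D`
  have ht₀1 : (t₀ : H) ≠ 1 := by
    intro h
    apply hne
    have h1 : t₀ = 1 := Subtype.ext h
    rw [h1]; group
  have ha₁D : a₁ ∈ D := by
    by_contra hD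
    have h1 : ∀ m ∈ V₁, b a m = 0 → ρ (t₀ : H) m + m = 0 := by
      intro m hm hbm
      obtain ⟨h2, h3⟩ := hperp t₀ t₀.2 ((hPm t₀).1 ht₀) m hm hbm
      rcases hDV _ h2 h3 with h | h
      · exact h
      · exact absurd (h ▸ h2) hD
    have h2 : ∀ u ∈ V₁, ρ (t₀ : H) u + u = 0 ∨ ρ (t₀ : H) u + u = ρ (t₀ : H) v + v := by
      intro u huV
      rcases zmod_two (b a u) with h | h
      · exact Or.inl (h1 u huV h)
      · obtain ⟨m, hm, hbm, he⟩ := hone t₀ t₀.2 ((hPm t₀).1 ht₀) u huV h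
        right
        rw [he, h1 m hm hbm, zero_add]
    obtain ⟨u, huV, hu1⟩ := S.exists_add C ha haa t₀.2 ((hPm t₀).1 ht₀) ht₀1
    obtain ⟨u', huV', hu1'⟩ := key2 t₀ t₀.2 ((hPm t₀).1 ht₀) ht₀1
    have e1 := (h2 u huV).resolve_left (by rw [hu1]; exact ha0)
    have e2 := (h2 u' huV').resolve_left (by rw [hu1']; exact hc0)
    apply hc
    rw [← hu1', e2, ← e1, hu1]
  -- `(t - 1) v ∈ {c, c + a₁}`
  have hs : ∀ t : H, t ∈ N₁ → ρ t a = a → t ≠ 1 →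
      ρ t v + v = ρ (n : H) a₁ ∨ ρ t v + v = ρ (n : H) a₁ + a₁ := by
    intro t htN hta ht1
    obtain ⟨u, huV, hu1⟩ := key2 t htN hta ht1
    rcases zmod_two (b a u) with h | h
    · exfalso
      obtain ⟨h2, h3⟩ := hperp t htN hta u huV h
      rcases hDV _ h2 h3 with h4 | h4
      · exact hc0 (by rw [← hu1, h4])
      · exact hc (by rw [← hu1, h4])
    · obtain ⟨m, hm, hbm, he⟩ := hone t htN hta u huV h
      obtain ⟨h2, h3⟩ := hperp t htN hta m hm hbm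
      rw [← hu1, he]
      rcases hDV _ h2 h3 with h4 | h4
      · left; rw [h4, zero_add]
      · right
        rw [h4, add_comm a₁, C.add_add_self]
  have hfixc : ∀ t : H, t ∈ N₁ → ρ t a = a → t ≠ 1 → ρ t (ρ (n : H) a₁) = ρ (n : H) a₁ := by
    intro t htN hta ht1
    obtain ⟨u, huV, hu1⟩ := key2 t htN hta ht1
    rw [← hu1, map_add, ← C.ρ_mul, S.sq C htN hta, C.ρ_one, add_comm]
  have hfixa : ∀ t : H, t ∈ N₁ → ρ t a = a → ρ t a₁ = a₁ := by
    intro t htN hta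
    rw [← haa, map_add, S.triv t htN _ (S.sw a₁ ha)] at hta
    exact add_right_cancel hta
  have huniq : ∀ t : H, t ∈ N₁ → ρ t a = a → t ≠ 1 → ∀ t' : H, t' ∈ N₁ → ρ t' a = a → t' ≠ 1 → t = t' := by
    intro t htN hta ht1 t' htN' hta' ht1'
    have h1 : ρ t (ρ t' v + v) = ρ t' v + v := by
      rcases hs t' htN' hta' ht1' with h | h
      · rw [h, hfixc t htN hta ht1]
      · rw [h, map_add, hfixc t htN hta ht1, hfixa t htN hta]
    have hV' : ρ t' v + v ∈ V₁ := V₁.add_mem (S.N_V t' htN' v hvV) hvV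
    have h2 : ρ (xt α t * xt α t') v + v ∈ D := by
      have h3 : ρ (xt α t * xt α t') v + v = (ρ t' v + v) + (ρ t v + v) := by
        rw [C.ρ_mul, S.xt_V₁' C htN' hta' hvV, S.xt_V₁' C htN hta (S.N_V t' htN' v hvV)]
        have h4 : ρ t (ρ t' v) = (ρ t' v + v) + ρ t v := by
          rw [← h1, map_add, C.add_add_self]
        rw [h4, add_assoc]
      rw [h3]
      rcases hs t htN hta ht1 with h | h <;> rcases hs t' htN' hta' ht1' with h' | h'
      · rw [h, h', C.add_self]; exact D.zero_mem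
      · rw [h, h', add_comm (ρ (n : H) a₁) a₁, add_assoc, C.add_self, add_zero]; exact ha₁D
      · rw [h, h', ← add_assoc, C.add_self, zero_add]; exact ha₁D
      · rw [h, h', C.add_self]; exact D.zero_mem
    have h3 := C.X_semi _ (X.mul_mem (S.xt_mem C hta) (S.xt_mem C hta')) v hv h2
    have h4 : xt α t = xt α t' := by
      rw [← C.X_inv (S.xt_mem C hta')]
      exact eq_inv_of_mul_eq_one_left h3
    have h5 : t'⁻¹ * t = 1 := by
      apply S.eq_one_of_V₁ C (N₁.mul_mem (N₁.inv_mem htN') htN)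
      intro u huV
      rw [C.ρ_mul, ← S.xt_V₁' C htN hta huV, h4, S.xt_V₁' C htN' hta' huV, C.ρ_inv_apply]
    exact (inv_mul_eq_one.1 h5).symm
  apply hne
  apply Subtype.ext
  refine huniq _ (N₁.mul_mem (N₁.mul_mem n.2 t₀.2) (N₁.inv_mem n.2)) ((hPm _).1 (hnP t₀ ht₀)) ?_
    t₀ t₀.2 ((hPm t₀).1 ht₀) ht₀1
  intro h
  apply ht₀1
  calc (t₀ : H) = (n : H)⁻¹ * (n * t₀ * (n : H)⁻¹) * n := by group
    _ = (n : H)⁻¹ * 1 * n := by rw [show (n : H) * t₀ * (n : H)⁻¹ = 1 from h]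
    _ = 1 := by group

end Gam

/-- **(G)** -/
theorem gamma_false (C : Cfg ρ b q a D X w) (V₁ V₂ : Submodule (ZMod 2) V) (hV : IsCompl V₁ V₂)
    (A' N₁ N₂ : Subgroup H) (hA : A' ≤ X) (hidx : A'.relIndex X = 2)
    (hA₁ : ∀ x ∈ A', ∀ v ∈ V₁, ρ x v ∈ V₁) (hsw : ∀ x ∈ X, x ∉ A' → ∀ v ∈ V₁, ρ x v ∈ V₂)
    (hcomm : ∀ x ∈ N₁, ∀ y ∈ N₂, x * y = y * x) (hAN : A' ≤ normalizer (N₁ : Set H))
    (hN : ∀ x ∈ X, x ∉ A' → N₁.map (MulAut.conj x).toMonoidHom = N₂)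
    (hinv : ∀ n ∈ N₁, ∀ v ∈ V₁, ρ n v ∈ V₁) (htriv : ∀ n ∈ N₁, ∀ v ∈ V₂, ρ n v = v)
    (hperf : ⁅N₁, N₁⁆ = N₁) (hne : N₁ ≠ ⊥) (hev : Even (Nat.card N₁)) : False := by
  obtain ⟨α, hα, hαA, hcs⟩ := relIndex_eq_two_iff_exists_notMem_and.1 hidx
  refine Gam.false (V₁ := V₁) (V₂ := V₂) (A' := A') (N₁ := N₁) (α := α) C
    { compl := hV
      A_le := fun x hx => hA hx
      α_mem := hα
      cases := hcs
      A_V := hA₁
      sw := hsw α hα hαA
      comm := fun n hn m hm => hcomm n hn _ ?_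
      A_N := fun x hx n hn => (mem_normalizer_iff.1 (hAN hx) n).1 hn
      N_V := hinv
      triv := htriv
      perf := hperf
      ne := hne
      even := hev }
  rw [← hN α hα hαA]
  exact ⟨m, hm, rfl⟩

end Cfsg.Agent.Omega.EH3.Clif
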