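import Cfsg.Agent.Omega.EH3.Clif.Ker

/-!
# Clifford step of EH3: `|C_X(N₁)| ≤ 2` for an `X`-invariant perfect factor of a normal subgroup (helper291)
-/

set_option autoImplicit false

namespace Cfsg.Agent.Omega.EH3.Clif

open Module Subgroup

variable {H V : Type*} [Group H] [AddCommGroup V] [Module (ZMod 2) V]
  {ρ : H →* (V ≃ₗ[ZMod 2] V)} {b : LinearMap.BilinForm (ZMod 2) V} {q : V → ZMod 2}
  {a : V} {D : Submodule (ZMod 2) V} {X : Subgroup H} {w : ℕ}

/-- an `X`-invariant simple `N₁`-submodule is of the type of `V` -/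
theorem comp_top (C : Cfg ρ b q a D X w) {N₁ : Subgroup H} (hss : IsSemisimpleModule (S ρ N₁) V)
    (hX : ∀ x ∈ X, ∀ n ∈ N₁, x * n * x⁻¹ ∈ N₁) {U : Submodule (S ρ N₁) V}
    (hU : IsSimpleModule (S ρ N₁) U) (hUX : ∀ x ∈ X, ∀ v ∈ U, ρ x v ∈ U) :
    isotypicComponent (S ρ N₁) V U = ⊤ := by
  have := C.finite_V
  have hNor : ∀ x : X, Nor (S ρ N₁) (rep ρ X x) := nor_X hX
  have h2 := C.add_self
  have hX2 := sq_X C
  have hfix := fix_rep C
  let c : isotypicComponents (S ρ N₁) V := ⟨isotypicComponent (S ρ N₁) V U, U, hU, rfl⟩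
  have hcs : ∀ x : X, cs (rep ρ X x) (hNor x) U = U := by
    intro x
    ext v
    rw [mem_cs, symm_self hX2 (rep ρ X)]
    constructor
    · intro hv
      have h1 := hUX x x.2 _ hv
      have h3 : ρ (x : H) (rep ρ X x v) = v := β_β hX2 (rep ρ X) x v
      rwa [h3] at h1
    · exact hUX x x.2 v
  have hall : ∀ d : isotypicComponents (S ρ N₁) V, d = c := by
    intro d
    obtain ⟨x, hx⟩ := trans h2 hX2 (rep ρ X) hNor C.a_ne hfix c d
    apply Subtype.ext
    rw [← hx]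
    show cs (rep ρ X x) (hNor x) (isotypicComponent (S ρ N₁) V U) = isotypicComponent (S ρ N₁) V U
    rw [cs_comp, hcs]
  have h1 := iSup_top (R := S ρ N₁) (V := V)
  rw [eq_top_iff, ← h1]
  apply iSup_le
  intro d
  rw [hall d]

theorem card_cent_le_of (C : Cfg ρ b q a D X w) {N₁ : Subgroup H} (hss : IsSemisimpleModule (S ρ N₁) V)
    (hX : X ≤ normalizer (N₁ : Set H)) (hperf : ⁅N₁, N₁⁆ = N₁) (hne : N₁ ≠ ⊥) :
    Nat.card ↥(X ⊓ centralizer (N₁ : Set H)) ≤ 2 := by
  classical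
  have := C.finite_V
  have hX' : ∀ x ∈ X, ∀ n ∈ N₁, x * n * x⁻¹ ∈ N₁ := fun x hx n hn => (mem_normalizer_iff.1 (hX hx) n).1 hn
  apply card_cent_le_of_semisimple C hX hperf hne
  intro U haU hUN hUX hmin
  let U' : Submodule (S ρ N₁) V := toSub U.toAddSubgroup hUN
  have hU'mem : ∀ v, v ∈ U' ↔ v ∈ U := fun _ => Iff.rfl
  have hU' : IsSimpleModule (S ρ N₁) U' := by
    rw [isSimpleModule_iff_isAtom]
    constructor
    · intro h
      have h1 : a ∈ U' := haU
      rw [h, Submodule.mem_bot] at h1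
      exact C.a_ne h1
    · intro W hW
      have hWU : toZ W ≤ U := fun v hv => hW.le hv
      rcases hmin (toZ W) hWU (fun n hn v hv => inv_of_sub W hn hv) with h | h
      · rw [eq_bot_iff]
        intro v hv
        have h1 : v ∈ toZ W := hv
        rw [h, Submodule.mem_bot] at h1
        rw [Submodule.mem_bot]; exact h1
      · exfalso
        apply hW.not_ge
        intro v hv
        have h1 : v ∈ toZ W := by rw [h]; exact hv
        exact h1
  have htop := comp_top C hss hX' hU' (fun x hx v hv => hUX x hx v hv)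
  -- a submodule isomorphic to `U'` not orthogonal to `a`
  obtain ⟨m, ⟨φ⟩, v, hv, hb⟩ : ∃ m : Submodule (S ρ N₁) V, Nonempty (m ≃ₗ[S ρ N₁] U') ∧ ∃ v ∈ m, b v a ≠ 0 := by
    by_contra hcon
    push Not at hcon
    apply C.a_ne
    apply C.nondeg
    intro v
    rw [C.b_comm]
    have hv : v ∈ isotypicComponent (S ρ N₁) V U' := by rw [htop]; exact Submodule.mem_top
    rw [isotypicComponent, sSup_eq_iSup'] at hv
    induction hv using Submodule.iSup_induction' with
    | mem i x hx => exact hcon i.1 i.2 x hx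
    | zero => rw [map_zero, LinearMap.zero_apply]
    | add x y _ _ hx hy => rw [map_add, LinearMap.add_apply, hx, hy, add_zero]
  let f₀ : U →+ V :=
    { toFun := fun u => (φ.symm ⟨u, u.2⟩ : V)
      map_zero' := by
        have : (⟨((0 : U) : V), (0 : U).2⟩ : U') = 0 := rfl
        rw [this, map_zero]; rfl
      map_add' := by
        intro u u'
        have : (⟨((u + u' : U) : V), (u + u').2⟩ : U') = ⟨u, u.2⟩ + ⟨u', u'.2⟩ := rfl
        rw [this, map_add]; rfl }
  obtain ⟨g, hg⟩ := LinearMap.exists_extend (f₀.toZModLinearMap 2)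
  have hg' : ∀ u (hu : u ∈ U), g u = (φ.symm ⟨u, hu⟩ : V) := fun u hu => LinearMap.congr_fun hg ⟨u, hu⟩
  refine ⟨g, ?_, ?_⟩
  · intro n hn u hu
    rw [hg' _ (hUN n hn u hu), hg' u hu]
    have h1 : (⟨ρ n u, hUN n hn u hu⟩ : U') = el ρ hn • ⟨u, hu⟩ := rfl
    rw [h1, map_smul]; rfl
  · refine ⟨(φ ⟨v, hv⟩ : V), (φ ⟨v, hv⟩).2, a, haU, ?_⟩
    rw [hg' _ (φ ⟨v, hv⟩).2]
    have h1 : φ.symm ⟨(φ ⟨v, hv⟩ : V), (φ ⟨v, hv⟩).2⟩ = ⟨v, hv⟩ := φ.symm_apply_apply _
    rw [h1]
    exact hb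

end Cfsg.Agent.Omega.EH3.Clif
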