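import Cfsg.Agent.Omega.EH3.Clif.Two

/-!
# Clifford step of EH3: both factors invariant (helper291)

`ineq_one` : `(log |B|)² ≤ 2 log |U|`.
-/

set_option autoImplicit false

namespace Cfsg.Agent.Omega.EH3.Clif

open Module

variable {U : Type*} [AddCommGroup U]

theorem isPGroup_two {B : Type*} [Group B] (hB : ∀ b : B, b * b = 1) : IsPGroup 2 B :=
  fun b => ⟨1, by rw [pow_one, pow_two, hB]⟩

theorem comm_of_sq {B : Type*} [Group B] (hB : ∀ b : B, b * b = 1) (x y : B) : x * y = y * x := by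
  have h1 := hB (x * y)
  have hx : x⁻¹ = x := inv_eq_of_mul_eq_one_left (hB x)
  have hy : y⁻¹ = y := inv_eq_of_mul_eq_one_left (hB y)
  have h2 : (x * y)⁻¹ = x * y := inv_eq_of_mul_eq_one_left h1
  rw [mul_inv_rev, hx, hy] at h2
  exact h2.symm

/-- an invariant simple submodule of a homogeneous module, with the fixed vector -/
theorem exists_simple {S : Type*} [Ring S] [Module S U] [Finite U] [Nontrivial U]
    (h2 : ∀ u : U, u + u = 0) (htop : ∀ M : Submodule S U, IsSimpleModule S M →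
      isotypicComponent S U M = ⊤) {B : Type*} [Group B] (hB : IsPGroup 2 B) (β : Act B U)
    (hN : ∀ b, Nor S (β b)) :
    ∃ M : Submodule S U, IsSimpleModule S M ∧ (∀ b, ∀ v ∈ M, β b v ∈ M) ∧
      ∃ e ∈ M, e ≠ 0 ∧ ∀ b, β b e = e := by
  obtain ⟨M₀, hM₀⟩ := IsAtomic.exists_atom (Submodule S U)
  rw [← isSimpleModule_iff_isAtom] at hM₀
  have hiso : IsIsotypicOfType S U M₀ := IsIsotypicOfType.of_isotypicComponent_eq_top (htop M₀ hM₀)
  obtain ⟨M, hM, -, hinv⟩ := exists_inv_simple h2 hB β hN (V₁ := ⊤) (M₀ := M₀)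
    (fun _ _ _ => Submodule.mem_top) hM₀ le_top (by
      intro M'
      have := M'.2.1
      obtain ⟨φ⟩ := hiso M'.1
      exact ⟨φ.symm⟩)
  have : Nontrivial M := IsSimpleModule.nontrivial S M
  obtain ⟨m, hm⟩ := exists_ne (0 : M)
  obtain ⟨e, heM, he0, he⟩ := exists_fix h2 hB β M.toAddSubgroup hinv
    ⟨m, m.2, fun h => hm (Subtype.ext h)⟩
  exact ⟨M, hM, hinv, e, heM, he0, he⟩

/-- the count on an invariant submodule whose only fixed vectors are `0, e` -/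
theorem count_sub {S : Type*} [Ring S] [Module S U] [Finite U] (h2 : ∀ u : U, u + u = 0)
    {B : Type*} [Group B] [Finite B] (hB : ∀ b : B, b * b = 1) (β : Act B U) (M : Submodule S U)
    (hinv : ∀ b, ∀ v ∈ M, β b v ∈ M) {e : U} (heM : e ∈ M) (he : e ≠ 0) (hfe : ∀ b, β b e = e)
    (hfix : ∀ v ∈ M, (∀ b, β b v = v) → v = 0 ∨ v = e)
    (hk : Nat.card {b : B // ∀ m ∈ M, β b m = m} ≤ 2) : Nat.card B ≤ Nat.card M := by
  have h1 := count_one (V := M) (fun v => Subtype.ext (h2 v)) (isPGroup_two hB) (comm_of_sq hB)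
    (res β M hinv) (e := ⟨e, heM⟩) (fun h => he (congrArg Subtype.val h))
    (fun b => Subtype.ext (hfe b)) (by
      intro v hv
      rcases hfix v v.2 (fun b => congrArg Subtype.val (hv b)) with h | h
      · exact Or.inl (Subtype.ext h)
      · exact Or.inr (Subtype.ext h))
  have h3 : Nat.card {b : B // ∀ v, res β M hinv b v = v} ≤ 2 := by
    refine le_trans (le_of_eq ?_) hk
    apply Nat.card_congr
    apply Equiv.subtypeEquivRight
    intro b
    constructor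
    · intro h m hm
      exact congrArg Subtype.val (h ⟨m, hm⟩)
    · intro h v
      exact Subtype.ext (h v v.2)
  have h4 : Nat.card B * 2 ≤ 2 * Nat.card M := h1.trans (Nat.mul_le_mul_right _ h3)
  omega

variable {R : Type*} [Ring R] [Module R U] {R₁ R₂ : Subring R}

/-- **both factors invariant** -/
theorem ineq_one [Finite U] (h2 : ∀ u : U, u + u = 0) (hs : IsSimpleModule R U)
    (hc : ∀ x ∈ R₁, ∀ y ∈ R₂, x * y = y * x) (hg : R₁ ⊔ R₂ = ⊤)
    {B : Type*} [Group B] [Finite B] (hB : ∀ b : B, b * b = 1) (β : Act B U)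
    (hN₁ : ∀ b, Nor R₁ (β b)) (hN₂ : ∀ b, Nor R₂ (β b)) {e : U} (he : e ≠ 0)
    (hfe : ∀ b, β b e = e) (hfix : ∀ v, (∀ b, β b v = v) → v = 0 ∨ v = e)
    (hk₁ : ∀ M : Submodule R₁ U, IsSimpleModule R₁ M → e ∈ M →
      Nat.card {b : B // ∀ m ∈ M, β b m = m} ≤ 2)
    (hk₂ : ∀ M : Submodule R₂ U, IsSimpleModule R₂ M → e ∈ M →
      Nat.card {b : B // ∀ m ∈ M, β b m = m} ≤ 2)
    {k l : ℕ} (hk : Nat.card B = 2 ^ k) (hl : Nat.card U = 2 ^ l) : k * k ≤ 2 * l := by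
  have : Nontrivial U := IsSimpleModule.nontrivial R U
  have hg' : R₂ ⊔ R₁ = ⊤ := by rw [sup_comm]; exact hg
  have hc' : ∀ x ∈ R₂, ∀ y ∈ R₁, x * y = y * x := fun x hx y hy => (hc y hy x hx).symm
  obtain ⟨M₁, hM₁, hinv₁, e₁, he₁M, he₁0, he₁⟩ := exists_simple h2
    (fun M hM => iso_top hs hc hg hM) (isPGroup_two hB) β hN₁
  obtain ⟨M₂, hM₂, hinv₂, e₂, he₂M, he₂0, he₂⟩ := exists_simple h2
    (fun M hM => iso_top hs hc' hg' hM) (isPGroup_two hB) β hN₂
  obtain rfl : e₁ = e := (hfix e₁ he₁).resolve_left he₁0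
  obtain rfl : e₂ = e₁ := (hfix e₂ he₂).resolve_left he₂0
  have hc₁ : Nat.card B ≤ Nat.card M₁ := count_sub h2 hB β M₁ hinv₁ he₁M he₁0 he₁
    (fun v _ hv => hfix v hv) (hk₁ M₁ hM₁ he₁M)
  have hc₂ : Nat.card B ≤ Nat.card M₂ := count_sub h2 hB β M₂ hinv₂ he₂M he₁0 he₁
    (fun v _ hv => hfix v hv) (hk₂ M₂ hM₂ he₂M)
  have hE : Nat.card (Module.End R₁ M₁) ≤ 4 :=
    end_le_four (V := M₁) (fun v => Subtype.ext (h2 v)) hB (res β M₁ hinv₁)
      (fun b => res_nor β M₁ hinv₁ b (hN₁ b)) hM₁ (e := ⟨e₂, he₁M⟩)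
      (fun h => he₁0 (congrArg Subtype.val h)) (fun b => Subtype.ext (he₁ b)) (by
        intro v hv
        rcases hfix v (fun b => congrArg Subtype.val (hv b)) with h | h
        · exact Or.inl (Subtype.ext h)
        · exact Or.inr (Subtype.ext h))
  obtain ⟨n, hn, Y, heY, hY⟩ := hom_sub hs hc hg hM₁ he₁M he₁0
  have hle : M₂ ≤ Y := by
    rw [isSimpleModule_iff_isAtom] at hM₂
    rcases hM₂.le_iff.1 (inf_le_left : M₂ ⊓ Y ≤ M₂) with h | h
    · exfalso
      apply he₁0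
      have : e₂ ∈ M₂ ⊓ Y := ⟨he₂M, heY⟩
      rwa [h, Submodule.mem_bot] at this
    · exact inf_eq_left.1 h
  have hcard : Nat.card M₂ ≤ Nat.card Y :=
    Nat.card_le_card_of_injective (Submodule.inclusion hle) (Submodule.inclusion_injective hle)
  have h5 : 2 ^ k ≤ 2 ^ (2 * n) := by
    calc 2 ^ k = Nat.card B := hk.symm
      _ ≤ Nat.card M₂ := hc₂
      _ ≤ Nat.card Y := hcard
      _ = Nat.card (Module.End R₁ M₁) ^ n := hY
      _ ≤ 4 ^ n := Nat.pow_le_pow_left hE n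
      _ = 2 ^ (2 * n) := by rw [pow_mul]; norm_num
  have h6 : 2 ^ (k * n) ≤ 2 ^ l := by
    calc 2 ^ (k * n) = (2 ^ k) ^ n := by rw [pow_mul]
      _ = Nat.card B ^ n := by rw [hk]
      _ ≤ Nat.card M₁ ^ n := Nat.pow_le_pow_left hc₁ n
      _ = Nat.card U := hn.symm
      _ = 2 ^ l := hl
  have h7 : k ≤ 2 * n := (Nat.pow_le_pow_iff_right (by norm_num)).1 h5
  have h8 : k * n ≤ l := (Nat.pow_le_pow_iff_right (by norm_num)).1 h6
  calc k * k ≤ k * (2 * n) := Nat.mul_le_mul_left _ h7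
    _ = 2 * (k * n) := by ring
    _ ≤ 2 * l := Nat.mul_le_mul_left _ h8

end Cfsg.Agent.Omega.EH3.Clif
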