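import Cfsg.Agent.Omega.EH3.Clif.IneqOne

/-!
# Clifford step of EH3: the two factors swapped (helper291)

`ineq_two` : `|B'| ≤ 2^x` and `x² j = d log |U|` with `j ≥ 1`, `d ≤ 2`.
-/

set_option autoImplicit false

namespace Cfsg.Agent.Omega.EH3.Clif

open Module

section swp

variable {U : Type*} [AddCommGroup U] {S₁ S₂ : Type*} [Ring S₁] [Ring S₂] [Module S₁ U] [Module S₂ U]

variable (S₁ S₂) in
/-- `g` carries the action of `S₁` to the action of `S₂` -/
def Swp (g : U ≃+ U) : Prop :=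
  (∀ r : S₁, ∃ r' : S₂, ∀ v, g (r • v) = r' • g v) ∧ (∀ r' : S₂, ∃ r : S₁, ∀ v, g (r • v) = r' • g v)

/-- transport of submodules -/
def csw (g : U ≃+ U) (hg : Swp S₁ S₂ g) : Submodule S₁ U ≃o Submodule S₂ U where
  toFun M :=
    { carrier := {v | g.symm v ∈ M}
      zero_mem' := by
        show g.symm 0 ∈ M
        rw [map_zero]; exact M.zero_mem
      add_mem' := by
        intro u v hu hv
        show g.symm (u + v) ∈ M
        rw [map_add]; exact M.add_mem hu hv
      smul_mem' := by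
        intro r v hv
        show g.symm (r • v) ∈ M
        obtain ⟨r', hr'⟩ := hg.2 r
        have h1 : g.symm (r • v) = r' • g.symm v := by
          rw [g.symm_apply_eq, hr', g.apply_symm_apply]
        rw [h1]
        exact M.smul_mem _ hv }
  invFun M :=
    { carrier := {v | g v ∈ M}
      zero_mem' := by
        show g 0 ∈ M
        rw [map_zero]; exact M.zero_mem
      add_mem' := by
        intro u v hu hv
        show g (u + v) ∈ M
        rw [map_add]; exact M.add_mem hu hv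
      smul_mem' := by
        intro r v hv
        show g (r • v) ∈ M
        obtain ⟨r', hr'⟩ := hg.1 r
        rw [hr']
        exact M.smul_mem _ hv }
  left_inv := by
    intro M
    ext v
    show g.symm (g v) ∈ M ↔ _
    rw [g.symm_apply_apply]
  right_inv := by
    intro M
    ext v
    show g (g.symm v) ∈ M ↔ _
    rw [g.apply_symm_apply]
  map_rel_iff' := by
    intro M M'
    constructor
    · intro h v hv
      have h1 : g v ∈ ({v | g.symm v ∈ M'} : Set U) := h (by
        show g.symm (g v) ∈ M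
        rw [g.symm_apply_apply]; exact hv)
      have h2 : g.symm (g v) ∈ M' := h1
      rwa [g.symm_apply_apply] at h2
    · intro h v hv
      exact h hv

theorem mem_csw {g : U ≃+ U} {hg : Swp S₁ S₂ g} {M : Submodule S₁ U} {v : U} :
    v ∈ csw g hg M ↔ g.symm v ∈ M := Iff.rfl

theorem apply_mem_csw {g : U ≃+ U} {hg : Swp S₁ S₂ g} {M : Submodule S₁ U} {v : U} :
    g v ∈ csw g hg M ↔ v ∈ M := by rw [mem_csw, g.symm_apply_apply]

theorem csw_simple {g : U ≃+ U} (hg : Swp S₁ S₂ g) {M : Submodule S₁ U} (hM : IsSimpleModule S₁ M) :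
    IsSimpleModule S₂ (csw g hg M) := by
  rw [isSimpleModule_iff_isAtom] at hM ⊢
  exact (OrderIso.isAtom_iff (csw g hg) M).2 hM

theorem card_csw {g : U ≃+ U} (hg : Swp S₁ S₂ g) (M : Submodule S₁ U) :
    Nat.card (csw g hg M) = Nat.card M := by
  symm
  apply Nat.card_congr
  exact
    { toFun := fun v => ⟨g v, apply_mem_csw.2 v.2⟩
      invFun := fun v => ⟨g.symm v, v.2⟩
      left_inv := fun v => Subtype.ext (g.symm_apply_apply _)
      right_inv := fun v => Subtype.ext (g.apply_symm_apply _) }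

/-- in a simple submodule every vector is a multiple of a given nonzero one -/
theorem exists_smul {S : Type*} [Ring S] [Module S U] {M : Submodule S U} (hM : IsSimpleModule S M)
    {e t : U} (he : e ∈ M) (he0 : e ≠ 0) (ht : t ∈ M) : ∃ s : S, s • e = t := by
  rw [isSimpleModule_iff_isAtom] at hM
  have h1 : Submodule.span S {e} ≤ M := by
    rw [Submodule.span_singleton_le_iff_mem]; exact he
  rcases hM.le_iff.1 h1 with h | h
  · exfalso
    apply he0
    rwa [Submodule.span_singleton_eq_bot] at h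
  · rw [← h, Submodule.mem_span_singleton] at ht
    exact ht

end swp

variable {U : Type*} [AddCommGroup U] {R : Type*} [Ring R] [Module R U] {R₁ R₂ : Subring R}

/-- the lower bound -/
theorem lower [Finite U] (h2 : ∀ u : U, u + u = 0)
    (hc : ∀ x ∈ R₁, ∀ y ∈ R₂, x * y = y * x)
    {B : Type*} [Group B] [Finite B] (hB : ∀ b : B, b * b = 1) (β : Act B U)
    (B' : Subgroup B) (hidx : B'.index = 2)
    (hN₁ : ∀ b ∈ B', Nor R₁ (β b)) {b₀ : B} (hb₀ : b₀ ∉ B') (hsw : Swp R₁ R₂ (β b₀))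
    {e : U} (he : e ≠ 0) (hfe : ∀ b, β b e = e) (hfix : ∀ v, (∀ b, β b v = v) → v = 0 ∨ v = e)
    {M : Submodule R₁ U} (hM : IsSimpleModule R₁ M) (hinv : ∀ b ∈ B', ∀ v ∈ M, β b v ∈ M)
    (hk : Nat.card {b : B' // ∀ m ∈ M, β b m = m} ≤ 2) : Nat.card B' ≤ Nat.card M := by
  classical
  have hB' : ∀ b : B', b * b = 1 := fun b => Subtype.ext (hB b)
  have hcB := comm_of_sq hB
  set β' : Act B' U := β.comp B'.subtype with hβ'
  have hinv' : ∀ b : B', ∀ v ∈ M, β' b v ∈ M := fun b v hv => hinv b b.2 v hv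
  have : Nontrivial M := IsSimpleModule.nontrivial R₁ M
  obtain ⟨m₁, hm₁⟩ := exists_ne (0 : M)
  obtain ⟨m₀, hm₀M, hm₀0, hm₀⟩ := exists_fix h2 (isPGroup_two hB') β' M.toAddSubgroup hinv'
    ⟨m₁, m₁.2, fun h => hm₁ (Subtype.ext h)⟩
  by_cases hcase : ∀ v ∈ M, (∀ b, β' b v = v) → v = 0 ∨ v = m₀
  · exact count_sub h2 hB' β' M hinv' hm₀M hm₀0 hm₀ hcase hk
  push Not at hcase
  obtain ⟨v₁, hv₁M, hv₁, hv₁0, hv₁m⟩ := hcase
  -- decomposition of `B`
  have hdec : ∀ b, b ∉ B' → b₀⁻¹ * b ∈ B' := by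
    intro b hb
    have h1 := (Subgroup.mul_mem_iff_of_index_two hidx (a := b₀⁻¹) (b := b)).2
      (by rw [inv_mem_iff]; exact ⟨fun h => absurd h hb₀, fun h => absurd h hb⟩)
    exact h1
  have hfixB : ∀ t, (∀ b : B', β' b t = t) → β b₀ t = t → ∀ b, β b t = t := by
    intro t ht ht0 b
    by_cases hb : b ∈ B'
    · exact ht ⟨b, hb⟩
    · have h1 : b = b₀ * (b₀⁻¹ * b) := by group
      rw [h1, β.mul]
      have h3 := ht ⟨_, hdec b hb⟩
      have h4 : β (b₀⁻¹ * b) t = t := h3
      rw [h4, ht0]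
  have hb₀b₀ : ∀ v, β b₀ (β b₀ v) = v := fun v => by rw [← β.mul, hB, β.one]
  have hsum : ∀ t, (∀ b : B', β' b t = t) → t + β b₀ t = 0 ∨ t + β b₀ t = e := by
    intro t ht
    apply hfix
    apply hfixB
    · intro b
      have h3 : β b t = t := ht b
      show β b (t + β b₀ t) = t + β b₀ t
      rw [map_add, ← β.mul, hcB b b₀, β.mul, h3]
    · rw [map_add, hb₀b₀, add_comm]
  have eqz : ∀ {x y : U}, x + y = 0 → x = y := by
    intro x y h
    have : x + y = y + y := by rw [h, h2]
    exact add_right_cancel this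
  have hzero : ∀ t, (∀ b : B', β' b t = t) → t + β b₀ t = 0 → t = 0 ∨ t = e := by
    intro t ht h
    exact hfix t (hfixB t ht (eqz h).symm)
  have hne : ∀ t, (∀ b : B', β' b t = t) → t ≠ 0 → t ≠ e → β b₀ t = t + e := by
    intro t ht h0 h1
    rcases hsum t ht with h | h
    · rcases hzero t ht h with h' | h'
      · exact absurd h' h0
      · exact absurd h' h1
    · rw [← h, ← add_assoc, h2, zero_add]
  have hfe' : ∀ b : B', β' b e = e := fun b => hfe b
  -- `e ∈ M`
  have heM : e ∈ M := by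
    by_cases h0 : m₀ = e
    · rw [← h0]; exact hm₀M
    by_cases h1 : v₁ = e
    · rw [← h1]; exact hv₁M
    have h3 := hne m₀ hm₀ hm₀0 h0
    have h4 := hne v₁ hv₁ hv₁0 h1
    have h5 : (m₀ + v₁) + β b₀ (m₀ + v₁) = 0 := by
      rw [map_add, h3, h4]
      have : m₀ + v₁ + (m₀ + e + (v₁ + e)) = (m₀ + m₀) + (v₁ + v₁) + (e + e) := by abel
      rw [this]; simp only [h2]
    rcases hzero (m₀ + v₁) (fun b => by rw [map_add, hm₀, hv₁]) h5 with h6 | h6
    · exact absurd (eqz h6).symm hv₁m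
    · rw [← h6]; exact M.add_mem hm₀M hv₁M
  obtain ⟨t, htM, ht, ht0, hte⟩ : ∃ t ∈ M, (∀ b : B', β' b t = t) ∧ t ≠ 0 ∧ t ≠ e := by
    by_cases h0 : m₀ = e
    · exact ⟨v₁, hv₁M, hv₁, hv₁0, fun h => hv₁m (h.trans h0.symm)⟩
    · exact ⟨m₀, hm₀M, hm₀, hm₀0, h0⟩
  have hbt := hne t ht ht0 hte
  have hall : ∀ u, (∀ b : B', β' b u = u) → u = 0 ∨ u = e ∨ u = t ∨ u = t + e := by
    intro u hu
    by_cases h0 : u = 0
    · exact Or.inl h0
    by_cases h1 : u = e
    · exact Or.inr (Or.inl h1)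
    have h3 := hne u hu h0 h1
    have h5 : (u + t) + β b₀ (u + t) = 0 := by
      rw [map_add, h3, hbt]
      have : u + t + (u + e + (t + e)) = (u + u) + (t + t) + (e + e) := by abel
      rw [this]; simp only [h2]
    rcases hzero (u + t) (fun b => by rw [map_add, hu, ht]) h5 with h6 | h6
    · exact Or.inr (Or.inr (Or.inl (eqz h6)))
    · refine Or.inr (Or.inr (Or.inr ?_))
      rw [← h6]
      have : t + (u + t) = u + (t + t) := by abel
      rw [this, h2, add_zero]
  -- `y e = t`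
  have hM₂ := csw_simple hsw hM
  have heM₂ : e ∈ csw (β b₀) hsw M := by
    have h1 : β b₀ e ∈ csw (β b₀) hsw M := apply_mem_csw.2 heM
    rwa [hfe] at h1
  have htM₂ : t ∈ csw (β b₀) hsw M := by
    have h1 : β b₀ t ∈ csw (β b₀) hsw M := apply_mem_csw.2 htM
    rw [hbt] at h1
    have h3 := (csw (β b₀) hsw M).add_mem h1 heM₂
    rwa [add_assoc, h2, add_zero] at h3
  obtain ⟨y, hy⟩ := exists_smul hM₂ heM₂ he htM₂
  have hyx : ∀ (x : R₁) (u : U), y • (x • u) = x • (y • u) := by
    intro x u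
    show (y : R) • ((x : R) • u) = (x : R) • ((y : R) • u)
    rw [smul_smul, smul_smul, hc x x.2 y y.2]
  have hyM : ∀ m ∈ M, y • m ∈ M := by
    intro m hm
    obtain ⟨x, rfl⟩ := exists_smul hM heM he hm
    rw [hyx, hy]
    exact M.smul_mem x htM
  have hyB : ∀ (b : B') (m : U), m ∈ M → β' b (y • m) = y • β' b m := by
    intro b m hm
    obtain ⟨x, rfl⟩ := exists_smul hM heM he hm
    obtain ⟨x', hx'⟩ := (hN₁ b b.2).2 x
    have hx'' : ∀ w, β' b (x • w) = x' • β' b w := by
      intro w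
      have h3 := hx' (β b w)
      rw [AddEquiv.symm_apply_apply] at h3
      show β b (x • w) = x' • β b w
      rw [h3, AddEquiv.apply_symm_apply]
    rw [hyx, hy, hx'', hx'', ht, hfe', hyx, hy]
  let δ : Module.End R₁ M :=
    { toFun := fun m => ⟨y • (m : U), hyM m m.2⟩
      map_add' := fun _ _ => Subtype.ext (smul_add _ _ _)
      map_smul' := fun x m => Subtype.ext (hyx x m) }
  have hδinj : Function.Injective δ := by
    rcases δ.injective_or_eq_zero with h | h
    · exact h
    · exfalso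
      apply ht0
      have h3 := congrArg Subtype.val (LinearMap.congr_fun h ⟨e, heM⟩)
      have h4 : y • e = 0 := h3
      rw [← hy, h4]
  have hyinj : ∀ u ∈ M, ∀ v ∈ M, y • u = y • v → u = v := by
    intro u hu v hv h
    exact congrArg Subtype.val (hδinj (a₁ := ⟨u, hu⟩) (a₂ := ⟨v, hv⟩) (Subtype.ext h))
  have hyt : y • t = t + e := by
    rcases hall (y • t) (fun b => by rw [hyB b t htM, ht]) with h | h | h | h
    · exfalso
      apply ht0
      exact hyinj t htM 0 M.zero_mem (by rw [h, smul_zero])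
    · exfalso
      -- `(δ - 1)² e = 0`
      have h3 : (δ - 1) ((δ - 1) ⟨e, heM⟩) = 0 := by
        apply Subtype.ext
        show y • (y • e - e) - (y • e - e) = 0
        rw [hy, smul_sub, h, hy]
        have h4 : e - t - (t - e) = (e + e) - (t + t) := by abel
        rw [h4, h2, h2, sub_zero]
      apply hte
      rcases (δ - 1).injective_or_eq_zero with h4 | h4
      · have h5 := h4 (h3.trans (map_zero _).symm)
        have h6 : y • e - e = 0 := congrArg Subtype.val h5
        rw [hy] at h6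
        exact sub_eq_zero.1 h6
      · have h5 := congrArg Subtype.val (LinearMap.congr_fun h4 ⟨e, heM⟩)
        have h6 : y • e - e = 0 := h5
        rw [hy] at h6
        exact sub_eq_zero.1 h6
    · exfalso
      apply hte
      exact hyinj t htM e heM (by rw [h, hy])
    · exact h
  have hc1 := count' (V := M) (fun v => Subtype.ext (h2 v)) (res β' M hinv') (e := ⟨e, heM⟩)
    (fun h => he (congrArg Subtype.val h)) (fun b => Subtype.ext (hfe' b)) (by
      rintro c ⟨v, hv⟩
      let W : AddSubgroup M :=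
        { carrier := {w | ∃ u, res β' M hinv' c u + u = w}
          zero_mem' := ⟨0, by rw [map_zero, add_zero]⟩
          add_mem' := by
            rintro _ _ ⟨u, rfl⟩ ⟨u', rfl⟩
            exact ⟨u + u', by rw [map_add]; abel⟩
          neg_mem' := by
            rintro _ ⟨u, rfl⟩
            exact ⟨-u, by rw [map_neg]; abel⟩ }
      have hW : ∀ w : M, w ∈ W → ∀ w' : M, (w' : U) = y • (w : U) → w' ∈ W := by
        rintro _ ⟨u, rfl⟩ w' hw'
        refine ⟨⟨y • (u : U), hyM u u.2⟩, ?_⟩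
        apply Subtype.ext
        rw [hw']
        show β' c (y • (u : U)) + y • (u : U) = y • (β' c u + (u : U))
        rw [hyB c u u.2, smul_add]
      obtain ⟨w, hwW, hw0, hw⟩ := exists_fix (V := M) (fun v => Subtype.ext (h2 v))
        (isPGroup_two hB') (res β' M hinv') W (by
          rintro b _ ⟨u, rfl⟩
          refine ⟨res β' M hinv' b u, ?_⟩
          rw [map_add, ← (res β' M hinv').mul, ← (res β' M hinv').mul, comm_of_sq hB']) ⟨_, ⟨v, rfl⟩, by
            intro h
            apply hv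
            have : res β' M hinv' c v + v = v + v := by
              rw [h]; exact (Subtype.ext (h2 v)).symm
            exact add_right_cancel this⟩
      have hw' : ∀ b, β' b w = w := fun b => congrArg Subtype.val (hw b)
      have hgoal : (⟨e, heM⟩ : M) ∈ W := by
        rcases hall w hw' with h | h | h | h
        · exact absurd (Subtype.ext h) hw0
        · have : w = ⟨e, heM⟩ := Subtype.ext h
          rw [← this]; exact hwW
        · have h3 := W.add_mem (hW w hwW ⟨t + e, M.add_mem htM heM⟩ (by rw [h, hyt])) hwW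
          have h4 : (⟨t + e, M.add_mem htM heM⟩ : M) + w = ⟨e, heM⟩ := by
            apply Subtype.ext
            show t + e + (w : U) = e
            rw [h, add_right_comm, h2, zero_add]
          rwa [h4] at h3
        · apply hW w hwW
          rw [h, smul_add, hyt, hy, add_right_comm, h2, zero_add]
      exact hgoal)
  have h3 : Nat.card {b : B' // ∀ v, res β' M hinv' b v = v} ≤ 2 := by
    refine le_trans (le_of_eq ?_) hk
    apply Nat.card_congr
    apply Equiv.subtypeEquivRight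
    intro b
    constructor
    · intro h m hm
      exact congrArg Subtype.val (h ⟨m, hm⟩)
    · intro h v
      exact Subtype.ext (h v v.2)
  have h4 : Nat.card B' * 2 ≤ 2 * Nat.card M := hc1.trans (Nat.mul_le_mul_right _ h3)
  omega

/-- **the two factors swapped** -/
theorem ineq_two [Finite U] (h2 : ∀ u : U, u + u = 0) (hs : IsSimpleModule R U)
    (hc : ∀ x ∈ R₁, ∀ y ∈ R₂, x * y = y * x) (hg : R₁ ⊔ R₂ = ⊤)
    {B : Type*} [Group B] [Finite B] (hB : ∀ b : B, b * b = 1) (β : Act B U)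
    (hN : ∀ b, Nor R (β b)) (B' : Subgroup B) (hidx : B'.index = 2)
    (hN₁ : ∀ b ∈ B', Nor R₁ (β b)) {b₀ : B} (hb₀ : b₀ ∉ B') (hsw : Swp R₁ R₂ (β b₀))
    {e : U} (he : e ≠ 0) (hfe : ∀ b, β b e = e) (hfix : ∀ v, (∀ b, β b v = v) → v = 0 ∨ v = e)
    (hk : ∀ M : Submodule R₁ U, IsSimpleModule R₁ M →
      Nat.card {b : B' // ∀ m ∈ M, β b m = m} ≤ 2)
    {k l : ℕ} (hkk : Nat.card B' = 2 ^ k) (hl : Nat.card U = 2 ^ l) :
    ∃ x j d, k ≤ x ∧ 1 ≤ j ∧ d ≤ 2 ∧ x * x * j = d * l := by
  have : Nontrivial U := IsSimpleModule.nontrivial R U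
  have hg' : R₂ ⊔ R₁ = ⊤ := by rw [sup_comm]; exact hg
  have hc' : ∀ x ∈ R₂, ∀ y ∈ R₁, x * y = y * x := fun x hx y hy => (hc y hy x hx).symm
  have hB' : ∀ b : B', b * b = 1 := fun b => Subtype.ext (hB b)
  obtain ⟨M, hM, hinv, m, hmM, hm0, -⟩ := exists_simple h2
    (fun M hM => iso_top hs hc hg hM) (isPGroup_two hB') (β.comp B'.subtype) (fun b => hN₁ b b.2)
  have hlow := lower h2 hc hB β B' hidx hN₁ hb₀ hsw he hfe hfix hM
    (fun b hb => hinv ⟨b, hb⟩) (hk M hM)
  have hE : Nat.card (Module.End R₁ M) ≤ 4 :=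
    (end_le hs hc hg hM).trans (end_le_four h2 hB β hN hs he hfe hfix)
  obtain ⟨n, hn, Y, hmY, hY⟩ := hom_sub hs hc hg hM hmM hm0
  have hM₂ := csw_simple hsw hM
  obtain ⟨j, hj⟩ := card_sub hM₂ (iso_top hs hc' hg' hM₂) Y
  rw [card_csw] at hj
  have hp : Nat.Prime 2 := Nat.prime_two
  have hMdvd : Nat.card M ∣ 2 ^ l := by
    rw [← hl]
    exact AddSubgroup.card_addSubgroup_dvd_card M.toAddSubgroup
  obtain ⟨x, -, hx⟩ := (Nat.dvd_prime_pow hp).1 hMdvd
  have hMne : Nat.card M ≠ 1 := by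
    have : Nontrivial M := IsSimpleModule.nontrivial R₁ M
    exact Finite.one_lt_card.ne'
  have hx0 : x ≠ 0 := by rintro rfl; exact hMne hx
  have hl0 : l ≠ 0 := by
    rintro rfl
    rw [pow_zero] at hl
    exact (Finite.one_lt_card (α := U)).ne' hl
  have hn0 : n ≠ 0 := by
    rintro rfl
    rw [pow_zero] at hn
    exact (Finite.one_lt_card (α := U)).ne' hn
  have hj0 : j ≠ 0 := by
    rintro rfl
    rw [pow_zero] at hj
    have : Nontrivial Y := ⟨⟨⟨m, hmY⟩, 0, fun h => hm0 (congrArg Subtype.val h)⟩⟩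
    exact (Finite.one_lt_card (α := Y)).ne' hj
  have hDdvd : Nat.card (Module.End R₁ M) ∣ 2 ^ (x * j) := by
    have h1 : Nat.card (Module.End R₁ M) ∣ Nat.card (Module.End R₁ M) ^ n := dvd_pow_self _ hn0
    rwa [← hY, hj, hx, ← pow_mul] at h1
  obtain ⟨d, -, hd⟩ := (Nat.dvd_prime_pow hp).1 hDdvd
  have hd2 : d ≤ 2 := by
    rw [hd] at hE
    have : 2 ^ d ≤ 2 ^ 2 := hE
    exact (Nat.pow_le_pow_iff_right (by norm_num)).1 this
  have h5 : x * j = d * n := by
    have h6 : 2 ^ (x * j) = 2 ^ (d * n) := by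
      rw [pow_mul, ← hx, ← hj, hY, hd, ← pow_mul]
    exact Nat.pow_right_injective (le_refl 2) h6
  have h7 : l = x * n := by
    have h6 : 2 ^ l = 2 ^ (x * n) := by
      rw [pow_mul, ← hx, ← hn, hl]
    exact Nat.pow_right_injective (le_refl 2) h6
  refine ⟨x, j, d, ?_, Nat.one_le_iff_ne_zero.2 hj0, hd2, ?_⟩
  · rw [hkk, hx] at hlow
    exact (Nat.pow_le_pow_iff_right (by norm_num)).1 hlow
  · rw [h7, mul_assoc, h5]; ring

end Cfsg.Agent.Omega.EH3.Clif
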