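import Mathlib.RingTheory.SimpleModule.Isotypic
import Mathlib.RingTheory.SimpleModule.Basic
import Mathlib.GroupTheory.PGroup
import Mathlib.Data.ZMod.Basic
import Mathlib.Tactic

/-!
# Clifford step of EH3: simple submodules of an isotypic module, operated on by a `2`-group (helper291)

`R` a ring, `V` a finite `R`-module of exponent two, `g : V ≃+ V` normalising the action of `R` (`Nor R g`);
`cs g M` the conjugate submodule.  `odd_sim` : the number of simple submodules of an isotypic module is odd.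
-/

set_option autoImplicit false

namespace Cfsg.Agent.Omega.EH3.Clif

open Module

variable {V : Type*} [AddCommGroup V] {R : Type*} [Ring R] [Module R V]

variable (R) in
/-- `g` normalises the action of `R` -/
def Nor (g : V ≃+ V) : Prop :=
  (∀ r : R, ∃ r' : R, ∀ v, r • g v = g (r' • v)) ∧ (∀ r : R, ∃ r' : R, ∀ v, r • g.symm v = g.symm (r' • v))

theorem Nor.symm {g : V ≃+ V} (hg : Nor R g) : Nor R g.symm := ⟨hg.2, hg.1⟩

/-- the conjugate submodule `g M` -/
def cs (g : V ≃+ V) (hg : Nor R g) (M : Submodule R V) : Submodule R V where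
  carrier := {v | g.symm v ∈ M}
  zero_mem' := by
    show g.symm 0 ∈ M
    rw [map_zero]; exact M.zero_mem
  add_mem' := by
    intro u v hu hv
    show g.symm (u + v) ∈ M
    rw [map_add]; exact M.add_mem hu hv
  smul_mem' := by
    intro r v hv
    show g.symm (r • v) ∈ M
    obtain ⟨r', hr'⟩ := hg.1 r
    have h1 : g.symm (r • v) = r' • g.symm v := by
      rw [g.symm_apply_eq, ← hr', g.apply_symm_apply]
    rw [h1]
    exact M.smul_mem _ hv

theorem mem_cs {g : V ≃+ V} {hg : Nor R g} {M : Submodule R V} {v : V} :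
    v ∈ cs g hg M ↔ g.symm v ∈ M := Iff.rfl

theorem apply_mem_cs {g : V ≃+ V} {hg : Nor R g} {M : Submodule R V} {v : V} :
    g v ∈ cs g hg M ↔ v ∈ M := by rw [mem_cs, g.symm_apply_apply]

theorem cs_mono {g : V ≃+ V} (hg : Nor R g) {M M' : Submodule R V} (h : M ≤ M') :
    cs g hg M ≤ cs g hg M' := fun _ hv => h hv

theorem cs_symm_cs {g : V ≃+ V} (hg : Nor R g) (M : Submodule R V) :
    cs g.symm hg.symm (cs g hg M) = M := by
  ext v
  rw [mem_cs, mem_cs]
  show g.symm (g v) ∈ M ↔ _
  rw [g.symm_apply_apply]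

theorem cs_cs_symm {g : V ≃+ V} (hg : Nor R g) (M : Submodule R V) :
    cs g hg (cs g.symm hg.symm M) = M := by
  ext v
  rw [mem_cs, mem_cs]
  show g (g.symm v) ∈ M ↔ _
  rw [g.apply_symm_apply]

/-- conjugation as an order isomorphism -/
def csIso (g : V ≃+ V) (hg : Nor R g) : Submodule R V ≃o Submodule R V where
  toFun := cs g hg
  invFun := cs g.symm hg.symm
  left_inv := cs_symm_cs hg
  right_inv := cs_cs_symm hg
  map_rel_iff' := by
    intro M M'
    constructor
    · intro h
      have := cs_mono hg.symm h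
      change cs g.symm hg.symm (cs g hg M) ≤ cs g.symm hg.symm (cs g hg M') at this
      rwa [cs_symm_cs, cs_symm_cs] at this
    · exact cs_mono hg

theorem cs_simple {g : V ≃+ V} (hg : Nor R g) {M : Submodule R V} (hM : IsSimpleModule R M) :
    IsSimpleModule R (cs g hg M) := by
  rw [isSimpleModule_iff_isAtom] at hM ⊢
  exact (OrderIso.isAtom_iff (csIso g hg) M).2 hM

theorem cs_ne_bot {g : V ≃+ V} (hg : Nor R g) {M : Submodule R V} (hM : M ≠ ⊥) :
    cs g hg M ≠ ⊥ := by
  intro h
  apply hM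
  rw [eq_bot_iff]
  intro v hv
  rw [← apply_mem_cs (g := g) (hg := hg), h, Submodule.mem_bot] at hv
  rw [Submodule.mem_bot]
  exact (AddEquiv.map_eq_zero_iff g).1 hv

/-- transport of an isomorphism -/
def ctEquiv (g : V ≃+ V) (hg : Nor R g) {M M' : Submodule R V} (φ : M ≃ₗ[R] M') :
    cs g hg M ≃ₗ[R] cs g hg M' where
  toFun v := ⟨g (φ ⟨g.symm v, v.2⟩), apply_mem_cs.2 (φ _).2⟩
  invFun v := ⟨g (φ.symm ⟨g.symm v, v.2⟩), apply_mem_cs.2 (φ.symm _).2⟩
  left_inv := by
    intro v
    apply Subtype.ext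
    show g (φ.symm ⟨g.symm (g (φ ⟨g.symm v, v.2⟩ : M')), _⟩ : M) = v
    have h1 : (⟨g.symm (g (φ ⟨g.symm v, v.2⟩ : M')), by
        rw [g.symm_apply_apply]; exact (φ _).2⟩ : M') = φ ⟨g.symm v, v.2⟩ :=
      Subtype.ext (g.symm_apply_apply _)
    rw [h1, φ.symm_apply_apply]
    exact g.apply_symm_apply _
  right_inv := by
    intro v
    apply Subtype.ext
    show g (φ ⟨g.symm (g (φ.symm ⟨g.symm v, v.2⟩ : M)), _⟩ : M') = v
    have h1 : (⟨g.symm (g (φ.symm ⟨g.symm v, v.2⟩ : M)), by
        rw [g.symm_apply_apply]; exact (φ.symm _).2⟩ : M) = φ.symm ⟨g.symm v, v.2⟩ :=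
      Subtype.ext (g.symm_apply_apply _)
    rw [h1, φ.apply_symm_apply]
    exact g.apply_symm_apply _
  map_add' := by
    intro u v
    apply Subtype.ext
    show g (φ ⟨g.symm (u + v : V), _⟩ : M') = g (φ ⟨g.symm u, u.2⟩ : M') + g (φ ⟨g.symm v, v.2⟩ : M')
    have h1 : (⟨g.symm (u + v : V), by rw [map_add]; exact M.add_mem u.2 v.2⟩ : M) =
        ⟨g.symm u, u.2⟩ + ⟨g.symm v, v.2⟩ := Subtype.ext (map_add _ _ _)
    rw [h1, map_add, Submodule.coe_add, map_add]
  map_smul' := by
    intro r v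
    obtain ⟨r', hr'⟩ := hg.1 r
    apply Subtype.ext
    show g (φ ⟨g.symm (r • (v : V)), _⟩ : M') = r • (g (φ ⟨g.symm v, v.2⟩ : M'))
    have h1 : (⟨g.symm (r • (v : V)), (cs g hg M).smul_mem r v.2⟩ : M) = r' • ⟨g.symm v, v.2⟩ := by
      apply Subtype.ext
      show g.symm (r • (v : V)) = r' • g.symm v
      rw [g.symm_apply_eq, ← hr', g.apply_symm_apply]
    rw [h1, map_smul, Submodule.coe_smul, hr']

@[simp] theorem ctEquiv_apply (g : V ≃+ V) (hg : Nor R g) {M M' : Submodule R V}
    (φ : M ≃ₗ[R] M') (v : cs g hg M) : (ctEquiv g hg φ v : V) = g (φ ⟨g.symm v, v.2⟩) := rfl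

/-! ### the number of simple submodules of an isotypic module is odd -/

theorem hom_add_self {M : Submodule R V} (f : M →ₗ[R] V) (h2 : ∀ v : V, v + v = 0) : f + f = 0 := by
  ext m
  rw [LinearMap.add_apply, h2]; rfl

theorem even_card_of_add_self {A : Type*} [AddCommGroup A] [Finite A] (h2 : ∀ a : A, a + a = 0)
    (hne : ∃ a : A, a ≠ 0) : Even (Nat.card A) := by
  obtain ⟨a, ha⟩ := hne
  have h1 : addOrderOf a = 2 := by
    have : Fact (Nat.Prime 2) := ⟨Nat.prime_two⟩
    apply addOrderOf_eq_prime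
    · rw [two_nsmul]; exact h2 a
    · exact ha
  rw [even_iff_two_dvd, ← h1]
  exact addOrderOf_dvd_natCard _

section odd

/-- the simple submodules inside `V₁` -/
abbrev Sim (V₁ : Submodule R V) : Type _ := {M : Submodule R V // IsSimpleModule R M ∧ M ≤ V₁}

/-- nonzero homomorphisms `M₀ → V₁` -/
abbrev Emb (M₀ V₁ : Submodule R V) : Type _ := {f : M₀ →ₗ[R] V // f ≠ 0 ∧ LinearMap.range f ≤ V₁}

instance finite_hom [Finite V] (M₀ : Submodule R V) : Finite (M₀ →ₗ[R] V) :=
  Finite.of_injective (fun f => (f : M₀ → V)) DFunLike.coe_injective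

instance finite_aut [Finite V] (M₀ M : Submodule R V) : Finite (M₀ ≃ₗ[R] M) :=
  Finite.of_injective (fun f => (f : M₀ → M)) DFunLike.coe_injective

instance finite_sub [Finite V] : Finite (Submodule R V) :=
  Finite.of_injective (fun M => (M : Set V)) SetLike.coe_injective

theorem inj_of_ne_zero {M₀ : Submodule R V} (hM₀ : IsSimpleModule R M₀) {f : M₀ →ₗ[R] V} (hf : f ≠ 0) :
    Function.Injective f := by
  rcases f.injective_or_eq_zero with h | h
  · exact h
  · exact absurd h hf

theorem range_simple {M₀ : Submodule R V} (hM₀ : IsSimpleModule R M₀) {f : M₀ →ₗ[R] V} (hf : f ≠ 0) :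
    IsSimpleModule R (LinearMap.range f) :=
  IsSimpleModule.congr (LinearEquiv.ofInjective f (inj_of_ne_zero hM₀ hf)).symm

/-- `|Emb|` is odd -/
theorem odd_emb [Finite V] (h2 : ∀ v : V, v + v = 0) {M₀ V₁ : Submodule R V}
    (hM₀ : IsSimpleModule R M₀) (hle : M₀ ≤ V₁) :
    Odd (Nat.card (Emb M₀ V₁)) := by
  classical
  let A : AddSubgroup (M₀ →ₗ[R] V) :=
    { carrier := {f | LinearMap.range f ≤ V₁}
      zero_mem' := by
        show LinearMap.range (0 : M₀ →ₗ[R] V) ≤ V₁
        rw [LinearMap.range_zero]; exact bot_le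
      add_mem' := by
        rintro f g hf hg _ ⟨m, rfl⟩
        exact V₁.add_mem (hf ⟨m, rfl⟩) (hg ⟨m, rfl⟩)
      neg_mem' := by
        rintro f hf _ ⟨m, rfl⟩
        exact V₁.neg_mem (hf ⟨m, rfl⟩) }
  have hA : Even (Nat.card A) := by
    apply even_card_of_add_self
    · intro a
      exact Subtype.ext (hom_add_self a.1 h2)
    · refine ⟨⟨M₀.subtype, ?_⟩, ?_⟩
      · show LinearMap.range M₀.subtype ≤ V₁
        rw [Submodule.range_subtype]; exact hle
      · intro h
        have h1 : M₀.subtype = 0 := congrArg Subtype.val h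
        have : Nontrivial M₀ := IsSimpleModule.nontrivial R M₀
        obtain ⟨m, hm⟩ := exists_ne (0 : M₀)
        apply hm
        apply Subtype.ext
        exact LinearMap.congr_fun h1 m
  have h1 : Nat.card (Emb M₀ V₁) + 1 = Nat.card A := by
    have e : Option (Emb M₀ V₁) ≃ A :=
      { toFun := fun o => match o with
          | none => 0
          | some f => ⟨f.1, f.2.2⟩
        invFun := fun f => if h : f.1 = 0 then none else some ⟨f.1, h, f.2⟩
        left_inv := by
          rintro (_ | ⟨f, hf, hf'⟩)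
          · exact dif_pos rfl
          · exact dif_neg hf
        right_inv := by
          rintro ⟨f, hf⟩
          by_cases h : f = 0
          · subst h
            simp only [dite_true]
            rfl
          · simp only [h, dite_false] }
    rw [← Nat.card_congr e, Finite.card_option]
  rw [← h1] at hA
  rcases Nat.even_or_odd (Nat.card (Emb M₀ V₁)) with h | h
  · exact absurd hA (by rw [Nat.even_add_one]; simpa using h)
  · exact h

/-- the isomorphism onto the range -/
noncomputable def toRange {M₀ : Submodule R V} (hM₀ : IsSimpleModule R M₀) {f : M₀ →ₗ[R] V} (hf : f ≠ 0)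
    {M : Submodule R V} (h : LinearMap.range f = M) : M₀ ≃ₗ[R] M :=
  (LinearEquiv.ofInjective f (inj_of_ne_zero hM₀ hf)).trans (LinearEquiv.ofEq _ _ h)

theorem toRange_apply {M₀ : Submodule R V} (hM₀ : IsSimpleModule R M₀) {f : M₀ →ₗ[R] V} (hf : f ≠ 0)
    {M : Submodule R V} (h : LinearMap.range f = M) (m : M₀) : (toRange hM₀ hf h m : V) = f m := rfl

/-- fibres of `Emb → Sim` -/
noncomputable def fibEquiv {M₀ V₁ : Submodule R V} (hM₀ : IsSimpleModule R M₀) (M : Sim V₁) (φ : M₀ ≃ₗ[R] M.1) :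
    (M₀ ≃ₗ[R] M₀) ≃ {f : Emb M₀ V₁ // LinearMap.range f.1 = M.1} where
  toFun α := ⟨⟨M.1.subtype ∘ₗ ((α.trans φ : M₀ ≃ₗ[R] M.1) : M₀ →ₗ[R] M.1), by
      constructor
      · intro h
        have : Nontrivial M.1 := by
          have := M.2.1
          exact IsSimpleModule.nontrivial R M.1
        obtain ⟨m, hm⟩ := exists_ne (0 : M.1)
        apply hm
        apply Subtype.ext
        have h1 := LinearMap.congr_fun h ((α.trans φ).symm m)
        rw [LinearMap.comp_apply, LinearEquiv.coe_coe, LinearEquiv.apply_symm_apply] at h1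
        exact h1
      · rintro _ ⟨m, rfl⟩
        exact M.2.2 ((α.trans φ) m).2⟩, by
      show LinearMap.range (M.1.subtype ∘ₗ ((α.trans φ : M₀ ≃ₗ[R] M.1) : M₀ →ₗ[R] M.1)) = M.1
      rw [LinearMap.range_comp, LinearEquiv.range, Submodule.map_top, Submodule.range_subtype]⟩
  invFun f := (toRange hM₀ f.1.2.1 f.2).trans φ.symm
  left_inv := by
    intro α
    ext m
    have h1 : ∀ (f : Emb M₀ V₁) (hf : LinearMap.range f.1 = M.1) (m : M₀),
        f.1 m = (φ (α m) : V) → (toRange hM₀ f.2.1 hf) m = φ (α m) := by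
      intro f hf m h
      exact Subtype.ext h
    show (((toRange hM₀ _ _).trans φ.symm) m : V) = (α m : V)
    rw [LinearEquiv.trans_apply, h1 ⟨_, _⟩ _ m rfl, φ.symm_apply_apply]
  right_inv := by
    rintro ⟨⟨f, hf⟩, hf'⟩
    apply Subtype.ext
    apply Subtype.ext
    ext m
    show (φ (((toRange hM₀ hf.1 hf').trans φ.symm) m) : V) = f m
    rw [LinearEquiv.trans_apply, φ.apply_symm_apply]
    rfl

/-- **The number of simple submodules of an isotypic module is odd, and so is the number of automorphisms.** -/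
theorem odd_sim [Finite V] (h2 : ∀ v : V, v + v = 0) {M₀ V₁ : Submodule R V}
    (hM₀ : IsSimpleModule R M₀) (hle : M₀ ≤ V₁)
    (hiso : ∀ M : Sim V₁, Nonempty (M₀ ≃ₗ[R] M.1)) :
    Odd (Nat.card (Sim V₁)) ∧ Odd (Nat.card (M₀ ≃ₗ[R] M₀)) := by
  classical
  have h1 := odd_emb h2 hM₀ hle
  let F : Emb M₀ V₁ → Sim V₁ := fun f => ⟨LinearMap.range f.1, range_simple hM₀ f.2.1, f.2.2⟩
  have h3 : Nat.card (Emb M₀ V₁) = Nat.card (Sim V₁) * Nat.card (M₀ ≃ₗ[R] M₀) := by
    have e1 : Nat.card (Emb M₀ V₁) = Nat.card (Σ M, {f : Emb M₀ V₁ // F f = M}) :=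
      Nat.card_congr (Equiv.sigmaFiberEquiv F).symm
    have := Fintype.ofFinite (Sim V₁)
    rw [e1, Nat.card_sigma]
    have h4 : ∀ M : Sim V₁, Nat.card {f : Emb M₀ V₁ // F f = M} = Nat.card (M₀ ≃ₗ[R] M₀) := by
      intro M
      obtain ⟨φ⟩ := hiso M
      rw [Nat.card_congr (fibEquiv hM₀ M φ)]
      apply Nat.card_congr
      apply Equiv.subtypeEquivRight
      intro f
      constructor
      · intro h
        exact congrArg Subtype.val h
      · intro h
        exact Subtype.ext h
    rw [Finset.sum_congr rfl fun M _ => h4 M, Finset.sum_const, Finset.card_univ, smul_eq_mul,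
      Nat.card_eq_fintype_card (α := Sim V₁)]
  rw [h3, Nat.odd_mul] at h1
  exact h1

end odd

end Cfsg.Agent.Omega.EH3.Clif
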