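import Cfsg.Agent.Omega.EH3.Clif.Frame
import Cfsg.Agent.Omega.EH3.Clif.Comp
import Cfsg.Agent.Omega.EH3.Clif.Gam
import Cfsg.Agent.Omega.EH3.Clif.CentOne
import Cfsg.Agent.Omega.EH3.NFive
import Cfsg.Agent.Omega.EH3.Cons

/-!
# Clifford step of EH3: kernels on simple submodules (helper291)
-/

set_option autoImplicit false

namespace Cfsg.Agent.Omega.EH3.Clif

open Module Subgroup

variable {H V : Type*} [Group H] [AddCommGroup V] [Module (ZMod 2) V]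
  {ρ : H →* (V ≃ₗ[ZMod 2] V)} {b : LinearMap.BilinForm (ZMod 2) V} {q : V → ZMod 2}
  {a : V} {D : Submodule (ZMod 2) V} {X : Subgroup H} {w : ℕ}

/-- `[n, x]` written as in the proof -/
abbrev cm (n x : H) : H := n * (x * n⁻¹ * x⁻¹)

theorem cm_mem {M : Subgroup H} {n x : H} (hn : n ∈ M) (hx : ∀ m ∈ M, x * m * x⁻¹ ∈ M) : cm n x ∈ M :=
  M.mul_mem hn (hx _ (M.inv_mem hn))

theorem conj_cm {g n x : H} (h : g * x = x * g) : g * cm n x * g⁻¹ = cm (g * n * g⁻¹) x := by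
  have h1 : g * x * g⁻¹ = x := by rw [h, mul_inv_cancel_right]
  have h2 : g * x⁻¹ * g⁻¹ = x⁻¹ := by
    have : g * x⁻¹ * g⁻¹ = (g * x * g⁻¹)⁻¹ := by group
    rw [this, h1]
  calc g * (n * (x * n⁻¹ * x⁻¹)) * g⁻¹ = (g * n * g⁻¹) * ((g * x * g⁻¹) * (g * n * g⁻¹)⁻¹ * (g * x⁻¹ * g⁻¹)) := by group
    _ = _ := by rw [h1, h2]

theorem comm_of_cm {n x : H} (h : cm n x = 1) : x * n = n * x := by
  have h1 : x * n⁻¹ * x⁻¹ = n⁻¹ := by
    have : n * (x * n⁻¹ * x⁻¹) = 1 := h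
    exact eq_inv_of_mul_eq_one_right this
  have h2 : x * n⁻¹ = n⁻¹ * x := by
    calc x * n⁻¹ = x * n⁻¹ * x⁻¹ * x := by group
      _ = n⁻¹ * x := by rw [h1]
  calc x * n = n * (n⁻¹ * x) * n := by group
    _ = n * (x * n⁻¹) * n := by rw [h2]
    _ = n * x := by group

/-- **an element trivial on a simple submodule centralises on the component** -/
theorem triv_c {C : Cfg ρ b q a D X w} {N₁ N₂ N : Subgroup H} (hN : N = N₁ ⊔ N₂)
    (hcomm : ∀ x ∈ N₁, ∀ y ∈ N₂, x * y = y * x) {c U : Submodule (S ρ N) V} {B : Subgroup H} {e : V} {k : ℕ}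
    (F : Frame C N c U B e k) {x : H} (hxN : ∀ m ∈ N₁, x * m * x⁻¹ ∈ N₁)
    {M : Submodule (sub (ρ := ρ) N N₁) U} (hM : IsSimpleModule (sub (ρ := ρ) N N₁) M)
    (ht : ∀ m ∈ M, ρ x (m : V) = m) : ∀ n ∈ N₁, ∀ v ∈ c, ρ (cm n x) v = v := by
  subst hN
  have hsup := sub_sup (ρ := ρ) (N₁ := N₁) (N₂ := N₂)
  have hc : ∀ s ∈ sub (ρ := ρ) (N₁ ⊔ N₂) N₁, ∀ t ∈ sub (ρ := ρ) (N₁ ⊔ N₂) N₂, s * t = t * s :=
    fun s hs t ht => Subtype.ext (S_comm hcomm (s : AddMonoid.End V) hs (t : AddMonoid.End V) ht)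
  have htop := iso_top F.simp hc hsup hM
  intro n hn v hv
  have hn' : cm n x ∈ N₁ := cm_mem hn hxN
  have hn'' : cm n x ∈ N₁ ⊔ N₂ := mem_sup_left hn'
  let r : sub (ρ := ρ) (N₁ ⊔ N₂) N₁ := ⟨el ρ hn'', mem_sub.2 (mem_S ρ hn')⟩ - 1
  have hr : ∀ v : V, ((r : S ρ (N₁ ⊔ N₂)) • v) = ρ (cm n x) v - v := fun v => rfl
  have hinvx : ∀ m ∈ M, ρ x⁻¹ (m : V) = m := by
    intro m hm
    have h1 : ρ x⁻¹ (ρ x (m : V)) = m := C.ρ_inv_apply x _
    rwa [ht m hm] at h1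
  have hkill : ∀ m ∈ M, r • m = 0 := by
    intro m hm
    apply Subtype.ext
    show ((r : S ρ (N₁ ⊔ N₂)) • (m : V)) = 0
    rw [hr, sub_eq_zero]
    have hnm : n⁻¹ ∈ N₁ := N₁.inv_mem hn
    let s : sub (ρ := ρ) (N₁ ⊔ N₂) N₁ := ⟨el ρ (mem_sup_left hnm), mem_sub.2 (mem_S ρ hnm)⟩
    have h1 : s • m ∈ M := M.smul_mem s hm
    have h2 : ((s • m : U) : V) = ρ n⁻¹ m := rfl
    have h3 := ht _ h1
    rw [h2] at h3
    show ρ (n * (x * n⁻¹ * x⁻¹)) (m : V) = m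
    rw [C.ρ_mul, C.ρ_mul, C.ρ_mul, hinvx m hm, h3, C.ρ_apply_inv]
  have hall : ∀ u : U, r • u = 0 := fun u => kill_comp hkill u (by rw [htop]; exact Submodule.mem_top)
  have h5 := F.kill (r : S ρ (N₁ ⊔ N₂)) (fun u hu => congrArg Subtype.val (hall ⟨u, hu⟩)) v hv
  rw [hr] at h5
  exact sub_eq_zero.1 h5

theorem cm_mul {m n x : H} (h : m * cm n x = cm n x * m) (h' : cm n x * cm m x = cm m x * cm n x) :
    cm (m * n) x = cm m x * cm n x := by
  have h1 : cm (m * n) x = (m * cm n x) * (x * m⁻¹ * x⁻¹) := by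
    simp only [cm, mul_inv_rev, mul_assoc, inv_mul_cancel_left]
  rw [h1, h, ← h']
  simp only [cm, mul_assoc]

theorem comm_top {N : Subgroup H} (hp : ⁅N, N⁆ = N) : commutator N = ⊤ := by
  apply map_injective N.subtype_injective
  rw [map_subtype_commutator, hp, ← MonoidHom.range_eq_map, N.range_subtype]

theorem perf_fun {N : Type*} [Group N] (hp : commutator N = ⊤) (g : N → N) (hc : ∀ n, g n ∈ center N)
    (h1 : g 1 = 1) (hm : ∀ m n, g (m * n) = g m * g n) (n : N) : g n = 1 := by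
  let f : N →* N := { toFun := g, map_one' := h1, map_mul' := hm }
  have h2 : commutator N ≤ f.ker := by
    rw [commutator_def, commutator_le]
    intro m _ n _
    rw [MonoidHom.mem_ker, map_commutatorElement, commutatorElement_eq_one_iff_mul_comm]
    exact mem_center_iff.1 (hc n) _
  rw [hp] at h2
  exact h2 (mem_top n)

/-- `x` centralises a perfect group if `[n, x]` is central -/
theorem cent_of_central {N : Subgroup H} (hp : ⁅N, N⁆ = N) {x : H} (hx : ∀ m ∈ N, x * m * x⁻¹ ∈ N)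
    (h : ∀ n ∈ N, cm n x ∈ centralizer (N : Set H)) : x ∈ centralizer (N : Set H) := by
  rw [mem_centralizer_iff]
  intro n hn
  have key := perf_fun (comm_top hp) (fun n : N => (⟨cm (n : H) x, cm_mem n.2 hx⟩ : N))
    (by
      intro n
      rw [mem_center_iff]
      intro m
      exact Subtype.ext (mem_centralizer_iff.1 (h n n.2) m m.2))
    (Subtype.ext (by simp [cm]))
    (by
      intro m n
      exact Subtype.ext (cm_mul (mem_centralizer_iff.1 (h n n.2) m m.2)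
        (mem_centralizer_iff.1 (h m m.2) (cm (n : H) x) (cm_mem n.2 hx))))
    ⟨n, hn⟩
  exact (comm_of_cm (congrArg Subtype.val key)).symm

end Cfsg.Agent.Omega.EH3.Clif
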