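import Cfsg.Agent.Omega.EH3.Clif.IneqTwo

/-!
# Clifford step of EH3: homogeneous components under a `2`-group with fixed space `{0, a}` (helper291)

`V` a finite semisimple `R`-module, `X` an elementary abelian `2`-group normalising `R` with `C_V(X) = {0, a}`.
* `trans` : `X` is transitive on the homogeneous components;
* `fixc` : `C_c(B) = {0, e}`, `B` the stabiliser of the component `c`;
* `card_V`, `card_X`, `card_B` : the orders.
-/

set_option autoImplicit false

namespace Cfsg.Agent.Omega.EH3.Clif

open Module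

variable {V : Type*} [AddCommGroup V] {R : Type*} [Ring R] [Module R V]

theorem cs_comp_le (g : V ≃+ V) (hg : Nor R g) (S : Submodule R V) :
    cs g hg (isotypicComponent R V S) ≤ isotypicComponent R V (cs g hg S) := by
  have h1 : cs g hg (isotypicComponent R V S) = csIso g hg (sSup {m | Nonempty (m ≃ₗ[R] S)}) := rfl
  rw [h1, OrderIso.map_sSup]
  apply iSup₂_le
  rintro m ⟨φ⟩
  exact le_sSup ⟨ctEquiv g hg φ⟩

theorem cs_comp (g : V ≃+ V) (hg : Nor R g) (S : Submodule R V) :
    cs g hg (isotypicComponent R V S) = isotypicComponent R V (cs g hg S) := by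
  apply le_antisymm (cs_comp_le g hg S)
  have h1 := cs_mono hg (cs_comp_le g.symm hg.symm (cs g hg S))
  have h2 := cs_cs_symm hg (isotypicComponent R V (cs g hg S))
  rw [h2] at h1
  have h3 : cs g.symm hg.symm (cs g hg S) = S := cs_symm_cs hg S
  rw [h3] at h1
  exact h1

theorem cs_mem (g : V ≃+ V) (hg : Nor R g) {c : Submodule R V} (hc : c ∈ isotypicComponents R V) :
    cs g hg c ∈ isotypicComponents R V := by
  obtain ⟨S, hS, rfl⟩ := hc
  exact ⟨cs g hg S, cs_simple hg hS, cs_comp g hg S⟩

section sys

variable {X : Type*} [Group X]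

/-- `X` acts on the homogeneous components -/
@[instance_reducible] def actC (β : Act X V) (hN : ∀ x, Nor R (β x)) : MulAction X (isotypicComponents R V) where
  smul x c := ⟨cs (β x) (hN x) c, cs_mem _ _ c.2⟩
  one_smul := fun M => by
    apply Subtype.ext
    show cs (β 1) (hN 1) M.1 = M.1
    ext v
    rw [mem_cs, β.symm_apply, inv_one, β.one]
  mul_smul := fun b c M => by
    apply Subtype.ext
    show cs (β (b * c)) (hN (b * c)) M.1 = cs (β b) (hN b) (cs (β c) (hN c) M.1)
    ext v
    rw [mem_cs, mem_cs, mem_cs, β.symm_apply, β.symm_apply, β.symm_apply, mul_inv_rev, β.mul]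

variable [Finite V] [IsSemisimpleModule R V]

omit [Finite V] [IsSemisimpleModule R V] in
theorem indep : iSupIndep (fun c : isotypicComponents R V => (c : Submodule R V)) := by
  rw [← sSupIndep_iff]
  exact sSupIndep_isotypicComponents R V

omit [Finite V] in
theorem iSup_top : (⨆ c : isotypicComponents R V, (c : Submodule R V)) = ⊤ := by
  rw [← sSup_eq_iSup', sSup_isotypicComponents]

variable (h2 : ∀ v : V, v + v = 0) (hX : ∀ x : X, x * x = 1)
  (β : Act X V) (hN : ∀ x, Nor R (β x)) {a : V} (ha : a ≠ 0)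
  (hfix : ∀ v, (∀ x, β x v = v) → v = 0 ∨ v = a)

include h2 hX hfix in
/-- an `X`-invariant subgroup `≠ 0` contains `a` -/
theorem mem_a (W : AddSubgroup V) (hinv : ∀ x, ∀ v ∈ W, β x v ∈ W) (hne : ∃ v ∈ W, v ≠ 0) : a ∈ W := by
  obtain ⟨v, hv, hv0, hvf⟩ := exists_fix h2 (isPGroup_two hX) β W hinv hne
  rcases hfix v hvf with h | h
  · exact absurd h hv0
  · rw [← h]; exact hv

omit [IsSemisimpleModule R V] in
include h2 hX hfix ha in
/-- **transitivity** -/
theorem trans (c c' : isotypicComponents R V) :
    ∃ x, cs (β x) (hN x) (c : Submodule R V) = (c' : Submodule R V) := by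
  classical
  by_contra hcon
  push Not at hcon
  let O : Set (isotypicComponents R V) := {d | ∃ x, cs (β x) (hN x) (c : Submodule R V) = (d : Submodule R V)}
  have hc'O : c' ∉ O := by
    rintro ⟨x, hx⟩
    exact hcon x hx
  have hcO : c ∈ O := by
    refine ⟨1, ?_⟩
    ext v
    rw [mem_cs, β.symm_apply, inv_one, β.one]
  have : Finite (isotypicComponents R V) := Subtype.finite
  have hdis := (indep (R := R) (V := V)).disjoint_biSup_biSup' (s := O) (t := Oᶜ) disjoint_compl_right
    (Set.toFinite _)
  have hcs : ∀ (x y : X) (d : Submodule R V), cs (β x) (hN x) (cs (β y) (hN y) d) =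
      cs (β (x * y)) (hN (x * y)) d := by
    intro x y d
    ext v
    rw [mem_cs, mem_cs, mem_cs, β.symm_apply, β.symm_apply, β.symm_apply, mul_inv_rev, β.mul]
  have hO : ∀ (x : X) (d : isotypicComponents R V), d ∈ O →
      (⟨cs (β x) (hN x) d, cs_mem _ _ d.2⟩ : isotypicComponents R V) ∈ O := by
    rintro x d ⟨y, hy⟩
    refine ⟨x * y, ?_⟩
    rw [← hcs, hy]
  have hO' : ∀ (x : X) (d : isotypicComponents R V), d ∉ O →
      (⟨cs (β x) (hN x) d, cs_mem _ _ d.2⟩ : isotypicComponents R V) ∉ O := by
    rintro x d hd hcon'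
    apply hd
    have h1 := hO x⁻¹ _ hcon'
    have h3 : (⟨cs (β x⁻¹) (hN x⁻¹) (cs (β x) (hN x) d), cs_mem _ _ (cs_mem _ _ d.2)⟩ :
        isotypicComponents R V) = d := by
      apply Subtype.ext
      show cs (β x⁻¹) (hN x⁻¹) (cs (β x) (hN x) (d : Submodule R V)) = d
      rw [hcs, ]
      ext v
      rw [mem_cs, β.symm_apply, inv_mul_cancel, inv_one, β.one]
    have h4 : (⟨cs (β x⁻¹) (hN x⁻¹) (cs (β x) (hN x) d), cs_mem _ _ (cs_mem _ _ d.2)⟩ :
        isotypicComponents R V) ∈ O := h1
    rwa [h3] at h4
  have key : ∀ (Q : Set (isotypicComponents R V)), Q.Nonempty →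
      (∀ (x : X) (d : isotypicComponents R V), d ∈ Q →
        (⟨cs (β x) (hN x) d, cs_mem _ _ d.2⟩ : isotypicComponents R V) ∈ Q) →
      a ∈ (⨆ i ∈ Q, (i : Submodule R V)) := by
    intro Q hQ hinv
    refine mem_a h2 hX β hfix (⨆ i ∈ Q, (i : Submodule R V)).toAddSubgroup ?_ ?_
    · intro x v hv
      have h1 : csIso (β x) (hN x) (⨆ i ∈ Q, (i : Submodule R V)) ≤ ⨆ i ∈ Q, (i : Submodule R V) := by
        rw [OrderIso.map_iSup]
        apply iSup_le
        intro i
        rw [OrderIso.map_iSup]
        apply iSup_le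
        intro hi
        exact le_iSup₂_of_le (⟨cs (β x) (hN x) i, cs_mem _ _ i.2⟩ : isotypicComponents R V) (hinv x i hi) le_rfl
      exact h1 ((apply_mem_cs (hg := hN x)).2 hv)
    · obtain ⟨d, hd⟩ := hQ
      obtain ⟨v, hv, hv0⟩ := Submodule.exists_mem_ne_zero_of_ne_bot (bot_lt_isotypicComponents d.2).ne'
      exact ⟨v, (le_iSup₂_of_le (f := fun (i : isotypicComponents R V) (_ : i ∈ Q) => (i : Submodule R V))
        d hd le_rfl) hv, hv0⟩
  have h3 := key O ⟨c, hcO⟩ hO
  have h4 := key Oᶜ ⟨c', hc'O⟩ hO'
  exact ha ((Submodule.disjoint_def.1 hdis) a h3 h4)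

/-- the stabiliser of a submodule -/
def stab (hX : ∀ x : X, x * x = 1) (c : Submodule R V) : Subgroup X where
  carrier := {x | ∀ v ∈ c, β x v ∈ c}
  one_mem' := by
    intro v hv
    rw [β.one]; exact hv
  mul_mem' := by
    intro x y hx hy v hv
    rw [β.mul]; exact hx _ (hy v hv)
  inv_mem' := by
    intro x hx
    have : x⁻¹ = x := inv_eq_of_mul_eq_one_left (hX x)
    rw [this]; exact hx

omit [Finite V] [IsSemisimpleModule R V] in
theorem mem_stab {c : Submodule R V} {x : X} : x ∈ stab β hX c ↔ ∀ v ∈ c, β x v ∈ c := Iff.rfl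

omit [Finite V] [IsSemisimpleModule R V] in
include hX in
theorem symm_self (x : X) (v : V) : (β x).symm v = β x v := by
  rw [β.symm_apply, inv_eq_of_mul_eq_one_left (hX x)]

omit [Finite V] [IsSemisimpleModule R V] in
include hX in
theorem β_β (x : X) (v : V) : β x (β x v) = v := by rw [← β.mul, hX, β.one]

omit [Finite V] [IsSemisimpleModule R V] in
theorem mem_stab' {c : Submodule R V} {x : X} : x ∈ stab β hX c ↔ cs (β x) (hN x) c = c := by
  constructor
  · intro h
    ext v
    rw [mem_cs, symm_self hX β]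
    constructor
    · intro hv
      have h1 := h _ hv
      rwa [β_β hX β] at h1
    · exact h v
  · intro h v hv
    rw [← h]
    exact apply_mem_cs.2 hv

include h2 hX hfix ha hN in
/-- induction over the translates of a component -/
theorem induct (c : isotypicComponents R V) (P : V → Prop) (h0 : P 0)
    (hadd : ∀ u v, P u → P v → P (u + v)) (hx : ∀ x, ∀ v ∈ (c : Submodule R V), P (β x v)) : ∀ v, P v := by
  intro v
  have hv : v ∈ (⨆ d : isotypicComponents R V, (d : Submodule R V)) := by
    rw [iSup_top]; exact Submodule.mem_top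
  induction hv using Submodule.iSup_induction' with
  | mem i x hx' =>
    obtain ⟨y, hy⟩ := trans h2 hX β hN ha hfix c i
    rw [← hy, mem_cs] at hx'
    have h1 := hx y _ hx'
    rwa [AddEquiv.apply_symm_apply] at h1
  | zero => exact h0
  | add x y _ _ hx hy => exact hadd x y hx hy

include h2 hX hfix ha hN in
/-- faithfulness on a component -/
theorem faithful (c : isotypicComponents R V) {x : X}
    (hx : ∀ v ∈ (c : Submodule R V), β x v = v) : ∀ v, β x v = v := by
  apply induct h2 hX β hN ha hfix c
  · exact map_zero _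
  · intro u v hu hv
    rw [map_add, hu, hv]
  · intro y v hv
    rw [← β.mul, comm_of_sq hX x y, β.mul, hx v hv]

include h2 hX hfix ha hN in
/-- **`C_c(B) = {0, e}`** -/
theorem fixc [Finite X] (c : isotypicComponents R V) :
    ∃ e ∈ (c : Submodule R V), e ≠ 0 ∧ (∀ b ∈ stab β hX (c : Submodule R V), β b e = e) ∧
      ∀ v ∈ (c : Submodule R V), (∀ b ∈ stab β hX (c : Submodule R V), β b v = v) → v = 0 ∨ v = e := by
  classical
  set B := stab β hX (c : Submodule R V) with hB
  -- the sum over the cosets
  have hg : ∀ v, (∀ b ∈ B, β b v = v) → ∀ x y : X, (QuotientGroup.leftRel B) x y → β x v = β y v := by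
    intro v hv x y hxy
    rw [QuotientGroup.leftRel_apply] at hxy
    have h1 := hv _ hxy
    rw [β.mul] at h1
    calc β x v = β x (β x⁻¹ (β y v)) := by rw [h1]
      _ = β y v := β.apply_inv x _
  have : Fintype (X ⧸ B) := Fintype.ofFinite _
  let g : ∀ v, (∀ b ∈ B, β b v = v) → (X ⧸ B) → V := fun v hv q => Quotient.liftOn' q (fun x => β x v) (hg v hv)
  have hgx : ∀ v hv (x : X) (q : X ⧸ B), β x (g v hv q) = g v hv (x • q) := by
    intro v hv x q
    induction q using QuotientGroup.induction_on with
    | H y => exact (β.mul x y v).symm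
  have hFfix : ∀ v hv (x : X), β x (∑ q, g v hv q) = ∑ q, g v hv q := by
    intro v hv x
    rw [map_sum]
    rw [Finset.sum_congr rfl fun q _ => hgx v hv x q]
    exact Equiv.sum_comp (MulAction.toPerm x) (g v hv)
  have hdis : Disjoint (c : Submodule R V) (⨆ (d : isotypicComponents R V) (_ : d ≠ c), (d : Submodule R V)) :=
    (indep (R := R) (V := V)) c
  have hF0 : ∀ v hv, v ∈ (c : Submodule R V) → ∑ q, g v hv q = 0 → v = 0 := by
    intro v hv hvc h0
    have h1 : ∑ q, g v hv q = g v hv ((1 : X) : X ⧸ B) + ∑ q ∈ Finset.univ.erase ((1 : X) : X ⧸ B), g v hv q := by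
      rw [Finset.add_sum_erase _ _ (Finset.mem_univ _)]
    have h3 : g v hv ((1 : X) : X ⧸ B) = v := β.one v
    rw [h1, h3] at h0
    have h4 : ∑ q ∈ Finset.univ.erase ((1 : X) : X ⧸ B), g v hv q ∈
        (⨆ (d : isotypicComponents R V) (_ : d ≠ c), (d : Submodule R V)) := by
      apply Submodule.sum_mem
      intro q hq
      rw [Finset.mem_erase] at hq
      induction q using QuotientGroup.induction_on with
      | H y =>
        have hy : y ∉ B := by
          intro hyB
          apply hq.1
          rw [QuotientGroup.eq, mul_one]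
          exact B.inv_mem hyB
        have h5 : (⟨cs (β y) (hN y) c, cs_mem _ _ c.2⟩ : isotypicComponents R V) ≠ c := by
          intro h6
          apply hy
          rw [hB, mem_stab' hX β hN]
          exact congrArg Subtype.val h6
        exact (le_iSup₂_of_le (f := fun (d : isotypicComponents R V) (_ : d ≠ c) => (d : Submodule R V))
          _ h5 le_rfl) ((apply_mem_cs (hg := hN y)).2 hvc)
    have h5 : v = -∑ q ∈ Finset.univ.erase ((1 : X) : X ⧸ B), g v hv q := eq_neg_of_add_eq_zero_left h0
    have h6 : v ∈ (⨆ (d : isotypicComponents R V) (_ : d ≠ c), (d : Submodule R V)) := by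
      rw [h5]; exact Submodule.neg_mem _ h4
    exact (Submodule.disjoint_def.1 hdis) v hvc h6
  have hF1 : ∀ v hv, v ∈ (c : Submodule R V) → v ≠ 0 → ∑ q, g v hv q = a := by
    intro v hv hvc hv0
    rcases hfix _ (hFfix v hv) with h | h
    · exact absurd (hF0 v hv hvc h) hv0
    · exact h
  -- existence
  have hBp : IsPGroup 2 B := isPGroup_two fun b => Subtype.ext (hX b)
  obtain ⟨u, hu, hu0⟩ := Submodule.exists_mem_ne_zero_of_ne_bot (bot_lt_isotypicComponents c.2).ne'
  obtain ⟨e, hec, he0, he⟩ := exists_fix h2 hBp (β.comp B.subtype) (c : Submodule R V).toAddSubgroup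
    (fun b v hv => b.2 v hv) ⟨u, hu, hu0⟩
  have he' : ∀ b ∈ B, β b e = e := fun b hb => he ⟨b, hb⟩
  refine ⟨e, hec, he0, he', ?_⟩
  intro v hvc hv
  by_cases hv0 : v = 0
  · exact Or.inl hv0
  right
  have hve : ∀ b ∈ B, β b (v + e) = v + e := fun b hb => by rw [map_add, hv b hb, he' b hb]
  have h7 : ∑ q, g (v + e) hve q = 0 := by
    have h8 : ∀ q, g (v + e) hve q = g v hv q + g e he' q := by
      intro q
      induction q using QuotientGroup.induction_on with
      | H y => exact map_add (β y) v e
    rw [Finset.sum_congr rfl fun q _ => h8 q, Finset.sum_add_distrib, hF1 v hv hvc hv0,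
      hF1 e he' hec he0, h2]
  have h9 := hF0 (v + e) hve (Submodule.add_mem _ hvc hec) h7
  have : v + e = e + e := by rw [h9, h2]
  exact add_right_cancel this

include h2 hX hfix ha hN in
/-- **the orders** -/
theorem card_V (c : isotypicComponents R V) :
    Nat.card V = Nat.card (c : Submodule R V) ^ Nat.card (isotypicComponents R V) := by
  classical
  have : Finite (isotypicComponents R V) := Subtype.finite
  have := Fintype.ofFinite (isotypicComponents R V)
  have hint := DirectSum.isInternal_submodule_of_iSupIndep_of_iSup_eq_top (indep (R := R) (V := V))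
    (iSup_top (R := R) (V := V))
  have e1 := Equiv.ofBijective _ hint
  rw [← Nat.card_congr e1, Nat.card_congr (DirectSum.addEquivProd
    (fun d : isotypicComponents R V => (d : Submodule R V))).toEquiv, Nat.card_pi]
  rw [Finset.prod_congr rfl (g := fun _ => Nat.card (c : Submodule R V)), Finset.prod_const,
    Finset.card_univ, Nat.card_eq_fintype_card (α := isotypicComponents R V)]
  intro d _
  obtain ⟨x, hx⟩ := trans h2 hX β hN ha hfix c d
  have key : ∀ v : V, v ∈ (d : Submodule R V) → (β x).symm v ∈ (c : Submodule R V) := by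
    intro v hv
    rw [← hx] at hv
    exact hv
  symm
  apply Nat.card_congr
  exact
    { toFun := fun v => ⟨β x v, by rw [← hx]; exact apply_mem_cs.2 v.2⟩
      invFun := fun v => ⟨(β x).symm v, key v v.2⟩
      left_inv := fun v => Subtype.ext (AddEquiv.symm_apply_apply _ _)
      right_inv := fun v => Subtype.ext (AddEquiv.apply_symm_apply _ _) }

include h2 hX hfix ha hN in
theorem card_X [Finite X] (c : isotypicComponents R V) :
    Nat.card X = Nat.card (isotypicComponents R V) * Nat.card (stab β hX (c : Submodule R V)) := by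
  classical
  let _ : MulAction X (isotypicComponents R V) := actC β hN
  have e1 := MulAction.orbitProdStabilizerEquivGroup X c
  have h1 : MulAction.orbit X c = Set.univ := by
    rw [Set.eq_univ_iff_forall]
    intro d
    obtain ⟨x, hx⟩ := trans h2 hX β hN ha hfix c d
    exact ⟨x, Subtype.ext hx⟩
  have h3 : MulAction.stabilizer X c = stab β hX (c : Submodule R V) := by
    ext x
    rw [MulAction.mem_stabilizer_iff, mem_stab' hX β hN]
    constructor
    · intro h
      exact congrArg Subtype.val h
    · intro h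
      exact Subtype.ext h
  rw [← Nat.card_congr e1, Nat.card_prod, h1, Nat.card_univ, h3]

include h2 hX hfix ha hN in
theorem card_B [Finite X] (hfaith : ∀ x, (∀ v, β x v = v) → x = 1) (c : isotypicComponents R V) :
    Nat.card (stab β hX (c : Submodule R V)) * 2 ≤ Nat.card (c : Submodule R V) := by
  obtain ⟨e, hec, he0, he, hfe⟩ := fixc h2 hX β hN ha hfix c
  set B := stab β hX (c : Submodule R V) with hB
  have hBB : ∀ b : B, b * b = 1 := fun b => Subtype.ext (hX b)
  have h1 := count_one (V := (c : Submodule R V)) (fun v => Subtype.ext (h2 v)) (isPGroup_two hBB)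
    (comm_of_sq hBB) (res (β.comp B.subtype) (c : Submodule R V) (fun b v hv => b.2 v hv))
    (e := ⟨e, hec⟩) (fun h => he0 (congrArg Subtype.val h)) (fun b => Subtype.ext (he b b.2)) (by
      intro v hv
      rcases hfe v v.2 (fun b hb => congrArg Subtype.val (hv ⟨b, hb⟩)) with h | h
      · exact Or.inl (Subtype.ext h)
      · exact Or.inr (Subtype.ext h))
  have h3 : Nat.card {b : B // ∀ v, res (β.comp B.subtype) (c : Submodule R V)
      (fun b v hv => b.2 v hv) b v = v} = 1 := by
    rw [Nat.card_eq_one_iff_unique]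
    constructor
    · constructor
      rintro ⟨b, hb⟩ ⟨b', hb'⟩
      have key : ∀ b : B, (∀ v, res (β.comp B.subtype) (c : Submodule R V)
          (fun b v hv => b.2 v hv) b v = v) → b = 1 := by
        intro b hb
        apply Subtype.ext
        apply hfaith
        apply faithful h2 hX β hN ha hfix c
        intro v hv
        exact congrArg Subtype.val (hb ⟨v, hv⟩)
      apply Subtype.ext
      show b = b'
      rw [key b hb, key b' hb']
    · exact ⟨⟨1, fun v => Subtype.ext (β.one _)⟩⟩
  rw [h3, one_mul] at h1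
  exact h1

include h2 hX hfix ha hN in
/-- **at most two components** -/
theorem card_le_two [Finite X] (hfaith : ∀ x, (∀ v, β x v = v) → x = 1) (c : isotypicComponents R V)
    {w : ℕ} (hw : 5 ≤ w) (hcV : Nat.card V = 2 ^ (2 * w)) (hcX : Nat.card X = 2 ^ (w - 1)) :
    Nat.card (isotypicComponents R V) = 1 ∨ Nat.card (isotypicComponents R V) = 2 := by
  have h1 := card_V h2 hX β hN ha hfix c
  have h3 := card_X h2 hX β hN ha hfix c
  have h4 := card_B h2 hX β hN ha hfix hfaith c
  have hp : Nat.Prime 2 := Nat.prime_two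
  obtain ⟨k, -, hk⟩ := (Nat.dvd_prime_pow hp).1
    (show Nat.card (isotypicComponents R V) ∣ 2 ^ (w - 1) by rw [← hcX, h3]; exact dvd_mul_right _ _)
  obtain ⟨j, -, hj⟩ := (Nat.dvd_prime_pow hp).1
    (show Nat.card (stab β hX (c : Submodule R V)) ∣ 2 ^ (w - 1) by rw [← hcX, h3]; exact dvd_mul_left _ _)
  obtain ⟨m, -, hm⟩ := (Nat.dvd_prime_pow hp).1
    (show Nat.card (c : Submodule R V) ∣ 2 ^ (2 * w) by
      rw [← hcV]; exact AddSubgroup.card_addSubgroup_dvd_card (c : Submodule R V).toAddSubgroup)
  rw [hk, hj, hcX, ← pow_add] at h3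
  rw [hm, hj, ← pow_succ] at h4
  rw [hk, hm, hcV, ← pow_mul] at h1
  have h5 : w - 1 = k + j := Nat.pow_right_injective (le_refl 2) h3
  have h6 : 2 * w = m * 2 ^ k := Nat.pow_right_injective (le_refl 2) h1
  have h7 : j + 1 ≤ m := (Nat.pow_le_pow_iff_right (by norm_num)).1 h4
  rw [hk]
  have hk4 : ∀ k, 4 ≤ k → 2 * k + 3 ≤ 2 ^ k := by
    intro k hk
    induction k, hk using Nat.le_induction with
    | base => norm_num
    | succ n hn ih => rw [pow_succ]; omega
  rcases lt_or_ge k 4 with hk' | hk'
  · interval_cases k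
    · left; norm_num
    · right; norm_num
    · exfalso; norm_num at h6; omega
    · exfalso; norm_num at h6; omega
  · exfalso
    have h8 := hk4 k hk'
    have h9 : m * (2 * k + 3) ≤ m * 2 ^ k := Nat.mul_le_mul_left _ h8
    have h10 : 1 ≤ m := by omega
    have h11 : w ≤ m + k := by omega
    nlinarith

end sys

end Cfsg.Agent.Omega.EH3.Clif
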