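import Cfsg.Agent.Omega.EH3.Clif.Act

/-!
# Clifford step of EH3: a simple module over a ring generated by two commuting subrings (helper291)

`U` a finite simple `R`-module, `R = R₁ R₂`, `R₁`, `R₂` commuting subrings, `M` a simple `R₁`-submodule.
* `iso_top` : `U` is `R₁`-isotypic of type `M`;
* `kill` : an element of `R₁` killing `M` kills `U`;
* `end_le` : `|End_{R₁}(M)| ≤ |End_R(U)|`;
* `hom_sub` : `|U| = |M|^n` and `Hom_{R₁}(M, U)` embeds in `U` as an `R₂`-submodule of order `|End_{R₁}(M)|^n`.
-/

set_option autoImplicit false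

namespace Cfsg.Agent.Omega.EH3.Clif

open Module

section gen

variable {V : Type*} [AddCommGroup V] {R : Type*} [Ring R] [Module R V]

/-- semisimplicity and isotypy from `isotypicComponent = ⊤` -/
theorem semisimple_of_top {M : Submodule R V} (hM : IsSimpleModule R M)
    (h : isotypicComponent R V M = ⊤) : IsSemisimpleModule R V := by
  have h1 : IsSemisimpleModule R (isotypicComponent R V M) := inferInstance
  rw [h] at h1
  exact IsSemisimpleModule.congr (Submodule.topEquiv (R := R) (M := V)).symm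

/-- an element killing `M` kills the `M`-isotypic component -/
theorem kill_comp {M : Submodule R V} {r : R} (hr : ∀ m ∈ M, r • m = 0) :
    ∀ v ∈ isotypicComponent R V M, r • v = 0 := by
  intro v hv
  rw [isotypicComponent, sSup_eq_iSup'] at hv
  induction hv using Submodule.iSup_induction' with
  | mem i x hx =>
    obtain ⟨φ⟩ := i.2
    have h1 : r • (⟨x, hx⟩ : i.1) = 0 := by
      apply φ.injective
      rw [map_smul, map_zero]
      exact Subtype.ext (hr _ (φ ⟨x, hx⟩).2)
    exact congrArg Subtype.val h1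
  | zero => exact smul_zero r
  | add x y _ _ hx hy => rw [smul_add, hx, hy, add_zero]

/-- orders of a homogeneous module, of a submodule and of the space of homomorphisms -/
theorem card_iso [Finite V] {M : Submodule R V} (hM : IsSimpleModule R M)
    (h : isotypicComponent R V M = ⊤) :
    ∃ n, Nat.card V = Nat.card M ^ n ∧ Nat.card (M →ₗ[R] V) = Nat.card (Module.End R M) ^ n := by
  have h1 := semisimple_of_top hM h
  have h2 : IsIsotypicOfType R V M := IsIsotypicOfType.of_isotypicComponent_eq_top h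
  have : Module.Finite R V := Module.Finite.of_finite
  obtain ⟨n, ⟨φ⟩⟩ := h2.linearEquiv_fun
  refine ⟨n, ?_, ?_⟩
  · rw [Nat.card_congr φ.toEquiv, Nat.card_fun, Nat.card_fin]
  · have e : (M →ₗ[R] V) ≃ (Fin n → Module.End R M) :=
      { toFun := fun f i => (LinearMap.proj i) ∘ₗ (φ : V →ₗ[R] (Fin n → M)) ∘ₗ f
        invFun := fun F => (φ.symm : (Fin n → M) →ₗ[R] V) ∘ₗ (LinearMap.pi F)
        left_inv := by
          intro f
          ext m
          show φ.symm (fun i => φ (f m) i) = f m
          exact φ.symm_apply_apply _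
        right_inv := by
          intro F
          funext i
          ext m
          show ((φ (φ.symm (fun i => F i m)) i : M) : V) = F i m
          rw [φ.apply_symm_apply] }
    rw [Nat.card_congr e, Nat.card_fun, Nat.card_fin]

/-- the order of a submodule of a homogeneous module -/
theorem card_sub [Finite V] {M : Submodule R V} (hM : IsSimpleModule R M)
    (h : isotypicComponent R V M = ⊤) (Y : Submodule R V) : ∃ j, Nat.card Y = Nat.card M ^ j := by
  have h1 := semisimple_of_top hM h
  have h2 : IsIsotypicOfType R V M := IsIsotypicOfType.of_isotypicComponent_eq_top h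
  have h3 : IsIsotypicOfType R Y M := h2.of_injective Y.subtype Y.subtype_injective
  have : Module.Finite R Y := Module.Finite.of_finite
  obtain ⟨n, ⟨φ⟩⟩ := h3.linearEquiv_fun
  exact ⟨n, by rw [Nat.card_congr φ.toEquiv, Nat.card_fun, Nat.card_fin]⟩

/-- all simple submodules have the same order -/
theorem card_simple {M : Submodule R V} (hM : IsSimpleModule R M)
    (h : isotypicComponent R V M = ⊤) {M' : Submodule R V} (hM' : IsSimpleModule R M') :
    Nat.card M' = Nat.card M := by
  have h2 : IsIsotypicOfType R V M := IsIsotypicOfType.of_isotypicComponent_eq_top h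
  obtain ⟨φ⟩ := h2 M'
  exact Nat.card_congr φ.toEquiv

theorem comp_top_of_simple {M : Submodule R V} (hM : IsSimpleModule R M)
    (h : isotypicComponent R V M = ⊤) {M' : Submodule R V} (hM' : IsSimpleModule R M') :
    isotypicComponent R V M' = ⊤ := by
  have h2 : IsIsotypicOfType R V M := IsIsotypicOfType.of_isotypicComponent_eq_top h
  obtain ⟨φ⟩ := h2 M'
  rw [φ.isotypicComponent_eq, h]

end gen

section two

variable {U : Type*} [AddCommGroup U] {R : Type*} [Ring R] [Module R U]
  {R₁ R₂ : Subring R}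

theorem smul_def {T : Subring R} (r : T) (u : U) : r • u = (r : R) • u := rfl

/-- left multiplication by an element of `R₂` is `R₁`-linear -/
def lmul (hc : ∀ x ∈ R₁, ∀ y ∈ R₂, x * y = y * x) (y : R₂) : U →ₗ[R₁] U where
  toFun u := (y : R) • u
  map_add' := smul_add _
  map_smul' := by
    intro x u
    show (y : R) • ((x : R) • u) = (x : R) • ((y : R) • u)
    rw [smul_smul, smul_smul, hc x x.2 y y.2]

/-- an additive subgroup stable under `R₁` and `R₂` is stable under `R` -/
theorem stable (hg : R₁ ⊔ R₂ = ⊤) (W : AddSubgroup U) (h1 : ∀ x ∈ R₁, ∀ u ∈ W, x • u ∈ W)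
    (h2 : ∀ x ∈ R₂, ∀ u ∈ W, x • u ∈ W) (x : R) : ∀ u ∈ W, x • u ∈ W := by
  let T : Subring R :=
    { carrier := {x | ∀ u ∈ W, x • u ∈ W}
      mul_mem' := by
        intro x y hx hy u hu
        rw [mul_smul]; exact hx _ (hy u hu)
      one_mem' := by
        intro u hu
        rw [one_smul]; exact hu
      add_mem' := by
        intro x y hx hy u hu
        rw [add_smul]; exact W.add_mem (hx u hu) (hy u hu)
      zero_mem' := by
        intro u _
        rw [zero_smul]; exact W.zero_mem
      neg_mem' := by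
        intro x hx u hu
        rw [neg_smul]; exact W.neg_mem (hx u hu) }
  have h3 : R₁ ⊔ R₂ ≤ T := sup_le h1 h2
  rw [hg] at h3
  exact h3 (Subring.mem_top x)

/-- an additive map commuting with `R₁` and `R₂` commutes with `R` -/
theorem linear (hg : R₁ ⊔ R₂ = ⊤) (F : U →+ U) (h1 : ∀ x ∈ R₁, ∀ u, F (x • u) = x • F u)
    (h2 : ∀ x ∈ R₂, ∀ u, F (x • u) = x • F u) (x : R) : ∀ u, F (x • u) = x • F u := by
  let T : Subring R :=
    { carrier := {x | ∀ u, F (x • u) = x • F u}
      mul_mem' := by
        intro x y hx hy u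
        rw [mul_smul, hx, hy, mul_smul]
      one_mem' := by
        intro u
        rw [one_smul, one_smul]
      add_mem' := by
        intro x y hx hy u
        rw [add_smul, add_smul, map_add, hx, hy]
      zero_mem' := by
        intro u
        rw [zero_smul, zero_smul, map_zero]
      neg_mem' := by
        intro x hx u
        rw [neg_smul, neg_smul, map_neg, hx] }
  have h3 : R₁ ⊔ R₂ ≤ T := sup_le h1 h2
  rw [hg] at h3
  exact h3 (Subring.mem_top x)

/-- **`U` is `R₁`-homogeneous** -/
theorem iso_top (hs : IsSimpleModule R U) (hc : ∀ x ∈ R₁, ∀ y ∈ R₂, x * y = y * x)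
    (hg : R₁ ⊔ R₂ = ⊤) {M : Submodule R₁ U} (hM : IsSimpleModule R₁ M) :
    isotypicComponent R₁ U M = ⊤ := by
  let W : Submodule R U :=
    { carrier := {u | u ∈ isotypicComponent R₁ U M}
      add_mem' := fun hu hv => (isotypicComponent R₁ U M).add_mem hu hv
      zero_mem' := (isotypicComponent R₁ U M).zero_mem
      smul_mem' := by
        intro x u hu
        refine stable hg (isotypicComponent R₁ U M).toAddSubgroup ?_ ?_ x u hu
        · intro y hy v hv
          exact (isotypicComponent R₁ U M).smul_mem ⟨y, hy⟩ hv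
        · intro y hy v hv
          exact LinearMap.le_comap_isotypicComponent M (lmul (U := U) hc ⟨y, hy⟩) hv }
  have hW : W = ⊤ := by
    rcases eq_bot_or_eq_top W with h | h
    · exfalso
      have h1 := bot_lt_isotypicComponent M
      obtain ⟨u, hu, hu0⟩ := Submodule.exists_mem_ne_zero_of_ne_bot h1.ne'
      apply hu0
      have h2 : u ∈ W := hu
      rw [h, Submodule.mem_bot] at h2
      exact h2
    · exact h
  rw [eq_top_iff]
  intro u _
  have : u ∈ W := by rw [hW]; exact Submodule.mem_top
  exact this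

/-- the diagonal action -/
theorem end_le [Finite U] (hs : IsSimpleModule R U) (hc : ∀ x ∈ R₁, ∀ y ∈ R₂, x * y = y * x)
    (hg : R₁ ⊔ R₂ = ⊤) {M : Submodule R₁ U} (hM : IsSimpleModule R₁ M) :
    Nat.card (Module.End R₁ M) ≤ Nat.card (Module.End R U) := by
  classical
  have h := iso_top hs hc hg hM
  have h1 := semisimple_of_top hM h
  have h2 : IsIsotypicOfType R₁ U M := IsIsotypicOfType.of_isotypicComponent_eq_top h
  have : Module.Finite R₁ U := Module.Finite.of_finite
  obtain ⟨n, ⟨φ⟩⟩ := h2.linearEquiv_fun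
  have hcomm : ∀ d d' : Module.End R₁ M, d * d' = d' * d := by
    intro d d'
    let _ := littleWedderburn (Module.End R₁ M)
    exact mul_comm d d'
  -- the diagonal map
  let dg : Module.End R₁ M → ((Fin n → M) →ₗ[R₁] (Fin n → M)) := fun d =>
    LinearMap.pi fun i => d ∘ₗ LinearMap.proj i
  have hdg : ∀ d v i, dg d v i = d (v i) := fun _ _ _ => rfl
  have hcent : ∀ d (f : (Fin n → M) →ₗ[R₁] (Fin n → M)) v, f (dg d v) = dg d (f v) := by
    intro d f v
    have h3 : ∀ (j : Fin n) (m : M), f (dg d (Pi.single j m)) = dg d (f (Pi.single j m)) := by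
      intro j m
      funext i
      rw [hdg]
      have h4 : dg d (Pi.single j m) = Pi.single j (d m) := by
        funext k
        rw [hdg]
        by_cases hk : k = j
        · subst hk; rw [Pi.single_eq_same, Pi.single_eq_same]
        · rw [Pi.single_eq_of_ne hk, Pi.single_eq_of_ne hk, map_zero]
      rw [h4]
      let g : Module.End R₁ M := LinearMap.proj i ∘ₗ f ∘ₗ LinearMap.single R₁ (fun _ => M) j
      have h5 := LinearMap.congr_fun (hcomm g d) m
      exact h5
    have h4 : v = ∑ j, Pi.single j (v j) := (Finset.univ_sum_single v).symm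
    rw [h4, map_sum, map_sum, map_sum, map_sum]
    exact Finset.sum_congr rfl fun j _ => h3 j (v j)
  let Ψ : Module.End R₁ M → Module.End R U := fun d =>
    { toFun := fun u => φ.symm (dg d (φ u))
      map_add' := by intro u v; rw [map_add, map_add, map_add]
      map_smul' := by
        intro x u
        let F : U →+ U :=
          { toFun := fun u => φ.symm (dg d (φ u))
            map_zero' := by rw [map_zero, map_zero, map_zero]
            map_add' := by intro u v; rw [map_add, map_add, map_add] }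
        refine linear hg F ?_ ?_ x u
        · intro y hy u
          show φ.symm (dg d (φ ((⟨y, hy⟩ : R₁) • u))) = (⟨y, hy⟩ : R₁) • φ.symm (dg d (φ u))
          rw [map_smul, map_smul, map_smul]
        · intro y hy u
          show φ.symm (dg d (φ (lmul (U := U) hc ⟨y, hy⟩ u))) = lmul (U := U) hc ⟨y, hy⟩ (φ.symm (dg d (φ u)))
          have h5 := hcent d ((φ : U →ₗ[R₁] _) ∘ₗ lmul (U := U) hc ⟨y, hy⟩ ∘ₗ (φ.symm : _ →ₗ[R₁] U)) (φ u)
          have h6 : φ (lmul (U := U) hc ⟨y, hy⟩ (φ.symm (dg d (φ u)))) =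
              dg d (φ (lmul (U := U) hc ⟨y, hy⟩ (φ.symm (φ u)))) := h5
          rw [φ.symm_apply_apply] at h6
          rw [← h6, φ.symm_apply_apply] }
  apply Nat.card_le_card_of_injective Ψ
  intro d d' hdd
  have hn : 0 < n := by
    rw [pos_iff_ne_zero]
    rintro rfl
    have : Nontrivial U := IsSimpleModule.nontrivial R U
    obtain ⟨u, hu⟩ := exists_ne (0 : U)
    apply hu
    apply φ.injective
    exact Subsingleton.elim _ _
  have h3 := LinearMap.congr_fun hdd (φ.symm (Pi.single ⟨0, hn⟩ (0 : M)))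
  ext m
  have h4 := LinearMap.congr_fun hdd (φ.symm (Pi.single ⟨0, hn⟩ m))
  have h5 : φ.symm (dg d (φ (φ.symm (Pi.single ⟨0, hn⟩ m)))) =
      φ.symm (dg d' (φ (φ.symm (Pi.single ⟨0, hn⟩ m)))) := h4
  rw [φ.apply_symm_apply] at h5
  have h6 := congrFun (φ.symm.injective h5) ⟨0, hn⟩
  rw [hdg, hdg, Pi.single_eq_same] at h6
  rw [h6]

/-- **`Hom_{R₁}(M, U)` as an `R₂`-submodule of `U`** -/
theorem hom_sub [Finite U] (hs : IsSimpleModule R U) (hc : ∀ x ∈ R₁, ∀ y ∈ R₂, x * y = y * x)
    (hg : R₁ ⊔ R₂ = ⊤) {M : Submodule R₁ U} (hM : IsSimpleModule R₁ M) {e : U} (he : e ∈ M)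
    (he0 : e ≠ 0) : ∃ n, Nat.card U = Nat.card M ^ n ∧ ∃ Y : Submodule R₂ U, e ∈ Y ∧
      Nat.card Y = Nat.card (Module.End R₁ M) ^ n := by
  have h := iso_top hs hc hg hM
  obtain ⟨n, h1, h2⟩ := card_iso hM h
  refine ⟨n, h1, ?_⟩
  let Y : Submodule R₂ U :=
    { carrier := {u | ∃ f : M →ₗ[R₁] U, f ⟨e, he⟩ = u}
      add_mem' := by
        rintro _ _ ⟨f, rfl⟩ ⟨g, rfl⟩
        exact ⟨f + g, rfl⟩
      zero_mem' := ⟨0, rfl⟩
      smul_mem' := by
        rintro y _ ⟨f, rfl⟩
        exact ⟨lmul (U := U) hc y ∘ₗ f, rfl⟩ }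
  refine ⟨Y, ⟨M.subtype, rfl⟩, ?_⟩
  rw [← h2]
  symm
  apply Nat.card_congr
  refine Equiv.ofBijective (fun f : M →ₗ[R₁] U => (⟨f ⟨e, he⟩, ⟨f, rfl⟩⟩ : Y)) ⟨?_, ?_⟩
  · intro f g hfg
    have h3 : f ⟨e, he⟩ = g ⟨e, he⟩ := congrArg Subtype.val hfg
    have h4 : (f - g) ⟨e, he⟩ = 0 := by rw [LinearMap.sub_apply, h3, sub_self]
    rcases (f - g).injective_or_eq_zero with h5 | h5
    · exfalso
      apply he0
      have h6 := h5 (h4.trans (map_zero _).symm)
      exact congrArg Subtype.val h6
    · exact sub_eq_zero.1 h5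
  · rintro ⟨u, f, hf⟩
    exact ⟨f, Subtype.ext hf⟩

end two

end Cfsg.Agent.Omega.EH3.Clif
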